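import Cfsg.Agent.MC.Def
import Cfsg.Agent.BW.Z2
import Cfsg.Agent.H8.SL2b

/-! Facts on `L₂(q)`, part a: centralizers of semisimple elements (see `notes/mc_plan.md`). -/

set_option autoImplicit false
set_option linter.unusedSectionVars false

namespace Cfsg.Agent.MC

open Subgroup Cfsg.Agent.FT Cfsg.Agent.H1
open scoped MatrixGroups

namespace PF

variable {F : Type} [Field F] {g h x y a b : SL(2, F)} {τ : F}

/-- the projection -/
abbrev pr : SL(2, F) →* L2 F := QuotientGroup.mk' _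
/-- the trace -/
def tr (g : SL(2, F)) : F := g 0 0 + g 1 1

theorem pr_surj (z : L2 F) : ∃ g, pr g = z := QuotientGroup.mk'_surjective _ z
theorem det2 (g : SL(2, F)) : g 0 0 * g 1 1 - g 0 1 * g 1 0 = 1 := by
  rw [← Matrix.det_fin_two]; exact g.det_coe
theorem ext2 : g = h ↔ g 0 0 = h 0 0 ∧ g 0 1 = h 0 1 ∧ g 1 0 = h 1 0 ∧ g 1 1 = h 1 1 :=
  ⟨fun e => by simp [e], fun ⟨e1, e2, e3, e4⟩ => by
    ext i j; fin_cases i <;> fin_cases j <;> assumption⟩
theorem mul2 (g h : SL(2, F)) (i j : Fin 2) : (g * h) i j = g i 0 * h 0 j + g i 1 * h 1 j := by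
  simp [Matrix.mul_apply, Fin.sum_univ_two]
theorem neg2 (g : SL(2, F)) (i j : Fin 2) : (-g) i j = -g i j := rfl
theorem one2 : (1 : SL(2, F)) 0 0 = 1 ∧ (1 : SL(2, F)) 0 1 = 0 ∧ (1 : SL(2, F)) 1 0 = 0 ∧
    (1 : SL(2, F)) 1 1 = 1 := by simp
theorem inv2 (g : SL(2, F)) : g⁻¹ 0 0 = g 1 1 ∧ g⁻¹ 0 1 = -g 0 1 ∧ g⁻¹ 1 0 = -g 1 0 ∧
    g⁻¹ 1 1 = g 0 0 := by
  rw [Matrix.SpecialLinearGroup.SL2_inv_expl]; exact ⟨rfl, rfl, rfl, rfl⟩
theorem mem_cen : g ∈ center SL(2, F) ↔ g = 1 ∨ g = -1 :=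
  ⟨H8.mem_center_SL2, by rintro (rfl | rfl) <;> exact mem_center_iff.2 (by simp)⟩
theorem pr_eq_one : pr g = 1 ↔ g ∈ center SL(2, F) := QuotientGroup.eq_one_iff g
theorem pr_neg (g : SL(2, F)) : pr (-g) = pr g := by
  rw [← neg_one_mul, map_mul, pr_eq_one.2 (mem_cen.2 (.inr rfl)), one_mul]
theorem pr_eq : pr g = pr h ↔ g = h ∨ g = -h := by
  rw [← mul_inv_eq_one, ← map_inv, ← map_mul, pr_eq_one, mem_cen, mul_inv_eq_one,
    mul_inv_eq_iff_eq_mul, neg_one_mul]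
theorem tr_conj (g x : SL(2, F)) : tr (g * x * g⁻¹) = tr x := by
  simp only [tr, mul2, inv2 g]
  linear_combination (x 0 0 + x 1 1) * det2 g
theorem tr_neg (x : SL(2, F)) : tr (-x) = -tr x := by simp only [tr, neg2]; ring
theorem tr_inv (x : SL(2, F)) : tr x⁻¹ = tr x := by simp only [tr, inv2 x]; ring
theorem sq_of_tr (h : tr x = 0) : x * x = -1 := by
  have := det2 x
  simp only [tr] at h
  simp only [ext2, mul2, neg2, one2]
  refine ⟨?_, ?_, ?_, ?_⟩
  · linear_combination x 0 0 * h - this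
  · linear_combination x 0 1 * h
  · linear_combination x 1 0 * h
  · linear_combination x 1 1 * h - this
theorem neg_eq (h2 : (2 : F) = 0) (x : SL(2, F)) : -x = x := by
  simp only [ext2, neg2]
  refine ⟨?_, ?_, ?_, ?_⟩ <;> linear_combination (-_) * h2
theorem lift (h1 : pr x * pr x ≠ 1) (h : pr g * pr x = pr x * pr g) : g * x = x * g := by
  rw [← map_mul, ← map_mul, pr_eq] at h
  refine h.elim id fun h => ?_
  by_cases h2 : (2 : F) = 0
  · rwa [neg_eq h2] at h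
  have e := tr_conj g x
  rw [h, neg_mul, mul_inv_cancel_right, tr_neg] at e
  rw [← map_mul, sq_of_tr (mul_left_cancel₀ h2 (by linear_combination -e)), pr_neg, map_one] at h1
  exact absurd rfl h1
theorem exists_ab (h1 : x ∉ center SL(2, F)) (h : a * x = x * a) : ∃ α β : F,
    a 0 0 = α + β * x 0 0 ∧ a 0 1 = β * x 0 1 ∧ a 1 0 = β * x 1 0 ∧ a 1 1 = α + β * x 1 1 := by
  simp only [ext2, mul2] at h
  obtain ⟨e1, e2, e3, -⟩ := h
  by_cases k1 : x 0 1 = 0
  · by_cases k2 : x 1 0 = 0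
    · have k3 : x 0 0 - x 1 1 ≠ 0 := fun k3 => h1 (mem_center_iff.2 fun g => by
        simp only [ext2, mul2, k1, k2, sub_eq_zero.1 k3]
        refine ⟨?_, ?_, ?_, ?_⟩ <;> ring)
      refine ⟨a 0 0 - (a 0 0 - a 1 1) / (x 0 0 - x 1 1) * x 0 0, (a 0 0 - a 1 1) / (x 0 0 - x 1 1),
        by ring, ?_, ?_, ?_⟩ <;> field_simp
      · linear_combination -e2
      · linear_combination e3
      · ring
    refine ⟨a 0 0 - a 1 0 / x 1 0 * x 0 0, a 1 0 / x 1 0, by ring, ?_, ?_, ?_⟩ <;> field_simp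
    · linear_combination e1
    · linear_combination e3
  refine ⟨a 0 0 - a 0 1 / x 0 1 * x 0 0, a 0 1 / x 0 1, by ring, ?_, ?_, ?_⟩ <;> field_simp
  · linear_combination -e1
  · linear_combination -e2
theorem cen_comm (h1 : x ∉ center SL(2, F)) (ha : a * x = x * a) (hb : b * x = x * b) :
    a * b = b * a := by
  obtain ⟨α, β, e1, e2, e3, e4⟩ := exists_ab h1 ha
  obtain ⟨γ, δ, f1, f2, f3, f4⟩ := exists_ab h1 hb
  simp only [ext2, mul2, e1, e2, e3, e4, f1, f2, f3, f4]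
  refine ⟨?_, ?_, ?_, ?_⟩ <;> ring
theorem not_cen (h : tr x ^ 2 ≠ 4) : x ∉ center SL(2, F) := fun k => h (by
  rcases mem_cen.1 k with rfl | rfl <;> simp only [tr, neg2, one2] <;> ring)
theorem same_tr (h : tr x ^ 2 ≠ 4) (h1 : y * x = x * y) (h2 : tr y = tr x) :
    pr y = pr x ∨ pr y = (pr x)⁻¹ := by
  obtain ⟨α, β, e1, e2, e3, e4⟩ := exists_ab (not_cen h) h1
  have d := det2 y
  have d' := det2 x
  simp only [tr] at h h2
  rw [e1, e2, e3, e4] at d
  rw [e1, e4] at h2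
  have k1 : (β - 1) * (β + 1) = 0 := mul_left_cancel₀ (sub_ne_zero.2 h) (by
    linear_combination (2 * α + (β + 1) * (x 0 0 + x 1 1)) * h2 - 4 * d + 4 * β ^ 2 * d')
  have k2 : α * (α + β * (x 0 0 + x 1 1)) = 0 := by linear_combination d - β ^ 2 * d' - k1
  rw [← map_inv, pr_eq, pr_eq]
  simp only [ext2, neg2, inv2 x, e1, e2, e3, e4]
  rcases mul_eq_zero.1 k1 with k | k <;> rcases mul_eq_zero.1 k2 with j | j
  · exact .inl (.inl (by simp [j, sub_eq_zero.1 k]))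
  · obtain rfl := sub_eq_zero.1 k
    exact .inr (.inr ⟨by linear_combination j, by ring, by ring, by linear_combination j⟩)
  · exact .inl (.inr (by simp [j, eq_neg_of_add_eq_zero_left k]))
  · obtain rfl := eq_neg_of_add_eq_zero_left k
    exact .inr (.inl ⟨by linear_combination j, by ring, by ring, by linear_combination j⟩)

/-- the matrix with given entries -/
def mk2 (a b c d : F) (h : a * d - b * c = 1) : SL(2, F) :=
  ⟨!![a, b; c, d], by rw [Matrix.det_fin_two_of, h]⟩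
theorem mk22 (a b c d : F) (h : a * d - b * c = 1) : mk2 a b c d h 0 0 = a ∧ mk2 a b c d h 0 1 = b ∧
    mk2 a b c d h 1 0 = c ∧ mk2 a b c d h 1 1 = d := ⟨rfl, rfl, rfl, rfl⟩
/-- the companion matrix -/
def W (τ : F) : SL(2, F) := mk2 0 (-1) 1 τ (by simp)
theorem W2 : W τ 0 0 = 0 ∧ W τ 0 1 = -1 ∧ W τ 1 0 = 1 ∧ W τ 1 1 = τ := ⟨rfl, rfl, rfl, rfl⟩
theorem tr_W (τ : F) : tr (W τ) = τ := zero_add τ
/-- the diagonal torus -/
def D : Fˣ →* SL(2, F) where
  toFun u := mk2 u 0 0 (u⁻¹ : Fˣ) (by simp)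
  map_one' := by simp only [ext2, mk22, one2]; simp
  map_mul' u v := by simp only [ext2, mul2, mk22]; simp [mul_comm]
theorem D2 (u : Fˣ) : D u 0 0 = u ∧ D u 0 1 = 0 ∧ D u 1 0 = 0 ∧ D u 1 1 = (u⁻¹ : Fˣ) :=
  ⟨rfl, rfl, rfl, rfl⟩
theorem D_inj : Function.Injective (D : Fˣ → SL(2, F)) := fun _ _ e => Units.ext (ext2.1 e).1
theorem mem_D (h1 : g 0 1 = 0) (h2 : g 1 0 = 0) : g ∈ (D : Fˣ →* SL(2, F)).range := by
  have d := det2 g
  rw [h1, zero_mul, sub_zero] at d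
  exact ⟨⟨g 0 0, g 1 1, d, (mul_comm _ _).trans d⟩, ext2.2 ⟨rfl, h1.symm, h2.symm, rfl⟩⟩
theorem cen_D {u : Fˣ} (h : tr (D u) ^ 2 ≠ 4) : 𝐂[D u] = (D : Fˣ →* SL(2, F)).range := by
  ext g
  rw [mem_cent1_iff]
  constructor
  · intro e
    obtain ⟨α, β, -, e2, e3, -⟩ := exists_ab (not_cen h) e
    exact mem_D (e2.trans (mul_zero β)) (e3.trans (mul_zero β))
  · rintro ⟨v, rfl⟩
    rw [← map_mul, ← map_mul, mul_comm]

variable [Fintype F]

theorem qf {A B C : F} (h : B ^ 2 - 4 * A * C ≠ 0) (c : F) :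
    ∃ u v : F, A * u ^ 2 + B * u * v + C * v ^ 2 = c := by
  by_cases hA : A = 0
  · have hB : B ≠ 0 := fun e => h (by rw [hA, e]; ring)
    exact ⟨(c - C) / B, 1, by rw [hA]; field_simp; ring⟩
  by_cases h2 : ringChar F = 2
  · obtain ⟨u, hu⟩ := FiniteField.isSquare_of_char_two h2 (c / A)
    exact ⟨u, 0, by rw [pow_two, ← hu]; field_simp; ring⟩
  have h3 : (2 : F) ≠ 0 := Ring.two_ne_zero h2
  obtain ⟨u, v, e⟩ := FiniteField.exists_root_sum_quadratic
    (f := Polynomial.C 1 * Polynomial.X ^ 2 + Polynomial.C 0 * Polynomial.X + Polynomial.C (-(4 * A * c)))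
    (g := Polynomial.C (-(B ^ 2 - 4 * A * C)) * Polynomial.X ^ 2 + Polynomial.C 0 * Polynomial.X +
      Polynomial.C 0) (Polynomial.degree_quadratic one_ne_zero)
    (Polynomial.degree_quadratic (neg_ne_zero.2 h)) (FiniteField.odd_card_of_char_ne_two h2)
  simp only [Polynomial.eval_add, Polynomial.eval_mul, Polynomial.eval_C, Polynomial.eval_pow,
    Polynomial.eval_X] at e
  refine ⟨(u - B * v) / (2 * A), v, ?_⟩
  field_simp
  linear_combination e
theorem conj_W (h : tr x ^ 2 ≠ 4) : ∃ P, P * W (tr x) * P⁻¹ = x := by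
  have d := det2 x
  simp only [tr] at h
  obtain ⟨u, v, e⟩ := qf (A := x 1 0) (B := x 1 1 - x 0 0) (C := -x 0 1)
    (fun k => h (by linear_combination k + 4 * d)) 1
  obtain ⟨P, p1, p2, p3, p4⟩ := BW.Z2.exists_SL u (x 0 0 * u + x 0 1 * v) v (x 1 0 * u + x 1 1 * v)
    (by linear_combination e)
  refine ⟨P, mul_inv_eq_iff_eq_mul.2 ?_⟩
  simp only [ext2, mul2, W2, p1, p2, p3, p4, tr]
  refine ⟨by ring, ?_, by ring, ?_⟩
  · linear_combination u * d
  · linear_combination v * d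
theorem conj_of_tr (h : tr x ^ 2 ≠ 4) (h1 : tr y = tr x) : ∃ P, P * x * P⁻¹ = y := by
  obtain ⟨P, e⟩ := conj_W h
  obtain ⟨Q, f⟩ := conj_W (h1 ▸ h : tr y ^ 2 ≠ 4)
  exact ⟨Q * P⁻¹, by rw [← f, h1]; (conv_lhs => rw [← e]); group⟩
theorem exists_s (h : tr x ^ 2 ≠ 4) : ∃ s : SL(2, F), s * s = -1 ∧
    ∀ y, y * x = x * y → s * y * s⁻¹ = y⁻¹ := by
  obtain ⟨s, e⟩ := conj_of_tr h (tr_inv x)
  simp only [mul_inv_eq_iff_eq_mul, ext2, mul2, inv2 x] at e
  obtain ⟨e1, e2, e3, e4⟩ := e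
  have d := det2 x
  have t : s 0 0 + s 1 1 = 0 := mul_left_cancel₀ (sub_ne_zero.2 h) (by
    simp only [tr]
    linear_combination (-(x 0 0 + x 1 1)) * (e1 + e4) + 2 * (x 0 0 * e1 + x 1 0 * e2 + x 0 1 * e3 + x 1 1 * e4)
      + 4 * (s 0 0 + s 1 1) * d)
  refine ⟨s, sq_of_tr t, fun y hy => ?_⟩
  obtain ⟨α, β, f1, f2, f3, f4⟩ := exists_ab (not_cen h) hy
  simp only [mul_inv_eq_iff_eq_mul, ext2, mul2, inv2 y, f1, f2, f3, f4]
  exact ⟨by linear_combination β * e1, by linear_combination β * e2, by linear_combination β * e3,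
    by linear_combination β * e4⟩
theorem cen_W (h : ∀ r : F, r ^ 2 ≠ -1 + τ * r) : IsCyclic 𝐂[W τ] ∧ ♯𝐂[W τ] = Fintype.card F + 1 := by
  haveI := Fact.mk h
  have h4 : τ ^ 2 ≠ 4 := fun e => by
    rcases mul_eq_zero.1 (by linear_combination e : (τ - 2) * (τ + 2) = 0) with k | k
    · exact h 1 (by linear_combination -k)
    · exact h (-1) (by linear_combination k)
  haveI : Finite (QuadraticAlgebra F (-1) τ) := Finite.of_equiv _ (QuadraticAlgebra.equivProd _ _).symm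
  let N : (QuadraticAlgebra F (-1) τ)ˣ →* Fˣ := Units.map QuadraticAlgebra.norm
  have hN : ∀ z : N.ker, z.1.1.re * (z.1.1.re + τ * z.1.1.im) - -z.1.1.im * z.1.1.im = 1 := fun z => by
    have := congrArg Units.val (MonoidHom.mem_ker.1 z.2)
    simp only [N, Units.coe_map, QuadraticAlgebra.norm_def, Units.val_one] at this
    linear_combination this
  let j : N.ker →* SL(2, F) :=
    { toFun z := mk2 _ _ _ _ (hN z)
      map_one' := by
        simp only [ext2, mk22, one2]; simp [QuadraticAlgebra.re_one, QuadraticAlgebra.im_one]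
      map_mul' z w := by
        simp only [ext2, mul2, mk22, coe_mul, Units.val_mul, QuadraticAlgebra.re_mul,
          QuadraticAlgebra.im_mul]
        refine ⟨?_, ?_, ?_, ?_⟩ <;> ring }
  have j2 : ∀ z, j z 0 0 = z.1.1.re ∧ j z 0 1 = -z.1.1.im ∧ j z 1 0 = z.1.1.im ∧
      j z 1 1 = z.1.1.re + τ * z.1.1.im := fun z => ⟨rfl, rfl, rfl, rfl⟩
  have j1 : Function.Injective j := fun z w e =>
    Subtype.ext (Units.ext (QuadraticAlgebra.ext (ext2.1 e).1 (ext2.1 e).2.2.1))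
  have nz : ∀ u v : F, ∀ c : Fˣ, 1 * u ^ 2 + τ * u * v + 1 * v ^ 2 = c →
      ∃ z : (QuadraticAlgebra F (-1) τ)ˣ, N z = c ∧ z.1.re = u ∧ z.1.im = v := fun u v c e => by
    have k : QuadraticAlgebra.norm (⟨u, v⟩ : QuadraticAlgebra F (-1) τ) = c := by
      rw [QuadraticAlgebra.norm_def]; linear_combination e
    exact ⟨Units.mk0 ⟨u, v⟩ fun k1 => c.ne_zero (by rw [← k, k1, QuadraticAlgebra.norm_zero]),
      Units.ext k, rfl, rfl⟩
  have e : 𝐂[W τ] = j.range := by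
    ext g
    rw [mem_cent1_iff]
    constructor
    · intro e
      obtain ⟨α, β, e1, e2, e3, e4⟩ := exists_ab (not_cen ((tr_W τ).symm ▸ h4)) e
      have d := det2 g
      simp only [W2] at e1 e2 e3 e4
      rw [e1, e2, e3, e4] at d
      obtain ⟨z, z1, z2, z3⟩ := nz α β 1 (by rw [Units.val_one]; linear_combination d)
      refine ⟨⟨z, z1⟩, ?_⟩
      simp only [ext2, j2, z2, z3, e1, e2, e3, e4]
      refine ⟨?_, ?_, ?_, ?_⟩ <;> ring
    · rintro ⟨z, rfl⟩
      simp only [ext2, mul2, j2, W2]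
      refine ⟨?_, ?_, ?_, ?_⟩ <;> ring
  have hs : N.range = ⊤ := eq_top_iff.2 fun c _ => by
    obtain ⟨u, v, k⟩ := qf (A := 1) (B := τ) (C := 1) (fun k => h4 (by linear_combination k)) c
    exact (nz u v c k).imp fun _ k => k.1
  have c := N.ker.card_mul_index
  rw [index_ker, hs, card_top, Nat.card_units, Nat.card_units,
    Nat.card_congr (QuadraticAlgebra.equivProd _ _), Nat.card_prod, Nat.card_eq_fintype_card (α := F)] at c
  rw [e]
  refine ⟨isCyclic_of_surjective _ j.rangeRestrict_surjective, ?_⟩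
  rw [← Nat.card_congr (MonoidHom.ofInjective j1).toEquiv]
  have := Fintype.one_lt_card (α := F)
  refine Nat.eq_of_mul_eq_mul_right (by omega : 0 < Fintype.card F - 1) (c.trans ?_)
  obtain ⟨m, hm⟩ : ∃ m, Fintype.card F = m + 1 := ⟨_, (Nat.sub_add_cancel this.le).symm⟩
  rw [hm, Nat.add_sub_cancel]
  exact Nat.sub_eq_of_eq_add (by ring)
theorem D_range : IsCyclic (D : Fˣ →* SL(2, F)).range ∧
    ♯(D : Fˣ →* SL(2, F)).range + 1 = Fintype.card F :=
  ⟨isCyclic_of_surjective _ D.rangeRestrict_surjective, by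
    rw [← Nat.card_congr (MonoidHom.ofInjective D_inj).toEquiv, ← Nat.card_eq_card_units_add_one,
      Nat.card_eq_fintype_card]⟩
theorem torus (h : tr x ^ 2 ≠ 4) :
    IsCyclic 𝐂[x] ∧ (♯𝐂[x] + 1 = Fintype.card F ∨ ♯𝐂[x] = Fintype.card F + 1) := by
  by_cases k : ∀ r : F, r ^ 2 ≠ -1 + tr x * r
  · obtain ⟨P, e⟩ := conj_W h
    rw [← e, ← cj_cent1, card_cj]
    exact ⟨isCyclic_cj P (cen_W k).1, .inr (cen_W k).2⟩
  push Not at k
  obtain ⟨r, k⟩ := k
  have r0 : r ≠ 0 := fun e => by simp [e] at k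
  have t : tr x = tr (D (Units.mk0 r r0)) := by
    simp only [tr, D2, Units.val_mk0, Units.val_inv_eq_inv_val] at k ⊢
    field_simp
    linear_combination -k
  obtain ⟨P, e⟩ := conj_of_tr (t ▸ h) t
  rw [← e, ← cj_cent1, card_cj, cen_D (t ▸ h)]
  exact ⟨isCyclic_cj P D_range.1, .inl D_range.2⟩
theorem card_cen : ♯(center SL(2, F)) = Nat.gcd 2 (Fintype.card F - 1) := by
  rw [Nat.card_congr (Matrix.SpecialLinearGroup.center_equiv_rootsOfUnity' (R := F) (0 : Fin 2)).toEquiv,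
    rootsOfUnity_eq_ker, IsCyclic.card_powMonoidHom_ker, Nat.card_units, Nat.card_eq_fintype_card,
    Fintype.card_fin, Nat.gcd_comm]
theorem card_im {C : Subgroup SL(2, F)} (h : center SL(2, F) ≤ C) :
    Nat.gcd 2 (Fintype.card F - 1) * ♯(C.map pr) = ♯C := by
  rw [← relIndex_ker, QuotientGroup.ker_mk', ← card_cen, H2.card_mul_relIndex h]
theorem cen_le (x : SL(2, F)) : center SL(2, F) ≤ 𝐂[x] := fun _ hz =>
  mem_cent1_iff.2 (mem_center_iff.1 hz x).symm
theorem tr_ne (h1 : pr x ≠ 1) (hc : (orderOf (pr x)).Coprime (Fintype.card F)) : tr x ^ 2 ≠ 4 := by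
  have k : ∀ y : SL(2, F), tr y = 2 → pr y ^ Fintype.card F = 1 := fun y e => by
    have d := det2 y
    have k : ∀ n : ℕ, (y ^ n) 0 0 = 1 + n * (y 0 0 - 1) ∧ (y ^ n) 0 1 = n * y 0 1 ∧
        (y ^ n) 1 0 = n * y 1 0 ∧ (y ^ n) 1 1 = 1 + n * (y 1 1 - 1) := fun n => by
      simp only [tr] at e
      induction n with
      | zero => simp
      | succ n ih =>
        simp only [pow_succ, mul2, ih, Nat.cast_succ]
        refine ⟨?_, ?_, ?_, ?_⟩
        · linear_combination n * y 0 0 * e - n * d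
        · linear_combination n * y 0 1 * e
        · linear_combination n * y 1 0 * e
        · linear_combination n * y 1 1 * e - n * d
    rw [← map_pow, show y ^ Fintype.card F = 1 by
      simp [ext2, k, FiniteField.cast_card_eq_zero], map_one]
  intro e
  refine h1 (orderOf_eq_one_iff.1 (Nat.Coprime.eq_one_of_dvd hc ?_))
  rcases mul_eq_zero.1 (by linear_combination e : (tr x - 2) * (tr x + 2) = 0) with j | j
  · exact orderOf_dvd_of_pow_eq_one (k x (sub_eq_zero.1 j))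
  · exact orderOf_dvd_of_pow_eq_one (pr_neg x ▸ k (-x) (by rw [tr_neg]; linear_combination -j))
theorem tr_inv2 (h2 : (2 : F) ≠ 0) (ht : orderOf (pr x) = 2) : tr x = 0 := by
  have h1 : pr x ≠ 1 := fun e => by simp [e] at ht
  have e := pow_orderOf_eq_one (pr x)
  have d := det2 x
  rw [ht, sq, ← map_mul, pr_eq_one, mem_cen] at e
  simp only [ext2, mul2, neg2, one2] at e
  by_contra k
  simp only [tr] at k
  refine h1 (pr_eq_one.2 (mem_center_iff.2 fun g => ?_))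
  have k1 : x 0 1 = 0 := mul_left_cancel₀ k (by rcases e with e | e <;> linear_combination e.2.1)
  have k2 : x 1 0 = 0 := mul_left_cancel₀ k (by rcases e with e | e <;> linear_combination e.2.2.1)
  have k3 : x 0 0 = x 1 1 := mul_left_cancel₀ k (by
    rcases e with e | e <;> linear_combination e.1 - e.2.2.2)
  simp only [ext2, mul2, k1, k2, k3]
  refine ⟨?_, ?_, ?_, ?_⟩ <;> ring
theorem exists_gen {C : Subgroup SL(2, F)} (h : center SL(2, F) ≤ C) (hc : IsCyclic C) :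
    ∃ z : L2 F, Nat.gcd 2 (Fintype.card F - 1) * orderOf z = ♯C := by
  obtain ⟨z, e⟩ := (Subgroup.isCyclic_iff_exists_zpowers_eq_top _).1 (isCyclic_map hc pr)
  exact ⟨z, by rw [← Nat.card_zpowers, e, card_im h]⟩

end PF

open PF

variable {F : Type} [Field F] [Fintype F]

theorem F0_simple (h : 4 ≤ Fintype.card F) :
    IsSimpleGroup (L2 F) ∧ ∃ a b : L2 F, a * b ≠ b * a := by
  refine ⟨Matrix.ProjectiveSpecialLinearGroup.rank_two_simple (by rwa [Nat.card_eq_fintype_card]),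
    pr (H8.uX 1), pr (H8.uY 1), fun e => ?_⟩
  rw [← map_mul, ← map_mul, pr_eq] at e
  simp only [ext2, mul2, neg2] at e
  simp at e
  rcases e with ⟨e1, e2, -⟩
  exact one_ne_zero (α := F) (by linear_combination e1 - e2)
theorem F0_card : Nat.gcd 2 (Fintype.card F - 1) * Nat.card (L2 F) =
    Fintype.card F * (Fintype.card F ^ 2 - 1) := by
  rw [← BW.Z2.card_SL2, H4.card_SL_eq_PSL_mul, card_cen, mul_comm]
theorem F1 {x a b : L2 F} (h : x * x ≠ 1) (ha : a * x = x * a) (hb : b * x = x * b) :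
    a * b = b * a := by
  obtain ⟨x, rfl⟩ := pr_surj x
  obtain ⟨a, rfl⟩ := pr_surj a
  obtain ⟨b, rfl⟩ := pr_surj b
  rw [← map_mul, ← map_mul, cen_comm (fun k => h (by rw [pr_eq_one.2 k, one_mul])) (lift h ha)
    (lift h hb)]
theorem F1e [CharP F 2] {x a b : L2 F} (h : x ≠ 1) (ha : a * x = x * a) (hb : b * x = x * b) :
    a * b = b * a := by
  obtain ⟨x, rfl⟩ := pr_surj x
  obtain ⟨a, rfl⟩ := pr_surj a
  obtain ⟨b, rfl⟩ := pr_surj b
  rw [← map_mul, ← map_mul, pr_eq, neg_eq CharTwo.two_eq_zero, or_self] at ha hb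
  rw [← map_mul, ← map_mul, cen_comm (pr_eq_one.not.1 h) ha hb]
theorem F2 (ho : Odd (Fintype.card F)) (h7 : 7 ≤ Fintype.card F) {t : L2 F} (ht : orderOf t = 2) :
    ∃ (K : Subgroup (L2 F)) (s : L2 F), BW.Hyp K t s ∧ IsCyclic K ∧
      (Fintype.card F = 2 * Nat.card K + 1 ∨ Fintype.card F + 1 = 2 * Nat.card K) := by
  obtain ⟨T, rfl⟩ := pr_surj t
  have h2 : (2 : F) ≠ 0 := Ring.two_ne_zero fun e => by
    have := FiniteField.even_card_of_char_two e
    have := Nat.odd_iff.1 ho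
    omega
  have t0 := tr_inv2 h2 ht
  have t4 : tr T ^ 2 ≠ 4 := fun e => h2 (pow_eq_zero_iff two_ne_zero |>.1 (by
    rw [t0] at e; linear_combination -e))
  have ti : (pr T)⁻¹ = pr T := inv_eq_of_mul_eq_one_left (by rw [← map_mul, sq_of_tr t0, pr_neg, map_one])
  obtain ⟨S, s1, s2⟩ := exists_s t4
  have cy := isCyclic_map (torus t4).1 pr
  have c := card_im (cen_le T)
  rw [Nat.gcd_eq_left ((Nat.Odd.sub_odd ho odd_one).two_dvd)] at c
  have c2 := (torus t4).2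
  have tK : pr T ∈ (𝐂[T]).map pr := mem_map_of_mem _ (mem_cent1_self T)
  have cm : ∀ x ∈ (𝐂[T]).map pr, ∀ y ∈ (𝐂[T]).map pr, x * y = y * x := fun x hx y hy =>
    mem_cent_iff.1 (comm_iff_le_cent.1 (comm_of_isCyclic cy) hy) x hx
  have un : ∀ u ∈ (𝐂[T]).map pr, orderOf u = 2 → u = pr T := by
    rintro _ ⟨u, hu, rfl⟩ e
    exact (same_tr t4 (mem_cent1_iff.1 hu) ((tr_inv2 h2 e).trans t0.symm)).elim id fun k => k.trans ti
  have f4 : 4 ≤ ♯((𝐂[T]).map pr) := by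
    have := ht ▸ orderOf_dvd_card' tK
    omega
  have ss : pr S * pr S = 1 := by rw [← map_mul, s1, pr_neg, map_one]
  have iv : ∀ x ∈ (𝐂[T]).map pr, pr S * x * (pr S)⁻¹ = x⁻¹ := by
    rintro _ ⟨x, hx, rfl⟩
    rw [← map_inv, ← map_mul, ← map_mul, s2 x (mem_cent1_iff.1 hx), map_inv]
  refine ⟨(𝐂[T]).map pr, pr S, ⟨ht, fun u hu => ?_, tK, cm, un, f4, ss, fun k => ?_, iv,
    fun g => ⟨fun e => ?_, fun e => e.elim (fun e => cm _ e _ tK) fun e => ?_⟩,
    fun x hx x1 g e => ?_⟩, cy, by omega⟩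
  · obtain ⟨u, rfl⟩ := pr_surj u
    obtain ⟨P, e⟩ := conj_of_tr t4 ((tr_inv2 h2 hu).trans t0.symm)
    exact isConj_iff.2 ⟨pr P, by rw [← e, map_mul, map_mul, map_inv]⟩
  · obtain ⟨z, e⟩ := (Subgroup.isCyclic_iff_exists_zpowers_eq_top _).1 cy
    have hz := e.le (mem_zpowers z)
    have k1 := iv z hz
    rw [cm _ k z hz, mul_inv_cancel_right, eq_inv_iff_mul_eq_one, ← sq] at k1
    have := Nat.le_of_dvd two_pos (orderOf_dvd_of_pow_eq_one k1)
    rw [← e, Nat.card_zpowers] at f4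
    omega
  · obtain ⟨g, rfl⟩ := pr_surj g
    rw [← map_mul, ← map_mul, pr_eq] at e
    refine e.imp (fun e => mem_map_of_mem _ (mem_cent1_iff.2 e)) fun e => ?_
    rw [← map_mul]
    refine mem_map_of_mem _ (mem_cent1_iff.2 ?_)
    have k := mul_inv_eq_iff_eq_mul.1 (s2 T rfl)
    rw [inv_eq_of_mul_eq_one_right (show T * -T = 1 by rw [mul_neg, sq_of_tr t0, neg_neg])] at k
    rw [mul_assoc, k, neg_mul, mul_neg, ← mul_assoc, e, neg_mul, neg_neg, mul_assoc]
  · have k := mul_inv_eq_iff_eq_mul.1 ((iv _ tK).trans ti)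
    have k1 := cm _ e _ tK
    rw [mul_assoc, k, ← mul_assoc, ← mul_assoc] at k1
    exact mul_right_cancel k1
  · by_cases k : x * x = 1
    · rwa [un x hx (orderOf_eq_prime (by rwa [sq]) x1)] at e
    exact F1 k e (cm _ tK _ hx)
/-- semisimple elements that are not involutions -/
theorem F3 {x : L2 F} (h : x * x ≠ 1) (hc : Nat.Coprime (orderOf x) (Fintype.card F)) :
    IsCyclic (centralizer ({x} : Set (L2 F))) ∧
    (Nat.gcd 2 (Fintype.card F - 1) * Nat.card (centralizer ({x} : Set (L2 F))) + 1 = Fintype.card F ∨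
      Nat.gcd 2 (Fintype.card F - 1) * Nat.card (centralizer ({x} : Set (L2 F))) = Fintype.card F + 1) ∧
    ∃ s : L2 F, s * s = 1 ∧ (∀ y, y * x = x * y → s * y * s⁻¹ = y⁻¹) ∧
      ∀ g : L2 F, g * x * g⁻¹ ∈ centralizer ({x} : Set (L2 F)) → g * x = x * g ∨ g * s * x = x * (g * s) := by
  obtain ⟨x, rfl⟩ := pr_surj x
  have t4 := tr_ne (fun k => h (by rw [k, one_mul])) hc
  have e : (𝐂[pr x] : Subgroup (L2 F)) = (𝐂[x]).map pr := le_antisymm (fun g hg => by
    obtain ⟨g, rfl⟩ := pr_surj g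
    exact mem_map_of_mem _ (mem_cent1_iff.2 (lift h (mem_cent1_iff.1 hg)))) (by
    rintro _ ⟨g, hg, rfl⟩
    rw [mem_cent1_iff, ← map_mul, ← map_mul, mem_cent1_iff.1 hg])
  obtain ⟨S, s1, s2⟩ := exists_s t4
  have iv : ∀ y, y * pr x = pr x * y → pr S * y * (pr S)⁻¹ = y⁻¹ := fun y hy => by
    obtain ⟨y, rfl⟩ := pr_surj y
    rw [← map_inv, ← map_mul, ← map_mul, s2 y (lift h hy), map_inv]
  refine ⟨e ▸ isCyclic_map (torus t4).1 pr, by rw [e, card_im (cen_le x)]; exact (torus t4).2,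
    pr S, by rw [← map_mul, s1, pr_neg, map_one], iv, fun g hg => ?_⟩
  obtain ⟨g, rfl⟩ := pr_surj g
  rw [← map_inv, ← map_mul, ← map_mul] at hg
  have k := same_tr t4 (lift h (mem_cent1_iff.1 hg)) (tr_conj g x)
  rw [map_mul, map_mul, map_inv] at k
  refine k.imp mul_inv_eq_iff_eq_mul.1 fun k => ?_
  have k1 := congrArg (·⁻¹) k
  simp only [mul_inv_rev, inv_inv] at k1
  rw [mul_assoc, mul_inv_eq_iff_eq_mul.1 (iv _ rfl), ← mul_assoc, ← mul_assoc]
  conv_rhs => rw [← k1]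
  group
/-- both tori exist -/
theorem F3e : (∃ x : L2 F, Nat.gcd 2 (Fintype.card F - 1) * orderOf x + 1 = Fintype.card F) ∧
    ∃ x : L2 F, Nat.gcd 2 (Fintype.card F - 1) * orderOf x = Fintype.card F + 1 := by
  constructor
  · obtain ⟨z, e⟩ := exists_gen (F := F) (C := D.range) (fun g hg => by
      rcases mem_cen.1 hg with rfl | rfl <;> exact mem_D (by simp) (by simp)) D_range.1
    exact ⟨z, e ▸ D_range.2⟩
  obtain ⟨τ, h⟩ : ∃ τ : F, ∀ r : F, r ^ 2 ≠ -1 + τ * r := by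
    by_contra! k
    have := Nat.card_le_card_of_surjective (fun u : Fˣ => (u : F) + (u : F)⁻¹) fun τ => by
      obtain ⟨r, e⟩ := k τ
      have r0 : r ≠ 0 := fun e0 => by simp [e0] at e
      exact ⟨Units.mk0 r r0, by simp only [Units.val_mk0]; field_simp; linear_combination e⟩
    rw [Nat.card_eq_card_units_add_one F] at this
    omega
  obtain ⟨z, e⟩ := exists_gen (cen_le (W τ)) (cen_W h).1
  exact ⟨z, e ▸ (cen_W h).2⟩
theorem NCA {F : Type} [Field F] [Fintype F] (ho : Odd (Fintype.card F)) (h7 : 7 ≤ Fintype.card F) :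
    ¬ CA (⊤ : Subgroup (L2 F)) := fun h => by
  obtain ⟨hs, a, b, hab⟩ := F0_simple (F := F) (by omega)
  have t1 : pr (W (0 : F)) ≠ 1 := fun e => by
    rcases mem_cen.1 (pr_eq_one.1 e) with e | e <;> simpa [W2, neg2, one2] using (ext2.1 e).2.2.1
  have ht : orderOf (pr (W (0 : F))) = 2 :=
    orderOf_eq_prime (by rw [sq, ← map_mul, sq_of_tr (tr_W 0), pr_neg, map_one]) t1
  obtain ⟨K, s, H, cy, -⟩ := F2 ho h7 ht
  generalize pr (W (0 : F)) = t at *
  obtain ⟨z, rfl⟩ := (Subgroup.isCyclic_iff_exists_zpowers_eq_top _).1 cy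
  have k : t ∈ center (L2 F) := mem_center_iff.2 fun y => h.cen (mem_top t) (mem_top s) (mem_top z)
    ((H.cent s).2 (.inr (H.ss ▸ one_mem _))) (H.comm _ (mem_zpowers z) _ H.tK) (fun e => by
      have k1 := H.inv z (mem_zpowers z)
      rw [e, mul_inv_cancel_right, eq_inv_iff_mul_eq_one, ← sq] at k1
      have := Nat.le_of_dvd two_pos (orderOf_dvd_of_pow_eq_one k1)
      have := H.four
      rw [Nat.card_zpowers] at this
      omega) (mem_top y)
  rcases hs.eq_bot_or_eq_top_of_normal (center (L2 F)) inferInstance with e | e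
  · exact t1 (mem_bot.1 (e.le k))
  · exact hab (mem_center_iff.1 (e.ge (mem_top b)) a)

end Cfsg.Agent.MC
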