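import Cfsg.Agent.MC.Def
import Cfsg.Agent.FT.P.BG01
import Cfsg.Agent.FT.Main

/-! Minimal non-CA groups, piece R: basics, `R1`, `CA2`. -/

set_option autoImplicit false
set_option linter.unusedSectionVars false

namespace Cfsg.Agent.MC

open Subgroup Cfsg.Agent.FT
open scoped commutatorElement

universe u
variable {G : Type u} [Group G] {H K X N M B L S P : Subgroup G} {x a b : G}

theorem r_ctr : 𝐂((⊤ : Subgroup G)) = center G := by rw [coe_top, centralizer_univ]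

theorem CA.r_comm (h : CA H) (hx : x ∈ H) (hx' : x ∉ 𝐂(H)) (ha : a ∈ H) (hb : b ∈ H)
    (h1 : a * x = x * a) (h2 : b * x = x * b) : a * b = b * a :=
  by_contra fun e => hx' (mem_cent_iff.2 fun _ hy => h.cen hx ha hb h1 h2 e hy)

theorem CA.r_ab (h : CA H) (hx : x ∈ H) (hx' : x ∉ 𝐂(H)) : H ⊓ 𝐂[x] ≤ 𝐂(H ⊓ 𝐂[x]) :=
  fun _ hb => mem_cent_iff.2 fun _ ha =>
    h.r_comm hx hx' ha.1 hb.1 (mem_cent1_iff.1 ha.2) (mem_cent1_iff.1 hb.2)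

/-- an element with a nonabelian centraliser is central -/
theorem CA.r_cent (h : CA H) (hx : x ∈ H) (hB : B ≤ H) (h1 : x ∈ 𝐂(B)) (hn : ¬ B ≤ 𝐂(B)) :
    x ∈ 𝐂(H) := by
  by_contra h2
  exact hn fun b hb => mem_cent_iff.2 fun a ha =>
    h.r_comm hx h2 (hB ha) (hB hb) (mem_cent_iff.1 h1 a ha) (mem_cent_iff.1 h1 b hb)

variable [Finite G]

theorem r_perf (h2 : ⁅L, L⁆ = L) (n : L ≤ 𝐍(N)) (hs : Group.IsSolvable (bar N L)) : L ≤ N := by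
  rw [← bar_eq_bot_iff n]
  by_contra e
  exact (der_lt hs e).ne (by rw [← bar_commutator n n, h2])

theorem r_sol_odd (h : ¬ 2 ∣ ♯H) : Group.IsSolvable H :=
  odd_order_solvable (Nat.not_even_iff_odd.1 fun e => h e.two_dvd)

theorem r_bar_pNil {p : ℕ} [Fact p.Prime] (h : PNil p H) : IsPGroup p (bar (core {p}ᶜ H) H) :=
  piG_singleton_iff.1 (by rw [PiG, card_bar (core_nrm {p}ᶜ H).norm]; simpa using h.idx)

theorem r_sol_pNil (h : PNil 2 H) : Group.IsSolvable H :=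
  isSolvable_of_bar (core_nrm {2}ᶜ H).norm (r_sol_odd (piG_compl_singleton.1 (core_piG _ H)))
    (isSolvable_of_isPGroup (r_bar_pNil h))

theorem r_burn {p : ℕ} [Fact p.Prime] (hS : Syl p S L) (h : L ⊓ 𝐍(S) ≤ 𝐂(S)) (h2 : ⁅L, L⁆ = L) :
    S = ⊥ :=
  (piG_singleton_iff.2 hS.isPGroup).eq_bot ((core_piG _ L).of_le (hS.le.trans (r_perf h2
    (core_nrm {p}ᶜ L).norm (isSolvable_of_isPGroup (r_bar_pNil (Burnside_normal_complement hS h))))))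

theorem r_syl (h1 : L ≠ ⊥) (h2 : ⁅L, L⁆ = L) :
    ∃ q, ∃ _ : Fact q.Prime, ∃ S, Syl q S L ∧ ¬ L ≤ 𝐍(S) := by
  by_contra! k
  exact (der_lt (isSolvable_of_nil (isNilpotent_of_forall_syl_nrm fun q hq _ =>
    let ⟨P, hP⟩ := exists_syl q L; ⟨P, hP, k q hq P hP⟩)) h1).ne h2

theorem r_nab {p : ℕ} [Fact p.Prime] (hS : Syl p S L) (h2 : ⁅L, L⁆ = L) (h3 : ¬ L ≤ 𝐍(S)) :
    ¬ L ⊓ 𝐍(S) ≤ 𝐂(L ⊓ 𝐍(S)) := fun h4 => h3 (by
  rw [r_burn hS (h4.trans (cent_anti (le_inf hS.le le_normalizer))) h2, norm_bot]; exact le_top)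

theorem R1 (hP : PCA G) {L : Subgroup G} [L.Normal] (h1 : L ≠ ⊥) (h2 : ⁅L, L⁆ = L) :
    centralizer (L : Set G) ≤ center G := by
  intro x hx
  obtain ⟨q, _, S, hS, h3⟩ := r_syl h1 h2
  have := (hP 𝐍(S) fun e => h3 (e ▸ le_top)).r_cent (cent_le_norm S (cent_anti hS.le hx))
    inf_le_right (cent_anti inf_le_left hx) (r_nab hS h2 h3)
  rw [← r_ctr, ← hS.frattini' (nrm_top_iff.2 ‹_›), top_inf_eq, cent_sup]
  exact ⟨hx, this⟩

theorem CA2 {P : Subgroup G} (h2 : IsPGroup 2 P) (h : CA P) :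
    (∀ x ∈ P, ∀ y ∈ P, x * y = y * x) ∨ (∀ x ∈ P, ∀ y ∈ P, x * x * y = y * (x * x)) ∨
      ∃ A ≤ P, A.relIndex P = 2 ∧ (∀ x ∈ A, ∀ y ∈ A, x * y = y * x) ∧
        (∃ a ∈ A, ∃ y ∈ P, a * a * y ≠ y * (a * a)) ∧
        ∀ s ∈ P, s ∉ A → ∀ y ∈ P, s * s * y = y * (s * s) := by
  by_cases h0 : P ≤ 𝐂(P)
  · exact .inl fun x hx y hy => mem_cent_iff.1 (h0 hy) x hx
  have n := (ctr_nrm P).norm
  have hm : ∀ {x y}, x ∈ P → y ∈ P → coset 𝐙(P) (x * y) = coset 𝐙(P) x * coset 𝐙(P) y :=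
    fun hx hy => coset_mul (n hx) (n hy)
  have h1 : ∀ {x}, x ∈ P → (coset 𝐙(P) x = 1 ↔ x ∈ 𝐂(P)) := fun hx =>
    (coset_eq_one_iff (n hx)).trans ⟨fun e => e.2, fun e => ⟨hx, e⟩⟩
  have hb := isPGroup_bar h2 𝐙(P)
  obtain ⟨w, hw, w2⟩ := exists_orderOf_eq_prime Nat.prime_two (dvd_card_of_isPGroup
    (isPGroup_of_le inf_le_left hb) (ctr_ne_bot (isNilpotent_of_isPGroup hb) fun e =>
      h0 (((bar_eq_bot_iff n).1 e).trans inf_le_right)))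
  obtain ⟨z, hz, rfl⟩ := (mem_bar' n).1 hw.1
  have z1 : z ∉ 𝐂(P) := fun e => by rw [(h1 hz).2 e, orderOf_one] at w2; omega
  have z2 : coset 𝐙(P) z * coset 𝐙(P) z = 1 := by rw [← pow_two, ← w2, pow_orderOf_eq_one]
  have k1 : ∀ x ∈ P, x * x ∉ 𝐂(P) → x ∈ P ⊓ 𝐂[z] := fun x hx e => by
    have hxz := mul_mem hx hz
    have hxx := mul_mem hx hx
    have c := mem_cent_iff.1 hw.2 _ (coset_mem_bar 𝐙(P) hx)
    have c1 : (x * x)⁻¹ * (x * z * (x * z)) ∈ 𝐂(P) := by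
      rw [← h1 (mul_mem (inv_mem hxx) (mul_mem hxz hxz)), hm (inv_mem hxx) (mul_mem hxz hxz),
        coset_inv (n hxx), hm hxz hxz, hm hx hz, hm hx hx, inv_mul_eq_one, mul_assoc,
        ← mul_assoc (coset 𝐙(P) z), ← c, mul_assoc, z2, mul_one]
    have c2 := mem_cent_iff.1 c1 _ hxz
    have c3 : x * z * (x * x) = x * x * (x * z) := by
      have c4 : (x * z) * (x * x)⁻¹ = (x * x)⁻¹ * (x * z) :=
        mul_right_cancel (b := x * z * (x * z)) (by rw [mul_assoc, c2]; group)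
      calc x * z * (x * x) = x * x * ((x * x)⁻¹ * (x * z)) * (x * x) := by group
        _ = _ := by rw [← c4]; group
    have := h.r_comm hxx e hx hxz (mul_assoc x x x).symm c3
    rw [mul_assoc] at this
    exact ⟨hx, mem_cent1_iff.2 (mul_left_cancel this)⟩
  by_cases h3 : ∀ x ∈ P, x * x ∈ 𝐂(P)
  · exact .inr (.inl fun x hx y hy => (mem_cent_iff.1 (h3 x hx) y hy).symm)
  push Not at h3
  obtain ⟨a, ha, a1⟩ := h3
  have a2 := k1 a ha a1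
  have k2 : ∀ s ∈ P, s ∉ P ⊓ 𝐂[z] → s * s ∈ 𝐂(P) := fun s hs e => by_contra fun e' => e (k1 s hs e')
  have k3 : ∀ s ∈ P, s ∉ P ⊓ 𝐂[z] →
      coset 𝐙(P) s * coset 𝐙(P) a = (coset 𝐙(P) a)⁻¹ * coset 𝐙(P) s := fun s hs e => by
    have hsa := mul_mem hs ha
    have e1 := (h1 (mul_mem hs hs)).2 (k2 s hs e)
    have e2 := (h1 (mul_mem hsa hsa)).2 (k2 _ hsa fun e' => e ((mul_mem_cancel_right a2).1 e'))
    rw [hm hsa hsa, hm hs ha] at e2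
    rw [hm hs hs] at e1
    rw [eq_inv_of_mul_eq_one_left e2, mul_inv_rev, inv_eq_of_mul_eq_one_left e1]
  have k4 : ∀ s ∈ P, s ∉ P ⊓ 𝐂[z] → ∀ s' ∈ P, s' ∉ P ⊓ 𝐂[z] → s * s' ∈ P ⊓ 𝐂[z] :=
    fun s hs e s' hs' e' => by
      by_contra e''
      have e1 := k3 s hs e
      have e2 := k3 s' hs' e'
      have e3 := k3 _ (mul_mem hs hs') e''
      rw [hm hs hs', mul_assoc, e2, ← mul_assoc, ← mul_assoc, mul_left_inj, ← e1,
        mul_right_inj] at e3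
      exact a1 ((h1 (mul_mem ha ha)).1 (by rw [hm ha ha]; exact inv_eq_iff_mul_eq_one.1 e3))
  obtain ⟨s, hs, s1⟩ : ∃ s ∈ P, s ∉ P ⊓ 𝐂[z] := by
    by_contra! e
    exact z1 (le_cent1_iff.1 fun s hs => (e s hs).2)
  refine .inr (.inr ⟨P ⊓ 𝐂[z], inf_le_left, relIndex_eq_two_iff.2 ⟨s, hs, fun b hb => ?_⟩,
    fun x hx y hy => mem_cent_iff.1 (h.r_ab hz z1 hy) x hx, ⟨a, a2, ?_⟩,
    fun s hs e y hy => (mem_cent_iff.1 (k2 s hs e) y hy).symm⟩)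
  · by_cases e : b ∈ P ⊓ 𝐂[z]
    · exact .inr ⟨e, fun e' => s1 ((mul_mem_cancel_left e).1 e')⟩
    · exact .inl ⟨k4 b hb e s hs s1, e⟩
  · by_contra! e
    exact a1 (mem_cent_iff.2 fun y hy => (e y hy).symm)

end Cfsg.Agent.MC
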