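import Cfsg.Agent.MC.BA
import Cfsg.Agent.MC.R1
import Cfsg.Agent.H3.Misc

/-! Piece QO, preliminary lemmas. -/

set_option autoImplicit false
set_option linter.unusedSectionVars false

namespace Cfsg.Agent.MC

open Subgroup Cfsg.Agent.FT

universe u
variable {G : Type u} [Group G] [Finite G]

theorem qo_oc (g x : G) : orderOf (g * x * g⁻¹) = orderOf x := (MulAut.conj g).orderOf_eq x

theorem qo_cn (g : G) {v : G} (h : v ≠ 1) : g * v * g⁻¹ ≠ 1 := fun e => h (by simpa using e)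

theorem qo_odd {H : Subgroup G} (h : PiG {2}ᶜ H) {x : G} (hx : x ∈ H) : Odd (orderOf x) :=
  Nat.odd_iff.2 (by
    have := (piNum_compl_singleton Nat.prime_two).1 (h.piE hx)
    omega)

theorem qo_sq {x : G} (h : Odd (orderOf x)) (e : x * x = 1) : x = 1 :=
  orderOf_eq_one_iff.1 (Nat.eq_one_of_dvd_coprimes (Nat.coprime_two_left.2 h)
    (orderOf_dvd_of_pow_eq_one (by rw [sq, e])) dvd_rfl)

/-- no non-trivial element of an abelian Sylow subgroup is central in its normalizer -/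
theorem qo_mv [IsSimpleGroup G] (hna : ∃ a b : G, a * b ≠ b * a) {p : ℕ} [Fact p.Prime]
    (S : Sylow p G) (h1 : ∀ a ∈ (S : Subgroup G), ∀ b ∈ (S : Subgroup G), a * b = b * a) {v : G}
    (hv : v ∈ (S : Subgroup G)) (v1 : v ≠ 1) : ∃ g ∈ 𝐍((S : Subgroup G)), g * v * g⁻¹ ≠ v := by
  by_contra! k
  obtain ⟨N, hN, ⟨e⟩⟩ := S0105.result S (comm_iff_le_cent.2 fun x hx =>
    mem_cent_iff.2 fun a ha => h1 a ha x hx)
  rcases hN.eq_bot_or_eq_top with rfl | rfl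
  · obtain ⟨a, b, hab⟩ := hna
    let e' := QuotientGroup.quotientBot.symm.trans e
    exact hab (e'.injective (by
      rw [map_mul, map_mul]; exact Subtype.ext (h1 _ (e' a).2.1 _ (e' b).2.1)))
  · have := QuotientGroup.subsingleton_quotient_top (G := G)
    have := e.symm.toEquiv.subsingleton
    exact v1 (congrArg Subtype.val (this.elim ⟨v, hv, mem_centralizer_iff.2 fun g hg =>
      mul_inv_eq_iff_eq_mul.1 (k g hg)⟩ 1))

theorem qo_four {S : Subgroup G} (h4 : ♯S = 4) (ex : ∀ y ∈ S, y * y = 1) {t u : G} (ht : t ∈ S)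
    (hu : u ∈ S) (t1 : t ≠ 1) (u1 : u ≠ 1) (tu : t ≠ u) :
    ∀ v ∈ S, v = 1 ∨ v = t ∨ v = u ∨ v = t * u := by
  classical
  have e1 : t * u ≠ 1 := fun e => tu (by
    rw [eq_inv_of_mul_eq_one_left e, inv_eq_of_mul_eq_one_right (ex u hu)])
  have e2 : ({1, t, u, t * u} : Finset G).card = 4 := by
    rw [Finset.card_insert_of_notMem (by simp [t1.symm, u1.symm, e1.symm]),
      Finset.card_insert_of_notMem (by simp [tu, u1]), Finset.card_pair (by simp [t1])]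
  have e3 : ({1, t, u, t * u} : Finset G) ⊆ els S := fun v hv => by
    simp only [Finset.mem_insert, Finset.mem_singleton] at hv
    rcases hv with rfl | rfl | rfl | rfl
    exacts [mem_els.2 (one_mem _), mem_els.2 ht, mem_els.2 hu, mem_els.2 (mul_mem ht hu)]
  intro v hv
  have := (Finset.eq_of_subset_of_card_le e3 (by rw [card_els]; omega)).ge (mem_els.2 hv)
  simpa using this

/-- the Frobenius type decomposition -/
theorem qo_fr {K D Z : Subgroup G} {s ρ : G} (oK : PiG {2}ᶜ K) (s2 : orderOf s = 2)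
    (nK : s ∈ 𝐍(K)) (hD : ∀ x, x ∈ D ↔ x ∈ K ∧ x * s = s * x) (cD : D ≤ 𝐂(D))
    (h1 : ∀ z ∈ Z, ρ * z * ρ⁻¹ ∈ D) (h2 : ∀ z ∈ Z, ρ * z * ρ⁻¹ ∈ Z → z = 1) (cZ : Z ≤ 𝐂(K))
    (f3 : ∀ x ∈ D, x ∉ Z → ∀ k ∈ K, k * x * k⁻¹ ∈ D → k ∈ D) :
    ∃ E ≤ K, (∀ x ∈ E, ∀ y ∈ E, x * y = y * x) ∧ Nat.Coprime ♯E ♯D ∧
      (∀ e ∈ E, s * e * s⁻¹ = e⁻¹) ∧ D ≤ 𝐍(E) ∧ (∀ k ∈ K, ∃ e ∈ E, ∃ d ∈ D, k = e * d) ∧
      ∀ d ∈ D, ∀ e ∈ E, e ≠ 1 → d * e = e * d → ∀ e' ∈ E, d * e' = e' * d := by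
  have DK : D ≤ K := fun x hx => ((hD x).1 hx).1
  have hall : Hall {q | q ∣ ♯D} D K := by
    refine ⟨DK, piNum_self _, fun q hq hd hd' => ?_⟩
    have := Fact.mk hq
    obtain ⟨P, hP⟩ := exists_syl q D
    obtain ⟨x, xP, xZ⟩ : ∃ x ∈ P, x ∉ Z := by
      by_contra! k
      refine Syl.ne_bot hP hd' (eq_bot_iff.2 fun y hy => mem_bot.2 (h2 y (k y hy) (k _ ?_)))
      refine Syl.le_of_nrm hP (cD.trans ((cent_anti hP.le).trans (cent_le_norm _)))
        (Q := cj ρ (zpowers y)) (isPGroup_cj ρ (hP.isPGroup.to_le ((zpowers_le (G := G)).2 hy)))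
        ?_ (conj_mem_cj (mem_zpowers y))
      rw [cj_zpowers]
      exact (zpowers_le (G := G)).2 (h1 y (k y hy))
    have k := Syl.of_normalizer_le hP DK fun k hk =>
      f3 x (hP.le xP) xZ k hk.1 (hP.le (conj_mem_of_mem_normalizer hk.2 xP))
    exact k.not_dvd (hd.trans (relIndex_dvd_of_le_left _ hP.le))
  have sK := r_sol_odd (piG_compl_singleton.1 oK)
  obtain ⟨E, hE, nE⟩ := exists_invariant_hall {q | q ∣ ♯D}ᶜ (zpowers_le_normalizer nK)
    (by rw [Nat.card_zpowers, s2]; exact oK.coprime_prime.symm) sK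
  have ED : E ⊓ D = ⊥ := PiG.inf_eq_bot' hE.piG hall.piG
  have ss : s * s = 1 := by rw [← sq, ← s2, pow_orderOf_eq_one]
  have iE : ∀ e ∈ E, s * e * s⁻¹ = e⁻¹ := fun _ => H3.inverts_of_fixedPointFree ss (nE (mem_zpowers s))
    fun x hx e => mem_bot.1 (ED.le ⟨hx, (hD x).2 ⟨hE.le hx, e.symm⟩⟩)
  have pr : SF.IsProd K E D := (SF.isProd_iff_card hE.le DK).2 (by
    rw [ED, card_bot, mul_one, mul_comm, Hall.card_mul hall hE])
  have mE : ∀ y ∈ K, s * y * s⁻¹ = y⁻¹ → y ∈ E := fun y hy e => by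
    obtain ⟨j, hj⟩ := qo_odd oK hy
    have e1 : y = y ^ (j + 1) * y ^ (j + 1) := by
      rw [← pow_add, show j + 1 + (j + 1) = orderOf y + 1 by omega, pow_succ, pow_orderOf_eq_one,
        one_mul]
    have e2 : s * y ^ (j + 1) * s⁻¹ = (y ^ (j + 1))⁻¹ := by rw [← conj_pow, e, inv_pow]
    obtain ⟨a, ha, d, hd, e3⟩ := pr _ (pow_mem hy (j + 1))
    generalize y ^ (j + 1) = u at e1 e2 e3
    have e4 : s * d * s⁻¹ = d := mul_inv_eq_iff_eq_mul.2 ((hD d).1 hd).2.symm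
    have e5 : u = d⁻¹ * a := by
      rw [← inv_inj, ← e2, e3, ← conj_mul, iE a ha, e4]; group
    rw [e1]
    nth_rewrite 1 [e3]
    rw [e5, mul_assoc, mul_inv_cancel_left]
    exact mul_mem ha ha
  refine ⟨E, hE.le, fun x hx y hy => ?_, piNum_coprime' hE.piG hall.piG, iE, fun d hd =>
    mem_normalizer_of_conj_mem fun e he => mE _ (mul_mem (mul_mem (DK hd) (hE.le he))
      (inv_mem (DK hd))) ?_, pr, fun d hd e he e1 de e' he' => ?_⟩
  · rw [← inv_inj, ← iE _ (mul_mem hx hy), ← conj_mul, iE x hx, iE y hy, mul_inv_rev]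
  · have e4 : s * d * s⁻¹ = d := mul_inv_eq_iff_eq_mul.2 ((hD d).1 hd).2.symm
    calc s * (d * e * d⁻¹) * s⁻¹ = s * d * s⁻¹ * (s * e * s⁻¹) * (s * d * s⁻¹)⁻¹ := by group
      _ = _ := by rw [e4, iE e he]; group
  · by_cases dZ : d ∈ Z
    · exact (mem_cent_iff.1 (cZ dZ) e' (hE.le he')).symm
    · exact absurd (mem_bot.1 (ED.le ⟨he, f3 d hd dZ e (hE.le he) (by
        rwa [← de, mul_inv_cancel_right])⟩)) e1

local notation "π" => QuotientGroup.mk' (center G)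

theorem qo_one {x : G} : π x = 1 ↔ x ∈ center G := QuotientGroup.eq_one_iff x

theorem qo_mem {X : Subgroup G} (h : center G ≤ X) {x : G} : π x ∈ X.map π ↔ x ∈ X := by
  rw [← mem_comap, comap_map_eq_self (by rwa [QuotientGroup.ker_mk'])]

theorem qo_eq {y w : G} {n : ℕ} (e : π y = π w) (h1 : y ^ n = 1) (h2 : w ^ n = 1)
    (hc : Nat.Coprime n ♯(center G)) : y = w := by
  have hz : w⁻¹ * y ∈ center G := qo_one.1 (by rw [map_mul, map_inv, e, inv_mul_cancel])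
  have e1 : y = w * (w⁻¹ * y) := by group
  generalize w⁻¹ * y = z at hz e1
  rw [e1, Commute.mul_pow (mem_center_iff.1 hz w), h2, one_mul] at h1
  rw [e1, orderOf_eq_one_iff.1 (Nat.eq_one_of_dvd_coprimes hc (orderOf_dvd_of_pow_eq_one h1)
    (orderOf_dvd_card' hz)), mul_one]

theorem qo_comm {x g : G} (e : π g * π x = π x * π g)
    (hc : Nat.Coprime (orderOf x) ♯(center G)) : g * x = x * g :=
  mul_inv_eq_iff_eq_mul.1 (qo_eq (by rw [map_mul, map_mul, map_inv, e, mul_inv_cancel_right])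
    (by rw [← qo_oc g x, pow_orderOf_eq_one]) (pow_orderOf_eq_one x) hc)

theorem qo_lift (ho : Odd ♯(center G)) {u : G ⧸ center G} (hu : orderOf u = 2) :
    ∃ t : G, orderOf t = 2 ∧ π t = u := by
  obtain ⟨x, rfl⟩ := QuotientGroup.mk'_surjective _ u
  have h1 : π x ^ 2 = 1 := by rw [← hu, pow_orderOf_eq_one]
  have h2 : π (x ^ ♯(center G)) = π x := by
    obtain ⟨j, hj⟩ := ho
    rw [map_pow, hj, pow_succ, pow_mul, h1, one_pow, one_mul]
  refine ⟨_, orderOf_eq_prime ?_ fun e => ?_, h2⟩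
  · rw [← pow_mul, mul_comm, pow_mul]
    exact pow_card_eq_one'' (qo_one.1 (by rw [map_pow, h1]))
  · rw [e, map_one] at h2
    rw [← h2, orderOf_one] at hu
    omega

theorem qo_ord (ho : Odd ♯(center G)) {t : G} (ht : orderOf t = 2) : orderOf (π t) = 2 :=
  orderOf_eq_prime (by rw [← map_pow, ← ht, pow_orderOf_eq_one, map_one]) fun e =>
    ho.not_two_dvd_nat (ht ▸ orderOf_dvd_card' (qo_one.1 e))

theorem qo_oddl (ho : Odd ♯(center G)) {a : G} (h : Odd (orderOf (π a))) : Odd (orderOf a) :=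
  (h.mul ho).of_dvd_nat (orderOf_dvd_of_pow_eq_one (by
    rw [pow_mul]
    exact pow_card_eq_one'' (qo_one.1 (by rw [map_pow, pow_orderOf_eq_one]))))

theorem qo_prop (hs : SZ G) {X : Subgroup G} (h1 : ¬ X ≤ center G) (h2 : X ≤ 𝐂(X)) :
    𝐍(X) ≠ ⊤ := fun e => by
  have := hs.1
  rcases ((normalizer_eq_top_iff.1 e).map π (QuotientGroup.mk'_surjective _)).eq_bot_or_eq_top
    with k | k
  · exact h1 fun x hx => qo_one.1 (mem_bot.1 (k ▸ mem_map_of_mem π hx))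
  · obtain ⟨a, b, hab⟩ := hs.2
    obtain ⟨x, hx, rfl⟩ := k.ge (mem_top a)
    obtain ⟨y, hy, rfl⟩ := k.ge (mem_top b)
    exact hab (by rw [← map_mul, ← map_mul, mem_cent_iff.1 (h2 hy) x hx])

end Cfsg.Agent.MC
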