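import Cfsg.Agent.MC.Def
import Cfsg.Agent.BS.Bender
import Cfsg.Agent.H3.StronglyEmb
import Cfsg.Agent.S0105
import Cfsg.Agent.S0217
import Cfsg.Agent.S4418

/-! Bender's theorem for abelian Sylow 2-subgroups, and the reduction to a four-group. -/

set_option autoImplicit false
set_option linter.unusedSectionVars false

namespace Cfsg.Agent.MC

open Subgroup Cfsg.Agent.FT

universe u
variable {G : Type u} [Group G] [Finite G]

theorem ba_nsol [IsSimpleGroup G] (hna : ∃ a b : G, a * b ≠ b * a) : ¬ Group.IsSolvable G := fun h =>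
  let ⟨a, b, e⟩ := hna
  e (IsSimpleGroup.comm_iff_isSolvable.2 h a b)

theorem ba_even [IsSimpleGroup G] (hna : ∃ a b : G, a * b ≠ b * a) : 2 ∣ Nat.card G := by
  by_contra h
  exact ba_nsol hna (odd_order_solvable (Nat.odd_iff.2 (by omega)))

theorem ba_se (he : 2 ∣ Nat.card G) (S : Sylow 2 G) {M : Subgroup G}
    (hM : M ≠ ⊤) (h1 : normalizer ((S : Subgroup G) : Set G) ≤ M)
    (h2 : ∀ t ∈ (S : Subgroup G), orderOf t = 2 → centralizer ({t} : Set G) ≤ M) :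
    IsStronglyEmbedded M := by
  have hS := H1.sylow_isSylowIn_top S
  have sM : (S : Subgroup G) ≤ M := le_normalizer.trans h1
  have hSM := hS.of_le sM le_top
  have zp : ∀ t : G, orderOf t = 2 → IsPGroup 2 (zpowers t) := fun t ht =>
    IsPGroup.iff_card.2 ⟨1, by rw [Nat.card_zpowers, ht]; rfl⟩
  have oc : ∀ g t : G, orderOf (g * t * g⁻¹) = orderOf t := fun g t => (MulAut.conj g).orderOf_eq t
  have h3 : ∀ t ∈ M, orderOf t = 2 → 𝐂[t] ≤ M := fun t ht o x hx => by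
    obtain ⟨m, hm, e⟩ := hSM.exists_cj_le (zp t o) ((zpowers_le (G := G)).2 ht)
    have := h2 _ (e (conj_mem_cj (mem_zpowers t))) ((oc m t).trans o) (x := m * x * m⁻¹)
      (mem_cent1_iff.2 (by rw [conj_mul, conj_mul, mem_cent1_iff.1 hx]))
    exact (M.mul_mem_cancel_left hm).1 ((M.mul_mem_cancel_right (inv_mem hm)).1 this)
  have h4 : ∀ T : Subgroup G, IsPGroup 2 T → ∀ t ∈ T, t ∈ M → orderOf t = 2 → T ≤ M :=
    fun T hT t ht tM o => by
    have t0 : T ≠ ⊥ := fun e => by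
      rw [e, mem_bot] at ht
      rw [ht, orderOf_one] at o
      omega
    obtain ⟨⟨z, hz⟩, z1⟩ := (ne_bot_iff_exists_ne_one).1 (om_ne_bot_of_isPGroup
      (isPGroup_of_le inf_le_left hT) (ctr_ne_bot (isNilpotent_of_isPGroup hT) t0))
    have z2 := (mem_om_of_comm (ctr_comm T)).1 hz
    have oz : orderOf z = 2 := orderOf_eq_prime z2.2 fun e => z1 (Subtype.ext e)
    exact (le_cent1_iff.2 z2.1.2).trans (h3 z (h3 t tM o (mem_cent1_iff.2
      (mem_cent_iff.1 z2.1.2 t ht).symm)) oz)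
  refine (H3.isStronglyEmbedded_iff M).2 ⟨hM, ?_, fun g t ht o hg => ?_⟩
  · obtain ⟨t, ht⟩ := exists_prime_orderOf_dvd_card' (G := (S : Subgroup G)) 2
      (dvd_card_of_isPGroup hS.isPGroup (Syl.ne_bot hS (by rwa [card_top])))
    exact ⟨t, sM t.2, by rw [orderOf_coe, ht]⟩
  obtain ⟨m, hm, e⟩ := Syl.exists_le_cj hSM (zp t o) ((zpowers_le (G := G)).2 ht)
  have h5 := h4 _ (isPGroup_cj g (isPGroup_cj m hS.isPGroup)) _ (conj_mem_cj (e (mem_zpowers t))) hg
    ((oc g t).trans o)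
  obtain ⟨n, hn, e2⟩ := hSM.exists_cj_le (isPGroup_cj g (isPGroup_cj m hS.isPGroup)) h5
  rw [← cj_mul, ← cj_mul] at e2
  have := h1 (mem_normalizer_of_cj_le e2)
  exact (M.mul_mem_cancel_left hn).1 ((M.mul_mem_cancel_right hm).1 this)

theorem ba_l2 [IsSimpleGroup G] {Q D K : Subgroup G} {t : G} (h : H7.SZ ⊤ Q D K t)
    (h3 : Q = h.suz.Z) : L2e G := by
  obtain ⟨s, r, H⟩ := h.exists_dist
  have h4 := (nrm_top_iff.mp H.nrm).eq_bot_or_eq_top.resolve_left fun e => h.neQ (le_bot_iff.mp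
    (le_sup_left.trans e.le))
  obtain ⟨F, _, _, _, c, rfl⟩ := h.suz.exists_coord' H.sZ H.ne
  have h1 := c.card_F
  have h2 : 4 ≤ Nat.card F := by
    have := h.suz.card_Z
    have := (one_lt_card_iff_ne_bot K).mpr h.suz.neK
    have := Nat.odd_iff.mp (h.odd.of_dvd_nat (card_dvd_of_le h.KD))
    omega
  obtain rfl := H.three (h3.le H.rQ).2
  obtain ⟨e⟩ := H.psl2 h3
  rw [h4] at e
  exact ⟨F, _, _, ‹_›, Nat.card_eq_fintype_card (α := F) ▸ h2, ⟨topEquiv.symm.trans e⟩⟩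

theorem BA [IsSimpleGroup G] (hna : ∃ a b : G, a * b ≠ b * a) (S : Sylow 2 G) {M : Subgroup G}
    (hM : M ≠ ⊤) (h1 : normalizer ((S : Subgroup G) : Set G) ≤ M)
    (h2 : ∀ t ∈ (S : Subgroup G), orderOf t = 2 → centralizer ({t} : Set G) ≤ M)
    (h3 : (∀ a ∈ (S : Subgroup G), ∀ b ∈ (S : Subgroup G), a * b = b * a) ∨
      (S : Subgroup G) ≤ closure {t | t ∈ (S : Subgroup G) ∧ orderOf t = 2}) : L2e G := by
  have hH := ba_se (ba_even hna) S hM h1 h2
  haveI := BS.oneFix_of_se hH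
  obtain ⟨Q, _, _, h, rk⟩ := (BS.base_of_se hna hH).suz BS.regThm BS.twoThm ((1 : G) : G ⧸ M)
  have k := h.sz' rk
  refine ba_l2 k (le_antisymm ?_ k.suz.Z_le)
  have hQ : Syl 2 Q ⊤ := by
    refine ⟨le_top, k.suz.pS, fun hd => ?_⟩
    have e1 := card_mul_relIndex (le_top : Q ≤ ⊤)
    rw [k.toBN.card, mul_assoc] at e1
    rw [Nat.eq_of_mul_eq_mul_left (card_pos' Q) e1] at hd
    have e2 := dvd_card_of_isPGroup k.suz.pS k.neQ
    rcases (Nat.Prime.dvd_mul Nat.prime_two).1 hd with h | h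
    · exact k.odd.not_two_dvd_nat h
    · omega
  obtain ⟨g, -, e⟩ := hQ.exists_cj_eq (H1.sylow_isSylowIn_top S)
  rcases h3 with h3 | h3
  · refine fun x hx => ⟨hx, h.exp rk ?_ x hx⟩
    rw [← e]
    rintro _ ⟨a, ha, rfl⟩ _ ⟨b, hb, rfl⟩
    rw [← map_mul, ← map_mul, h3 a ha b hb]
  · refine e.ge.trans (cj_le_iff_le_cj_inv.2 (h3.trans ((closure_le _).2 fun x hx => ?_)))
    refine mem_cj.2 ⟨by simpa using e.le (conj_mem_cj hx.1), ?_⟩
    rw [inv_inv, conj_mul, ← sq, ← hx.2, pow_orderOf_eq_one, mul_one, mul_inv_cancel]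

theorem ab_th {a : G} (ha : orderOf a = 2)
    (h2 : ∀ t a b : G, orderOf t = 2 → a * t = t * a → b * t = t * b → Odd (orderOf a) →
      Odd (orderOf b) → Odd (orderOf (a * b))) {x : G} :
    x ∈ core {2}ᶜ 𝐂[a] ↔ x ∈ 𝐂[a] ∧ Odd (orderOf x) := by
  refine ⟨fun h => ⟨core_le _ _ h, ?_⟩, fun h => ?_⟩
  · exact Nat.odd_iff.2 (by
      have := (piNum_compl_singleton Nat.prime_two).1 ((core_piG _ _).piE h)
      omega)
  let T : Subgroup G :=
    { carrier := {x | x ∈ 𝐂[a] ∧ Odd (orderOf x)}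
      one_mem' := ⟨one_mem _, by simp⟩
      mul_mem' := fun {x y} hx hy => ⟨mul_mem hx.1 hy.1,
        h2 a x y ha (mem_cent1_iff.1 hx.1) (mem_cent1_iff.1 hy.1) hx.2 hy.2⟩
      inv_mem' := fun {x} hx => ⟨inv_mem hx.1, by rw [orderOf_inv]; exact hx.2⟩ }
  refine le_core (N := T) ⟨fun _ h => h.1, fun g hg => mem_normalizer_of_conj_mem fun y hy =>
    ⟨mul_mem (mul_mem hg hy.1) (inv_mem hg), ?_⟩⟩ (piG_of_forall fun y hy =>
      (piNum_compl_singleton Nat.prime_two).2 hy.2.not_two_dvd_nat) h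
  exact ((MulAut.conj g).orderOf_eq y).symm ▸ hy.2

theorem AB [IsSimpleGroup G] (hna : ∃ a b : G, a * b ≠ b * a) (S : Sylow 2 G)
    (h1 : ∀ a ∈ (S : Subgroup G), ∀ b ∈ (S : Subgroup G), a * b = b * a)
    (h2 : ∀ t a b : G, orderOf t = 2 → a * t = t * a → b * t = t * b → Odd (orderOf a) → Odd (orderOf b) →
      Odd (orderOf (a * b))) :
    L2e G ∨ (Nat.card (S : Subgroup G) = 4 ∧ (∀ a ∈ (S : Subgroup G), a * a = 1) ∧
      ∀ t u : G, orderOf t = 2 → orderOf u = 2 → IsConj t u) := by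
  have hS := H1.sylow_isSylowIn_top S
  have cS : (S : Subgroup G) ≤ 𝐂((S : Subgroup G)) := fun x hx => mem_cent_iff.2 fun a ha => h1 a ha x hx
  have c := comm_iff_le_cent.2 cS
  have he := ba_even hna
  have s0 : (S : Subgroup G) ≠ ⊥ := Syl.ne_bot hS (by rwa [card_top])
  have nt : ∀ X : Subgroup G, X ≠ ⊥ → X ≠ ⊤ → 𝐍(X) ≠ ⊤ := fun X a b e =>
    (normalizer_eq_top_iff.1 e).eq_bot_or_eq_top.elim a b
  by_cases h8 : 2 ^ 3 ≤ ♯(om 2 (S : Subgroup G))
  · left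
    have mA := fun x => mem_om_of_comm (p := 2) (x := x) c
    have nA : 𝐍((S : Subgroup G)) ≤ 𝐍(om 2 (S : Subgroup G)) := le_normalizer_om 2 le_rfl
    generalize om 2 (S : Subgroup G) = A at h8 mA nA
    have oa : ∀ a ∈ A, a ≠ 1 → orderOf a = 2 := fun a ha a1 => orderOf_eq_prime ((mA a).1 ha).2 a1
    have sc : ∀ a ∈ A, (S : Subgroup G) ≤ 𝐂[a] := fun a ha => le_cent1_iff.2 (cS ((mA a).1 ha).1)
    obtain ⟨k1, -⟩ := S0217.result (p := 2) A
      (fun a ha b hb => h1 a ((mA a).1 ha).1 b ((mA b).1 hb).1) (fun a ha => ((mA a).1 ha).2) h8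
      (fun a => core {2}ᶜ 𝐂[a]) (fun a _ _ => core_le _ _)
      (fun a _ _ => piG_compl_singleton.1 (core_piG _ _))
      (fun a ha _ b hb x hx => conj_mem_of_mem_normalizer
        ((core_nrm _ _).norm (sc a ha ((mA b).1 hb).1)) hx)
      (fun a _ _ => odd_order_solvable (Nat.odd_iff.2 (by
        have := piG_compl_singleton.1 (core_piG {2}ᶜ 𝐂[a])
        omega)))
      (fun a ha a1 b hb b1 x hx => (ab_th (oa b hb b1) h2).2
        ⟨hx.2, ((ab_th (oa a ha a1) h2).1 hx.1).2⟩)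
    have k2 : ∀ a ∈ A, a ≠ 1 → core {2}ᶜ 𝐂[a] ≤ ⨆ a : {a : G // a ∈ A ∧ a ≠ 1}, core {2}ᶜ 𝐂[(a : G)] :=
      fun a ha a1 => le_iSup_of_le ⟨a, ha, a1⟩ le_rfl
    have k3 : 𝐍((S : Subgroup G)) ≤ 𝐍((⨆ a : {a : G // a ∈ A ∧ a ≠ 1}, core {2}ᶜ 𝐂[(a : G)] :
        Subgroup G)) := fun g hg => mem_normalizer_of_cj_le (cj_le_iff_le_cj_inv.2
      (iSup_le fun a => cj_le_iff_le_cj_inv.1 (by
        refine le_trans (cj_le_iff.2 fun x hx => ?_) (k2 (g * a * g⁻¹)
          (conj_mem_of_mem_normalizer (nA hg) a.2.1) fun e => a.2.2 (by simpa using e))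
        have o := oa _ a.2.1 a.2.2
        obtain ⟨x1, x2⟩ := (ab_th o h2).1 hx
        refine (ab_th (((MulAut.conj g).orderOf_eq _).trans o) h2).2 ⟨mem_cent1_iff.2 ?_,
          ((MulAut.conj g).orderOf_eq x).symm ▸ x2⟩
        change g * x * g⁻¹ * (g * a * g⁻¹) = g * a * g⁻¹ * (g * x * g⁻¹)
        rw [conj_mul, conj_mul, mem_cent1_iff.1 x1])))
    generalize (⨆ a : {a : G // a ∈ A ∧ a ≠ 1}, core {2}ᶜ 𝐂[(a : G)]) = Θ at k1 k2 k3
    have k4 : ∀ t ∈ (S : Subgroup G), orderOf t = 2 → 𝐂[t] ≤ Θ ⊔ S := fun t ht o => by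
      have ta : t ∈ A := (mA t).2 ⟨ht, o ▸ pow_orderOf_eq_one t⟩
      have t1 : t ≠ 1 := by
        rintro rfl
        simp at o
      refine le_of_forall_syl fun q hq _ => ?_
      by_cases q2 : q = 2
      · subst q2
        exact ⟨S, hS.of_le (sc t ta) le_top, le_sup_right⟩
      obtain ⟨P, hP⟩ := exists_syl q 𝐂[t]
      refine ⟨P, hP, le_sup_of_le_left (le_trans (fun x hx => (ab_th o h2).2 ⟨hP.le hx, ?_⟩)
        (k2 t ta t1))⟩
      exact Nat.odd_iff.2 (by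
        have := (piNum_compl_singleton Nat.prime_two).1
          ((piG_compl_of_isPGroup_ne hP.isPGroup q2).piE hx)
        omega)
    by_cases h0 : Θ = ⊥
    · refine BA hna S (nt _ s0 fun e => ?_) le_rfl (fun t ht o => (k4 t ht o).trans ?_) (.inl h1)
      · obtain ⟨a, b, hab⟩ := hna
        exact hab (h1 a (e ▸ mem_top a) b (e ▸ mem_top b))
      · rw [h0, bot_sup_eq]; exact le_normalizer
    · refine BA hna S (nt _ h0 fun e => k1 (by rwa [e, card_top])) k3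
        (fun t ht o => (k4 t ht o).trans (sup_le le_normalizer (le_normalizer.trans k3))) (.inl h1)
  right
  have h4 : ♯(om 2 (S : Subgroup G)) ≤ 2 ^ 2 := by
    obtain ⟨n, hn⟩ := IsPGroup.iff_card.1 (abelem_om (p := 2) c).isPGroup
    rw [hn] at h8 ⊢
    refine Nat.pow_le_pow_right two_pos (by_contra fun h => h8 (Nat.pow_le_pow_right two_pos ?_))
    omega
  have ex : ∀ y ∈ (S : Subgroup G), y ^ 2 = 1 := by
    by_contra! k
    exact ba_nsol hna (S4418.abelian _ S rfl hS c (prank_le_iff.2 fun A hA a =>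
      (card_le_of_le' (a.le_om hA)).trans h4) k)
  rw [om_eq_self ex] at h4
  have mv : ∀ v ∈ (S : Subgroup G), v ≠ 1 → ∃ g ∈ 𝐍((S : Subgroup G)), g * v * g⁻¹ ≠ v := by
    intro v hv v1
    by_contra! k
    obtain ⟨N, hN, ⟨e⟩⟩ := S0105.result S c
    rcases hN.eq_bot_or_eq_top with rfl | rfl
    · obtain ⟨a, b, hab⟩ := hna
      let e' := QuotientGroup.quotientBot.symm.trans e
      exact hab (e'.injective (by
        rw [map_mul, map_mul]; exact Subtype.ext (h1 _ (e' a).2.1 _ (e' b).2.1)))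
    · have := QuotientGroup.subsingleton_quotient_top (G := G)
      have := e.symm.toEquiv.subsingleton
      exact v1 (congrArg Subtype.val (this.elim ⟨v, hv, mem_centralizer_iff.2 fun g hg =>
        mul_inv_eq_iff_eq_mul.1 (k g hg)⟩ 1))
  have four : ∀ t ∈ (S : Subgroup G), ∀ u ∈ (S : Subgroup G), t ≠ 1 → u ≠ 1 → t ≠ u →
      ♯(S : Subgroup G) = 4 ∧ ∀ v ∈ (S : Subgroup G), v = 1 ∨ v = t ∨ v = u ∨ v = t * u := by
    classical
    intro t ht u hu t1 u1 tu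
    have e1 : t * u ≠ 1 := fun e => tu (by
      rw [eq_inv_of_mul_eq_one_left e, inv_eq_of_mul_eq_one_right (sq u ▸ ex u hu)])
    have e2 : ({1, t, u, t * u} : Finset G).card = 4 := by
      rw [Finset.card_insert_of_notMem (by simp [t1.symm, u1.symm, e1.symm]),
        Finset.card_insert_of_notMem (by simp [tu, u1]), Finset.card_pair (by simp [t1])]
    have e3 : ({1, t, u, t * u} : Finset G) ⊆ els (S : Subgroup G) := fun v hv => by
      simp only [Finset.mem_insert, Finset.mem_singleton] at hv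
      rcases hv with rfl | rfl | rfl | rfl
      exacts [mem_els.2 (one_mem _), mem_els.2 ht, mem_els.2 hu, mem_els.2 (mul_mem ht hu)]
    have e4 := Finset.card_le_card e3
    rw [card_els] at e4
    refine ⟨by omega, fun v hv => ?_⟩
    have := (Finset.eq_of_subset_of_card_le e3 (by rw [card_els]; omega)).ge (mem_els.2 hv)
    simpa using this
  have cn : ∀ g v : G, v ≠ 1 → g * v * g⁻¹ ≠ 1 := fun g v h e => h (by simpa using e)
  have cj1 : ∀ t ∈ (S : Subgroup G), ∀ u ∈ (S : Subgroup G), t ≠ 1 → u ≠ 1 → IsConj t u := by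
    intro t ht u hu t1 u1
    by_cases tu : t = u
    · rw [tu]
    obtain ⟨-, f⟩ := four t ht u hu t1 u1 tu
    obtain ⟨g, hg, e⟩ := mv t ht t1
    obtain ⟨g', hg', e'⟩ := mv u hu u1
    rcases f _ (conj_mem_of_mem_normalizer hg ht) with k | k | k | k
    · exact absurd k (cn g t t1)
    · exact absurd k e
    · exact isConj_iff.2 ⟨g, k⟩
    rcases f _ (conj_mem_of_mem_normalizer hg' hu) with k' | k' | k' | k'
    · exact absurd k' (cn g' u u1)
    · exact (isConj_iff.2 ⟨g', k'⟩).symm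
    · exact absurd k' e'
    · exact (isConj_iff.2 ⟨g, k⟩).trans (isConj_iff.2 ⟨g', k'⟩).symm
  refine ⟨?_, fun a ha => sq a ▸ ex a ha, fun t u ot ou => ?_⟩
  · obtain ⟨⟨v, hv⟩, v1⟩ := (ne_bot_iff_exists_ne_one).1 s0
    have v2 : v ≠ 1 := fun e => v1 (Subtype.ext e)
    obtain ⟨g, hg, e⟩ := mv v hv v2
    exact (four v hv _ (conj_mem_of_mem_normalizer hg hv) v2 (cn g v v2) e.symm).1
  have into : ∀ t : G, orderOf t = 2 → ∃ t' ∈ (S : Subgroup G), t' ≠ 1 ∧ IsConj t t' := fun t o => by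
    obtain ⟨g, -, e⟩ := hS.exists_cj_le (Q := zpowers t)
      (IsPGroup.iff_card.2 ⟨1, by rw [Nat.card_zpowers, o]; rfl⟩) le_top
    exact ⟨_, e (conj_mem_cj (mem_zpowers t)), cn g t (by rintro rfl; simp at o),
      isConj_iff.2 ⟨g, rfl⟩⟩
  obtain ⟨t', a1, a2, a3⟩ := into t ot
  obtain ⟨u', b1, b2, b3⟩ := into u ou
  exact (a3.trans (cj1 t' a1 u' b1 a2 b2)).trans b3.symm

end Cfsg.Agent.MC
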