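import Cfsg.Agent.MC.PFa

/-! Facts on `L₂(q)`, part b: unipotent elements, subfields (see `notes/mc_plan.md`). -/

set_option autoImplicit false
set_option linter.unusedSectionVars false

namespace Cfsg.Agent.MC

open Subgroup Cfsg.Agent.FT Cfsg.Agent.H1
open scoped MatrixGroups

namespace PF

open H8 (uX uY uX_add)

variable {F : Type} [Field F] {g h x y a b : SL(2, F)} {t : F}

theorem uX2 (t : F) : uX t 0 0 = 1 ∧ uX t 0 1 = t ∧ uX t 1 0 = 0 ∧ uX t 1 1 = 1 := ⟨rfl, rfl, rfl, rfl⟩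
theorem uY2 (t : F) : uY t 0 0 = 1 ∧ uY t 0 1 = 0 ∧ uY t 1 0 = t ∧ uY t 1 1 = 1 := ⟨rfl, rfl, rfl, rfl⟩
/-- the coordinate on the unipotent group -/
noncomputable def th (z : L2 F) : F := z.out 0 0 * z.out 0 1
theorem th_pr (g : SL(2, F)) : th (pr g) = g 0 0 * g 0 1 := by
  rcases pr_eq.1 (QuotientGroup.out_eq' (pr g) : pr (pr g).out = pr g) with e | e <;>
    simp only [th, e, neg2, neg_mul_neg]
theorem th_u (t : F) : th (pr (uX t)) = t := (th_pr _).trans (one_mul t)
/-- the parametrisation of the unipotent group -/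
def uH (F : Type) [Field F] : Multiplicative F →* L2 F where
  toFun t := pr (uX t.toAdd)
  map_one' := by rw [toAdd_one, H8.uX_zero, map_one]
  map_mul' s t := by rw [toAdd_mul, uX_add, map_mul]
theorem mem_U {z : L2 F} : z ∈ (uH F).range ↔ ∃ t, pr (uX t) = z :=
  ⟨fun ⟨t, e⟩ => ⟨t.toAdd, e⟩, fun ⟨t, e⟩ => ⟨.ofAdd t, e⟩⟩
theorem u_mem (t : F) : pr (uX t) ∈ (uH F).range := mem_U.2 ⟨t, rfl⟩
theorem pr_mem_U : pr g ∈ (uH F).range ↔ g 1 0 = 0 ∧ g 0 0 = g 1 1 := by
  rw [mem_U]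
  constructor
  · rintro ⟨t, e⟩
    rcases pr_eq.1 e.symm with rfl | rfl <;> simp only [neg2, uX2, neg_zero, and_self]
  · rintro ⟨e1, e2⟩
    have d := det2 g
    rw [e1, ← e2, mul_zero, sub_zero] at d
    refine ⟨g 0 0 * g 0 1, pr_eq.2 ?_⟩
    simp only [ext2, neg2, uX2, e1, ← e2]
    rcases mul_self_eq_one_iff.1 d with k | k <;> simp [k]
theorem conj_u (h : g 1 0 = 0) (t : F) : g * uX t * g⁻¹ = uX (g 0 0 ^ 2 * t) := by
  have d := det2 g
  simp only [mul_inv_eq_iff_eq_mul, ext2, mul2, uX2, h] at d ⊢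
  refine ⟨by ring, ?_, by ring, by ring⟩
  linear_combination (-(g 0 0 * t)) * d
theorem mem_NU : pr g ∈ 𝐍((uH F).range) ↔ g 1 0 = 0 := by
  constructor
  · intro e
    have k := (mem_normalizer_iff.1 e _).1 (u_mem 1)
    rw [← map_inv, ← map_mul, ← map_mul, pr_mem_U] at k
    have k1 := k.1
    simp only [mul2, inv2 g, uX2] at k1
    exact pow_eq_zero_iff two_ne_zero |>.1 (by linear_combination -k1)
  · intro e
    have k : ∀ g : SL(2, F), g 1 0 = 0 → ∀ z ∈ (uH F).range, pr g * z * (pr g)⁻¹ ∈ (uH F).range := by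
      intro g e z hz
      obtain ⟨t, rfl⟩ := mem_U.1 hz
      rw [← map_inv, ← map_mul, ← map_mul, conj_u e]
      exact u_mem _
    refine mem_normalizer_iff.2 fun z => ⟨k g e z, fun hz => ?_⟩
    simpa [mul_assoc] using k g⁻¹ (by rw [(inv2 g).2.2.1, e, neg_zero]) _ hz
theorem cen_u (ht : t ≠ 0) : 𝐂[pr (uX t)] = (uH F).range := by
  ext z
  obtain ⟨g, rfl⟩ := pr_surj z
  rw [mem_cent1_iff]
  constructor
  · intro e
    have k : g * uX t = uX t * g := by
      by_cases h2 : (2 : F) = 0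
      · rwa [← map_mul, ← map_mul, pr_eq, neg_eq h2, or_self] at e
      refine lift (fun k => ?_) e
      rw [← map_mul, ← uX_add] at k
      have k1 := th_u (t + t)
      rw [k, ← map_one pr, th_pr, one2.2.1, mul_zero] at k1
      exact mul_ne_zero h2 ht (by linear_combination -k1)
    simp only [ext2, mul2, uX2] at k
    exact pr_mem_U.2 ⟨mul_left_cancel₀ ht (by linear_combination -k.1),
      mul_left_cancel₀ ht (by linear_combination k.2.1)⟩
  · intro e
    obtain ⟨s, e⟩ := mem_U.1 e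
    rw [← e, ← map_mul, ← map_mul, ← uX_add, ← uX_add, add_comm]

variable [Fintype F]

theorem card_U : ♯(uH F).range = Fintype.card F := by
  rw [← Nat.card_congr (MonoidHom.ofInjective (f := uH F) fun s t e =>
    (th_u s.toAdd).symm.trans ((congrArg th e).trans (th_u t.toAdd))).toEquiv,
    Nat.card_eq_fintype_card, Fintype.card_multiplicative]
theorem index_NU : (𝐍((uH F).range)).index = Fintype.card F + 1 := by
  letI := MulAction.compHom (Option F) (BW.Z2.psi F)
  have e : ∀ g : SL(2, F), g • (none : Option F) = BW.Z2.psi F g none := fun _ => rfl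
  haveI : MulAction.IsPretransitive SL(2, F) (Option F) := MulAction.IsPretransitive.of_orbit
    (x₀ := none) fun z => by
      cases z with
      | none => exact ⟨1, one_smul _ _⟩
      | some z => exact ⟨mk2 z (-1) 1 0 (by simp), by simp only [e, BW.Z2.psi_none, mk22, one_ne_zero, if_false, div_one]⟩
  have k : 𝐍((uH F).range) = (MulAction.stabilizer SL(2, F) (none : Option F)).map pr := by
    have k1 : ∀ g : SL(2, F), g ∈ MulAction.stabilizer SL(2, F) (none : Option F) ↔ g 1 0 = 0 :=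
      fun g => by rw [MulAction.mem_stabilizer_iff, e, BW.Z2.psi_none]; simp
    ext z
    constructor
    · intro hz
      obtain ⟨g, rfl⟩ := pr_surj z
      exact mem_map_of_mem _ ((k1 g).2 (mem_NU.1 hz))
    · rintro ⟨g, hg, rfl⟩
      exact mem_NU.2 ((k1 g).1 hg)
  rw [k, index_map_eq _ pr_surj fun g hg => ?_, MulAction.index_stabilizer_of_transitive,
    Nat.card_eq_fintype_card, Fintype.card_option]
  rw [QuotientGroup.ker_mk', ← BW.Z2.ker_psi] at hg
  rw [MulAction.mem_stabilizer_iff, e, MonoidHom.mem_ker.1 hg, Equiv.Perm.one_apply]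
theorem exists_cj {p : ℕ} [hp : Fact p.Prime] [CharP F p] (Q : Sylow p (L2 F)) :
    ∃ z, cj z (uH F).range = Q := by
  obtain ⟨n, -, hn⟩ := FiniteField.card F p
  refine IsSylowIn.exists_cj_eq (sylow_isSylowIn_top Q)
    ⟨le_top, isPGroup_of_card (card_U.trans hn), fun k => ?_⟩ |>.imp fun _ k => k.2
  have c := F0_card (F := F)
  rw [← (uH F).range.card_mul_index, card_U, mul_left_comm] at c
  have c1 := Nat.eq_of_mul_eq_mul_left Fintype.card_pos c
  rw [relIndex_top_right] at k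
  have k1 := c1 ▸ k.mul_left _
  have k2 : p ∣ Fintype.card F ^ 2 := dvd_pow (hn ▸ dvd_pow_self p n.ne_zero) two_ne_zero
  have k3 := Nat.dvd_sub k2 k1
  rw [Nat.sub_sub_self (Nat.one_le_pow _ _ Fintype.card_pos)] at k3
  exact hp.out.one_lt.ne' (Nat.dvd_one.1 k3)
theorem F5' (h : 4 ≤ Fintype.card F) (α : L2 F ≃* L2 F) (hα : ∀ g ∈ 𝐍((uH F).range), α g = g)
    (g : L2 F) : α g = g := by
  have hu : ∀ t : F, α (pr (uX t)) = pr (uX t) := fun t => hα _ (mem_NU.2 rfl)
  have hw : α (pr (W 0)) = pr (W 0) := by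
    obtain ⟨m, hm⟩ := pr_surj (α (pr (W (0 : F))))
    by_cases k : m 1 0 = 0
    · exact α.injective (hm ▸ hα _ (mem_NU.2 k))
    obtain ⟨u, hu0⟩ := IsCyclic.exists_ofOrder_eq_natCard (α := Fˣ)
    have u2 : (u : F) * u ≠ 1 := fun e => by
      have := Nat.le_of_dvd two_pos (orderOf_dvd_of_pow_eq_one (Units.ext (by simpa [sq] using e) : u ^ 2 = 1))
      rw [hu0, Nat.card_units, Nat.card_eq_fintype_card] at this
      omega
    have uu := u.mul_inv
    have e1 : W (0 : F) * D u = D u⁻¹ * W 0 := by simp only [ext2, mul2, W2, D2, inv_inv]; simp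
    have e2 := congrArg (fun z => α (pr z)) e1
    simp only [map_mul] at e2
    rw [hα (pr (D u)) (mem_NU.2 rfl), hα (pr (D u⁻¹)) (mem_NU.2 rfl), ← hm, ← map_mul, ← map_mul,
      pr_eq] at e2
    have e3 : m * D u = D u⁻¹ * m := e2.elim id fun e => by
      have k1 := (ext2.1 e).2.2.1
      simp only [mul2, neg2, D2, inv_inv] at k1
      rwa [neg_eq (mul_left_cancel₀ (mul_ne_zero k u.ne_zero) (by linear_combination k1))] at e
    simp only [ext2, mul2, D2, inv_inv] at e3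
    have m0 : m 0 0 = 0 := mul_left_cancel₀ (sub_ne_zero.2 u2) (by
      linear_combination u * e3.1 + m 0 0 * uu)
    have m1 : m 1 1 = 0 := mul_left_cancel₀ (sub_ne_zero.2 u2) (by
      linear_combination -u * e3.2.2.2 + m 1 1 * uu)
    have d := det2 m
    have e4 : W (0 : F) * uX 1 * (W 0 * uX 1) * (W 0 * uX 1) = -1 := by
      simp only [ext2, mul2, W2, uX2, neg2, one2]; simp
    have e5 := congrArg (fun z => α (pr z)) e4
    simp only [map_mul, pr_neg, map_one] at e5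
    rw [hu, ← hm] at e5
    simp only [← map_mul] at e5
    have e6 := (pr_mem_U.1 (e5 ▸ one_mem _)).1
    simp only [mul2, uX2, m0, m1] at e6 d
    have e7 : m 1 0 * m 1 0 = 1 := mul_left_cancel₀ k (by linear_combination e6 + m 1 0 * d)
    rw [← hm, pr_eq]
    simp only [ext2, neg2, W2, m0, m1]
    rcases mul_self_eq_one_iff.1 e7 with j | j <;> rw [j] at d
    · exact .inl ⟨trivial, by linear_combination -d, j, trivial⟩
    · exact .inr ⟨by simp, by linear_combination d, j, by simp⟩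
  obtain ⟨g, rfl⟩ := pr_surj g
  refine H8.SL2_induction (fun g => α (pr g) = pr g) hu (fun t => ?_) (fun A B a b => ?_) g
  · have e : uY t = W 0 * uX (-t) * (W 0)⁻¹ := by
      simp only [eq_mul_inv_iff_mul_eq, ext2, mul2, W2, uX2, uY2]; simp
    simp only [e, map_mul, map_inv, hw, hu]
  · simp only [map_mul, a, b]

end PF

open PF

variable {F : Type} [Field F] [Fintype F]

/-- Sylow subgroups in the defining characteristic -/
theorem F4 {p : ℕ} [Fact p.Prime] [CharP F p] (Q : Sylow p (L2 F)) :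
    ∃ θ : L2 F → F, Set.BijOn θ (Q : Subgroup (L2 F)) Set.univ ∧
      (∀ x ∈ (Q : Subgroup (L2 F)), ∀ y ∈ (Q : Subgroup (L2 F)), θ (x * y) = θ x + θ y) ∧
      (∀ y ∈ (Q : Subgroup (L2 F)), y ≠ 1 → centralizer ({y} : Set (L2 F)) = Q) ∧
      (∀ g ∈ normalizer ((Q : Subgroup (L2 F)) : Set (L2 F)), ∃ a : F, a ≠ 0 ∧
        ∀ y ∈ (Q : Subgroup (L2 F)), θ (g * y * g⁻¹) = a ^ 2 * θ y) ∧
      (∀ a : F, a ≠ 0 → ∃ g ∈ normalizer ((Q : Subgroup (L2 F)) : Set (L2 F)),
        ∀ y ∈ (Q : Subgroup (L2 F)), θ (g * y * g⁻¹) = a ^ 2 * θ y) ∧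
      (normalizer ((Q : Subgroup (L2 F)) : Set (L2 F))).index = Fintype.card F + 1 := by
  obtain ⟨z, e⟩ := exists_cj Q
  rw [← e, ← cj_normalizer]
  have m : ∀ y ∈ cj z (uH F).range, ∃ t, y = z * pr (H8.uX t) * z⁻¹ := fun y hy => by
    obtain ⟨t, k⟩ := mem_U.1 (mem_cj.1 hy)
    exact ⟨t, by rw [k]; group⟩
  have v : ∀ t, th (z⁻¹ * (z * pr (H8.uX t) * z⁻¹) * z) = t := fun t => by
    simpa [mul_assoc] using th_u t
  have c : ∀ g : SL(2, F), g 1 0 = 0 → ∀ y ∈ cj z (uH F).range,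
      th (z⁻¹ * (z * pr g * z⁻¹ * y * (z * pr g * z⁻¹)⁻¹) * z) = g 0 0 ^ 2 * th (z⁻¹ * y * z) := by
    intro g hg y hy
    obtain ⟨t, rfl⟩ := m y hy
    rw [v, ← th_u (g 0 0 ^ 2 * t), ← conj_u hg, map_mul, map_mul, map_inv]
    congr 1
    group
  refine ⟨fun y => th (z⁻¹ * y * z), ⟨fun _ _ => trivial, fun x hx y hy k => ?_,
    fun t _ => ⟨_, conj_mem_cj (u_mem t), v t⟩⟩, fun x hx y hy => ?_, fun y hy y1 => ?_,
    fun g hg => ?_, fun a ha => ⟨z * pr (D (Units.mk0 a ha)) * z⁻¹, conj_mem_cj (mem_NU.2 rfl),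
      c _ rfl⟩, ?_⟩
  · obtain ⟨s, rfl⟩ := m x hx
    obtain ⟨t, rfl⟩ := m y hy
    simp only [v] at k
    rw [k]
  · obtain ⟨s, rfl⟩ := m x hx
    obtain ⟨t, rfl⟩ := m y hy
    simp only [conj_mul, ← map_mul, ← H8.uX_add, v]
  · obtain ⟨t, rfl⟩ := m y hy
    rw [← cj_cent1, cen_u fun k => y1 (by rw [k, H8.uX_zero, map_one, mul_one, mul_inv_cancel])]
  · obtain ⟨g, k⟩ := pr_surj (z⁻¹ * g * z)
    have k1 := mem_NU.1 (k ▸ mem_cj.1 hg)
    obtain rfl : _ = z * pr g * z⁻¹ := by rw [k, ← mul_assoc, ← mul_assoc, mul_inv_cancel, one_mul,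
      mul_inv_cancel_right]
    exact ⟨g 0 0, fun j => by simpa [j, k1] using det2 g, c g k1⟩
  · rw [← relIndex_top_right, ← cj_top z, relIndex_cj, relIndex_top_right, index_NU]
theorem F5 {p : ℕ} [Fact p.Prime] [CharP F p] (h : 4 ≤ Fintype.card F) (Q : Sylow p (L2 F))
    (α : L2 F ≃* L2 F) (hα : ∀ g ∈ normalizer ((Q : Subgroup (L2 F)) : Set (L2 F)), α g = g) (g : L2 F) :
    α g = g := by
  obtain ⟨z, e⟩ := exists_cj Q
  rw [← e, ← cj_normalizer] at hα
  have k := F5' h (((MulAut.conj z).trans α).trans (MulAut.conj z).symm) (fun g hg => by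
    simp only [MulEquiv.trans_apply, MulAut.conj_apply, hα _ (conj_mem_cj hg), MulAut.conj_symm_apply]
    group) ((MulAut.conj z).symm g)
  simp only [MulEquiv.trans_apply, MulEquiv.apply_symm_apply] at k
  exact (MulAut.conj z).symm.injective k
/-- subfield subgroups -/
theorem F6 {E : Type} [Field E] [Fintype E] (f : E →+* F) :
    ∃ φ : L2 E →* L2 F, Function.Injective φ := by
  have m : ∀ (g : SL(2, E)) i j, Matrix.SpecialLinearGroup.map f g i j = f (g i j) := fun _ _ _ => rfl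
  have k : ∀ g : SL(2, E), Matrix.SpecialLinearGroup.map f g ∈ center SL(2, F) ↔ g ∈ center SL(2, E) :=
    fun g => by
      simp only [mem_cen, ext2, m, neg2, one2, neg_zero, map_eq_zero]
      rw [← map_one f, ← map_neg f]
      simp only [f.injective.eq_iff]
  refine ⟨QuotientGroup.map _ _ (Matrix.SpecialLinearGroup.map f) fun g hg => (k g).2 hg,
    (injective_iff_map_eq_one _).2 fun z hz => ?_⟩
  obtain ⟨g, rfl⟩ := pr_surj z
  exact pr_eq_one.2 ((k g).1 (pr_eq_one.1 hz))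
theorem FIN {F : Type} [Field F] [Fintype F] (ho : Odd (Fintype.card F)) (h7 : 7 ≤ Fintype.card F)
    (h8 : ¬ 8 ∣ Nat.card (L2 F)) (hP : PCA (L2 F)) : Lst (Fintype.card F) := by
  obtain ⟨p, hc⟩ := CharP.exists F
  haveI hp : Fact p.Prime := ⟨CharP.char_is_prime F p⟩
  letI : Algebra (ZMod p) F := ZMod.algebra F p
  have hn := FiniteField.pow_finrank_eq_card p F
  have c := BW.Z2.card_PSL2 ho
  have h16 : ¬ 16 ∣ Fintype.card F ^ 2 - 1 := fun k => h8 (Nat.dvd_of_mul_dvd_mul_left two_pos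
    (c ▸ k.mul_left _))
  have k : ∀ d < Module.finrank (ZMod p) F, d ∣ Module.finrank (ZMod p) F → p ^ d < 7 := by
    intro d d1 d2
    have d0 : d ≠ 0 := fun e => by rw [e, zero_dvd_iff] at d2; omega
    letI := Fintype.ofFinite (GaloisField p d)
    have c0 : Fintype.card (GaloisField p d) = p ^ d := by
      rw [← Nat.card_eq_fintype_card, GaloisField.card p d d0]
    obtain ⟨f⟩ := FiniteField.nonempty_algHom_of_finrank_dvd (F := ZMod p) (K := GaloisField p d)
      (L := F) (by rwa [GaloisField.finrank p d0])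
    obtain ⟨φ, hφ⟩ := F6 f.toRingHom
    have o0 : Odd (Fintype.card (GaloisField p d)) := ho.of_dvd_nat (by
      rw [c0, ← hn]; exact pow_dvd_pow p d1.le)
    have l : Fintype.card (GaloisField p d) < Fintype.card F := by
      rw [c0, ← hn]; exact Nat.pow_lt_pow_right hp.out.one_lt d1
    by_contra! k
    have k1 := hP φ.range fun e => by
      have c1 := BW.Z2.card_PSL2 o0
      rw [Nat.card_congr (MonoidHom.ofInjective hφ).toEquiv, e, card_top, c] at c1
      exact (Nat.mul_lt_mul_of_lt_of_le l (Nat.sub_le_sub_right (Nat.pow_le_pow_left l.le 2) 1)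
        (Nat.sub_pos_of_lt (Nat.one_lt_pow two_ne_zero Fintype.one_lt_card))).ne' c1
    refine NCA o0 (c0 ▸ k) fun x _ ⟨y, _, hy⟩ a _ b _ ha hb => hφ ?_
    rw [map_mul, map_mul]
    exact k1 _ ⟨x, rfl⟩ ⟨_, ⟨y, rfl⟩, fun e => hy (hφ (by rwa [map_mul, map_mul]))⟩ _ ⟨a, rfl⟩ _ ⟨b, rfl⟩
      (by rw [← map_mul, ha, map_mul]) (by rw [← map_mul, hb, map_mul])
  have n0 : 0 < Module.finrank (ZMod p) F := Module.finrank_pos
  generalize Module.finrank (ZMod p) F = n at *
  by_cases n1 : n = 1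
  · rw [n1, pow_one] at hn
    exact .inl ⟨hn ▸ hp.out, by omega, h16⟩
  have po : p % 2 = 1 := Nat.odd_iff.1 (ho.of_dvd_nat (hn ▸ dvd_pow_self p n0.ne'))
  have p2 := hp.out.two_le
  have p7 := k 1 (by omega) (one_dvd n)
  rw [pow_one] at p7
  refine .inr ⟨n, Nat.prime_def_lt.2 ⟨by omega, fun d d1 d2 => ?_⟩, fun e => h16 ?_, ?_⟩
  · have d0 : d ≠ 0 := fun e => by rw [e, zero_dvd_iff] at d2; omega
    by_contra j
    have := k d d1 d2
    have := Nat.pow_le_pow_right (by omega : 0 < p) (by omega : 2 ≤ d)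
    have := Nat.pow_le_pow_left (by omega : 3 ≤ p) 2
    omega
  · rw [← hn, e]
    obtain rfl | rfl : p = 3 ∨ p = 5 := by omega
    all_goals decide
  · rw [← hn]
    exact (by omega : p = 3 ∨ p = 5).imp (fun e => by rw [e]) fun e => by rw [e]

end Cfsg.Agent.MC
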