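import Mathlib

/-! The lemma `BG`: arithmetic. -/

set_option autoImplicit false

namespace Cfsg.Agent.MC

theorem bg_rec {a k : ℤ} (hk : 0 < k) (h : k ≤ a) : 0 < (1 / a : ℚ) ∧ (1 / a : ℚ) ≤ 1 / k :=
  ⟨one_div_pos.2 (by exact_mod_cast hk.trans_le h),
    one_div_le_one_div_of_le (by exact_mod_cast hk) (by exact_mod_cast h)⟩

theorem bg_y {V : ℚ} {Y : ℤ} (h1 : 5 / 7 < V) (h2 : V < 7 / 5) (hY : Y % 4 = 3) (e : V = 8 / Y) :
    V = 8 / 7 ∨ V = 8 / 11 := by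
  have h0 : (0 : ℚ) < Y := by
    by_contra k
    have := div_nonpos_of_nonneg_of_nonpos (show (0 : ℚ) ≤ 8 by norm_num) (not_lt.1 k)
    linarith
  rw [e, lt_div_iff₀ h0] at h1
  rw [e, div_lt_iff₀ h0] at h2
  have h3 : Y < 12 := by exact_mod_cast (show (Y : ℚ) < 12 by linarith)
  have h4 : 5 < Y := by exact_mod_cast (show (5 : ℚ) < Y by linarith)
  rcases (by omega : Y = 7 ∨ Y = 11) with rfl | rfl <;> simp [e]

theorem bg_pp {a b c : ℤ} (h : a + b + c = -1) (ha : a % 4 = 1) (hb : b % 4 = 1) (a5 : 5 ≤ a)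
    (b5 : 5 ≤ b) {V : ℚ} (e : V = 1 + 1 / a + 1 / b + 1 / c) :
    3 / 5 ≤ V ∧ ∀ Y : ℤ, Y % 4 = 3 → V ≠ 8 / Y := by
  obtain rfl : c = -(a + b + 1) := by omega
  have h1 := bg_rec (by norm_num) a5
  have h2 := bg_rec (by norm_num) b5
  have h3 := bg_rec (a := a + b + 1) (k := a) (by omega) (by omega)
  have h4 := bg_rec (a := a + b + 1) (k := b) (by omega) (by omega)
  rw [Int.cast_neg, div_neg] at e
  push_cast at h1 h2
  refine ⟨by linarith, fun Y hY e' => ?_⟩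
  rcases bg_y (by linarith) (by linarith) hY e' with k | k
  · have a9 : 9 ≤ a := by
      by_contra k'
      obtain rfl : a = 5 := by omega
      push_cast at *; linarith
    have b9 : 9 ≤ b := by
      by_contra k'
      obtain rfl : b = 5 := by omega
      push_cast at *; linarith
    have h5 := bg_rec (by norm_num) a9
    have h6 := bg_rec (by norm_num) b9
    have a3 : a < 33 := by
      by_contra k'
      have := bg_rec (by norm_num) (not_lt.1 k')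
      push_cast at *; linarith
    have b3 : b < 33 := by
      by_contra k'
      have := bg_rec (by norm_num) (not_lt.1 k')
      push_cast at *; linarith
    rw [k] at e
    clear * - e ha hb a9 b9 a3 b3
    interval_cases a <;> simp at ha <;> interval_cases b <;> simp at hb <;> norm_num at e
  · linarith

theorem bg_nn {a b c : ℤ} (h : a + b + c = -1) (hb : b % 4 = 1) (hc : c % 4 = 1) (b7 : b ≤ -7)
    (c7 : c ≤ -7) {V : ℚ} (e : V = 1 + 1 / a + 1 / b + 1 / c) :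
    3 / 5 ≤ V ∧ ∀ Y : ℤ, Y % 4 = 3 → V ≠ 8 / Y := by
  have h1 := bg_rec (a := -b) (k := 7) (by norm_num) (by omega)
  have h2 := bg_rec (a := -c) (k := 7) (by norm_num) (by omega)
  have h3 := bg_rec (a := a) (k := -b) (by omega) (by omega)
  push_cast at h1 h2 h3
  rw [div_neg] at h1 h2 h3
  refine ⟨by linarith, fun Y hY e' => ?_⟩
  rcases bg_y (by linarith) (by linarith) hY e' with k | k
  · linarith
  · obtain rfl : b = -7 := by
      by_contra k'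
      have := bg_rec (a := -b) (k := 11) (by norm_num) (by omega)
      push_cast at this; rw [div_neg] at this; linarith
    obtain rfl : c = -7 := by
      by_contra k'
      have := bg_rec (a := -c) (k := 11) (by norm_num) (by omega)
      push_cast at this; rw [div_neg] at this; linarith
    obtain rfl : a = 13 := by omega
    norm_num [k] at e

theorem bg_num1 {a b c : ℤ} (h : a + b + c = -1) (ha : a % 4 = 1 ∧ a ≠ 1 ∧ a ≠ -3)
    (hb : b % 4 = 1 ∧ b ≠ 1 ∧ b ≠ -3) (hc : c % 4 = 1 ∧ c ≠ 1 ∧ c ≠ -3) {V : ℚ}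
    (e : V = 1 + 1 / a + 1 / b + 1 / c) : 3 / 5 ≤ V ∧ ∀ Y : ℤ, Y % 4 = 3 → V ≠ 8 / Y := by
  rcases (by omega : 5 ≤ a ∨ a ≤ -7) with a1 | a1 <;> rcases (by omega : 5 ≤ b ∨ b ≤ -7) with b1 | b1 <;>
    rcases (by omega : 5 ≤ c ∨ c ≤ -7) with c1 | c1
  · omega
  · exact bg_pp h ha.1 hb.1 a1 b1 e
  · exact bg_pp (b := c) (c := b) (by omega) ha.1 hc.1 a1 c1 (by rw [e]; ring)
  · exact bg_nn h hb.1 hc.1 b1 c1 e
  · exact bg_pp (a := b) (b := c) (c := a) (by omega) hb.1 hc.1 b1 c1 (by rw [e]; ring)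
  · exact bg_nn (a := b) (b := a) (by omega) ha.1 hc.1 a1 c1 (by rw [e]; ring)
  · exact bg_nn (a := c) (b := a) (c := b) (by omega) ha.1 hb.1 a1 b1 (by rw [e]; ring)
  · omega

theorem bg_num2 {a b c d : ℤ} (h : a + b + c + d = 0) (ha : a % 4 = 1 ∧ a ≠ 1 ∧ a ≠ -3)
    (hb : b % 4 = 1 ∧ b ≠ 1 ∧ b ≠ -3) (hc : c % 4 = 1 ∧ c ≠ 1 ∧ c ≠ -3)
    (hd : d % 4 = 1 ∧ d ≠ 1 ∧ d ≠ -3) : (1 / a + 1 / b + 1 / c + 1 / d : ℚ) < 3 / 5 := by
  have k : ∀ a : ℤ, a % 4 = 1 ∧ a ≠ 1 ∧ a ≠ -3 → (1 / a : ℚ) ≤ 1 / 5 ∧ (a < 0 → (1 / a : ℚ) < 0) :=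
    fun a ha => by
      have h1 : a < 0 → (1 / a : ℚ) < 0 := fun k => one_div_neg.2 (by exact_mod_cast k)
      refine ⟨?_, h1⟩
      rcases (by omega : 5 ≤ a ∨ a < 0) with k | k
      · simpa using (bg_rec (by norm_num) k).2
      · linarith [h1 k]
  obtain ⟨a1, a2⟩ := k a ha
  obtain ⟨b1, b2⟩ := k b hb
  obtain ⟨c1, c2⟩ := k c hc
  obtain ⟨d1, d2⟩ := k d hd
  rcases (by omega : a < 0 ∨ b < 0 ∨ c < 0 ∨ d < 0) with k | k | k | k
  exacts [by linarith [a2 k], by linarith [b2 k], by linarith [c2 k], by linarith [d2 k]]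

/-- a sign -/
def Sg (a : ℤ) : Prop := a = 1 ∨ a = -1

theorem bg_had {u v w : Fin 4 → ℤ} (hu : ∀ i, Sg (u i)) (hv : ∀ i, Sg (v i)) (h1 : ∑ i, u i = 0)
    (h2 : ∑ i, v i = 0) (h3 : ∑ i, u i * v i = 0) (h4 : ∑ i, w i = 0) (h5 : ∑ i, w i * u i = 0)
    (h6 : ∑ i, w i * v i = 0) (i : Fin 4) : w i = w 0 * u 0 * v 0 * (u i * v i) := by
  simp only [Fin.sum_univ_four] at *
  have : w 1 = w 0 * u 0 * v 0 * (u 1 * v 1) ∧ w 2 = w 0 * u 0 * v 0 * (u 2 * v 2) ∧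
      w 3 = w 0 * u 0 * v 0 * (u 3 * v 3) ∧ w 0 = w 0 * u 0 * v 0 * (u 0 * v 0) := by
    rcases hu 0 with a | a <;> rcases hu 1 with b | b <;> rcases hu 2 with c | c <;>
      rcases hu 3 with d | d <;> rw [a, b, c, d] at h1 h3 h5 ⊢ <;> first | omega | skip
    all_goals
      rcases hv 0 with a | a <;> rcases hv 1 with b | b <;> rcases hv 2 with c | c <;>
        rcases hv 3 with d | d <;> rw [a, b, c, d] at h2 h3 h6 ⊢ <;> omega
  fin_cases i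
  exacts [this.2.2.2, this.1, this.2.1, this.2.2.1]

theorem bg_two {u w : Fin 4 → ℤ} (hu : ∀ i, Sg (u i)) (h1 : ∑ i, u i = 0) (h4 : ∑ i, w i = 0)
    (h5 : ∑ i, w i * u i = 0) : ∑ i, ((1 + u i : ℤ) : ℚ) ^ 2 / w i = 0 := by
  simp only [Fin.sum_univ_four] at *
  rcases hu 0 with a | a <;> rcases hu 1 with b | b <;> rcases hu 2 with c | c <;>
    rcases hu 3 with d | d <;> rw [a, b, c, d] at h1 h5 ⊢ <;> first | omega | skip
  · rw [show w 1 = -w 0 by omega]; simp [div_neg]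
  · rw [show w 2 = -w 0 by omega]; simp [div_neg]
  · rw [show w 3 = -w 0 by omega]; simp [div_neg]
  · rw [show w 2 = -w 1 by omega]; simp [div_neg]
  · rw [show w 3 = -w 1 by omega]; simp [div_neg]
  · rw [show w 3 = -w 2 by omega]; simp [div_neg]

theorem bg_three' {u v w : Fin 4 → ℤ} (hu : ∀ i, Sg (u i)) (hv : ∀ i, Sg (v i)) (h1 : ∑ i, u i = 0)
    (h2 : ∑ i, v i = 0) (h3 : ∑ i, u i * v i = 0) (h4 : ∑ i, w i = 0) (h5 : ∑ i, w i * u i = 0)
    (h6 : ∑ i, w i * v i = 0) (h7 : (w 0 + 3 * (1 + u 0 + v 0)) % 4 = 0) :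
    ∃ Y : ℤ, Y % 4 = 3 ∧ ∑ i, ((1 + u i + v i : ℤ) : ℚ) ^ 2 / w i = 8 / Y := by
  refine ⟨w 0 * u 0 * v 0, ?_, ?_⟩
  · rcases hu 0 with a | a <;> rcases hv 0 with b | b <;> rw [a, b] at h7 ⊢ <;> omega
  rw [Finset.sum_congr rfl (g := fun i => ((3 * (u i * v i) + 2 * u i + 2 * v i + 2 : ℤ) : ℚ) /
    (w 0 * u 0 * v 0 : ℤ)) fun i _ => ?_, ← Finset.sum_div, ← Int.cast_sum]
  · simp only [Finset.sum_add_distrib, ← Finset.mul_sum, h1, h2, h3]; norm_num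
  · rw [bg_had hu hv h1 h2 h3 h4 h5 h6 i]
    generalize w 0 * u 0 * v 0 = Y
    rcases hu i with a | a <;> rcases hv i with b | b <;> rw [a, b] <;> norm_num [div_neg, neg_div]

theorem bg_comb {κ : Type*} [DecidableEq κ] (J : Finset κ) (B : κ → Fin 4 → ℤ) (X c : Fin 4 → ℤ)
    {l : κ} (hl : l ∈ J) (h0 : ∀ i, B l i = 1) (h1 : ∀ m ∈ J, (∀ i, B m i = 0) ∨ ∀ i, Sg (B m i))
    (h2 : ∀ m ∈ J, ∀ n ∈ J, m ≠ n → ∑ i, B m i * B n i = 0) (h3 : ∀ m ∈ J, ∑ i, X i * B m i = 0)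
    (h4 : ∀ i, c i = ∑ m ∈ J, B m i) (h5 : X 0 ≠ 0) (h6 : (X 0 + 3 * c 0) % 4 = 0) :
    ∑ i, (c i : ℚ) ^ 2 / X i = 0 ∨ (∃ Y : ℤ, Y % 4 = 3 ∧ ∑ i, (c i : ℚ) ^ 2 / X i = 8 / Y) ∨
      ∀ m ∈ J, m ≠ l → ∀ i, B m i = 0 := by
  have s1 : ∀ m ∈ J, m ≠ l → ∑ i, B m i = 0 := fun m hm e => by simpa [h0] using h2 m hm l hl e
  have s2 : ∑ i, X i = 0 := by simpa [h0] using h3 l hl
  by_cases k1 : ∀ m ∈ J, m ≠ l → ∀ i, B m i = 0
  · exact .inr (.inr k1)
  obtain ⟨m, hm, ml, m1⟩ : ∃ m ∈ J, m ≠ l ∧ ∀ i, Sg (B m i) := by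
    by_contra! k
    exact k1 fun m hm e => (h1 m hm).resolve_right fun k' => (k m hm e).elim fun i hi => hi (k' i)
  by_cases k2 : ∀ n ∈ J, n ≠ l → n ≠ m → ∀ i, B n i = 0
  · refine .inl ((Finset.sum_congr rfl fun i _ => ?_).trans (bg_two m1 (s1 m hm ml) s2 (h3 m hm)))
    rw [h4, ← Finset.sum_subset (s₁ := {l, m}) (by simp [Finset.insert_subset_iff, hl, hm])
      fun n hn e => k2 n hn (fun k => e (by simp [k])) (fun k => e (by simp [k])) i,
      Finset.sum_pair ml.symm, h0]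
  obtain ⟨n, hn, nl, nm, n1⟩ : ∃ n ∈ J, n ≠ l ∧ n ≠ m ∧ ∀ i, Sg (B n i) := by
    by_contra! k
    exact k2 fun n hn e e' => (h1 n hn).resolve_right fun k' => (k n hn e e').elim fun i hi => hi (k' i)
  have had := fun w => bg_had (w := w) m1 n1 (s1 m hm ml) (s1 n hn nl) (h2 m hm n hn nm.symm)
  have k3 : ∀ i, c i = 1 + B m i + B n i := fun i => by
    rw [h4, ← Finset.sum_subset (s₁ := {l, m, n}) (by simp [Finset.insert_subset_iff, hl, hm, hn])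
      fun p hp e => ?_, Finset.sum_insert (by simp [ml.symm, nl.symm]), Finset.sum_pair nm.symm, h0,
      add_assoc]
    simp only [Finset.mem_insert, Finset.mem_singleton, not_or] at e
    refine (h1 p hp).resolve_right (fun p1 => h5 ?_) i
    have a1 := had (B p) (s1 p hp e.1) (h2 p hp m hm e.2.1) (h2 p hp n hn e.2.2)
    have a2 := had X s2 (h3 m hm) (h3 n hn)
    have a3 := h3 p hp
    rw [Finset.sum_congr rfl (g := fun _ => X 0 * B p 0) fun i _ => by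
      rw [a1 i, a2 i]
      rcases m1 i with a | a <;> rcases n1 i with b | b <;> rcases m1 0 with a' | a' <;>
        rcases n1 0 with b' | b' <;> rw [a', b'] <;> simp only [a, b] <;> ring] at a3
    rcases p1 0 with a | a <;> simpa [a] using a3
  simp only [k3] at h6 ⊢
  exact .inr (.inl (bg_three' m1 n1 (s1 m hm ml) (s1 n hn nl) (h2 m hm n hn nm.symm) s2 (h3 m hm)
    (h3 n hn) h6))

end Cfsg.Agent.MC
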