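import Cfsg.Agent.MC.BG2
import Cfsg.Agent.MC.BG3

/-! The lemma `BG`. -/

set_option autoImplicit false
set_option linter.unusedSectionVars false

namespace Cfsg.Agent.MC

open Subgroup Cfsg.Agent.FT
open scoped Classical ComplexConjugate

universe u
variable {G : Type u} [Group G] [Finite G] {K E D : Subgroup G} {t s : G} {l : G → ℂ}

theorem Sg.mul_self {a : ℤ} (h : Sg a) : a * a = 1 := by rcases h with h | h <;> simp [h]
theorem Sg.mul {a b : ℤ} (h : Sg a) (h' : Sg b) : Sg (a * b) := by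
  rcases h with h | h <;> rcases h' with h' | h' <;> simp [h, h', Sg]
theorem Sg.odd {a : ℤ} (h : Sg a) : Odd a := by rcases h with h | h <;> simp [h]

theorem Sec2.cases [IsSimpleGroup G] (h : Sec2 K E t s) (hl : l ∈ IrrK K E) : ∃ V : ℚ,
    ∑ χ ∈ Irr ⊤, bq K t χ l * (χ t ^ 2 / χ 1) = V ∧
    ((l ≠ triv K ∧ (V = 0 ∨ ∃ Y : ℤ, Y % 4 = 3 ∧ V = 8 / Y)) ∨ ∃ X : Fin 4 → ℤ, ∑ i, X i = 0 ∧
      V = ∑ i, (1 / X i : ℚ) ∧ (∀ i, X i % 4 = 1 ∧ X i ≠ -3) ∧ (l ≠ triv K → ∀ i, X i ≠ 1) ∧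
      (l = triv K → ∃ j, X j = 1 ∧ ∀ i, i ≠ j → X i ≠ 1)) := by
  have : ∀ θ χ, ∃ n : ℤ, θ ∈ Irr K → χ ∈ Irr ⊤ → bq K t χ θ = n := fun θ χ => by
    by_cases e : θ ∈ Irr K ∧ χ ∈ Irr ⊤
    · exact (h.cint (irr_vchar e.2) (irr_char e.1)).imp fun _ k _ _ => k
    · exact ⟨0, fun a b => absurd ⟨a, b⟩ e⟩
  choose A hA using this
  have tri : ∀ θ ∈ Irr K, ∀ χ ∈ Irr ⊤, A θ χ = 0 ∨ Sg (A θ χ) := fun θ hθ χ hχ =>
    h.tri hθ (fun χ => hA θ χ hθ) hχ
  have orth : ∀ m ∈ IrrK K E, ∀ n ∈ IrrK K E, ∑ χ ∈ Irr ⊤, A m χ * A n χ = if m = n then 4 else 0 :=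
    fun m hm n hn => by
      have := h.orth4 hm hn
      rw [Finset.sum_congr rfl (g := fun χ => ((A m χ * A n χ : ℤ) : ℂ)) fun χ hχ => by
        simp [hA _ χ (irrK_irr hm) hχ, hA _ χ (irrK_irr hn) hχ]] at this
      exact_mod_cast this
  have hl' := irrK_irr hl
  have c4 : ((Irr ⊤).filter fun χ => A l χ ≠ 0).card = 4 := by
    have := orth l hl l hl
    rw [if_pos rfl, Finset.sum_congr rfl (g := fun χ => if A l χ ≠ 0 then 1 else 0) fun χ hχ => by
      rcases tri l hl' χ hχ with e | e | e <;> simp [e], Finset.sum_boole] at this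
    exact_mod_cast this
  obtain ⟨e, inj, e1, e2, e3⟩ : ∃ e : Fin 4 → G → ℂ, Function.Injective e ∧ (∀ i, e i ∈ Irr ⊤) ∧
      (∀ i, Sg (A l (e i))) ∧ ∀ χ ∈ Irr ⊤, A l χ ≠ 0 → ∃ i, e i = χ := by
    let f := (Finset.equivFinOfCardEq c4).symm
    have k := fun i => Finset.mem_filter.1 (f i).2
    exact ⟨fun i => f i, Subtype.val_injective.comp f.injective, fun i => (k i).1, fun i =>
      (tri l hl' _ (k i).1).resolve_left (k i).2, fun χ hχ e =>
        ⟨f.symm ⟨χ, Finset.mem_filter.2 ⟨hχ, e⟩⟩, by simp⟩⟩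
  have sm : ∀ {R : Type} [AddCommMonoid R] (F : (G → ℂ) → R), (∀ χ ∈ Irr ⊤, A l χ = 0 → F χ = 0) →
      ∑ χ ∈ Irr ⊤, F χ = ∑ i, F (e i) := fun F k => by
    rw [← Finset.sum_image (s := Finset.univ) inj.injOn]
    refine (Finset.sum_subset (fun χ hχ => ?_) fun χ hχ k' => k χ hχ (by_contra fun a => k' ?_)).symm
    · obtain ⟨i, -, rfl⟩ := Finset.mem_image.1 hχ; exact e1 i
    · simpa using e3 χ hχ a
  have sup : ∀ m ∈ IrrK K E, (∀ i, A m (e i) = 0) ∨
      (∀ i, Sg (A m (e i))) ∧ ∀ χ ∈ Irr ⊤, A l χ = 0 → A m χ = 0 := fun m hm => by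
    refine or_iff_not_imp_left.2 fun k => ?_
    obtain ⟨i, hi⟩ := not_forall.1 k
    have m1 := irrK_irr hm
    have k1 := fun χ hχ => Int.even_iff.1 (h.same (e1 i) hχ hl hm (hA _ _ hl' (e1 i))
      (hA _ _ m1 (e1 i)) (hA _ χ hl' hχ) (hA _ χ m1 hχ) (e2 i).odd
      ((tri m m1 _ (e1 i)).resolve_left hi).odd)
    refine ⟨fun j => (tri m m1 _ (e1 j)).resolve_left fun a => ?_, fun χ hχ a => ?_⟩
    · have := k1 _ (e1 j); rcases e2 j with b | b <;> omega
    · have := k1 _ hχ; rcases tri m m1 χ hχ with b | b | b <;> omega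
  have val : ∀ i, ∀ y ∈ K, e i (t * y) = ∑ m ∈ IrrK K E, A m (e i) * m y := fun i y hy => by
    rw [h.four (irr_CF (e1 i)) hy, ← Finset.sum_subset (IrrK_subset K E) fun θ hθ k => ?_]
    · exact Finset.sum_congr rfl fun m hm => by rw [hA _ _ (irrK_irr hm) (e1 i)]
    have := Int.even_iff.1 (h.off (e1 i) hl hθ k (hA _ _ hθ (e1 i)) (hA _ _ hl' (e1 i)) (e2 i).odd)
    rw [hA _ _ hθ (e1 i), show A θ (e i) = 0 by rcases tri θ hθ _ (e1 i) with b | b | b <;> omega]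
    simp
  obtain ⟨c, hc⟩ : ∃ c : Fin 4 → ℤ, ∀ i, c i = ∑ m ∈ IrrK K E, A l (e i) * A m (e i) := ⟨_, fun _ => rfl⟩
  obtain ⟨X, hX⟩ : ∃ X : Fin 4 → ℤ, ∀ i, X i = A l (e i) * deg (e i) := ⟨_, fun _ => rfl⟩
  have c1 : ∀ i, (c i : ℂ) = A l (e i) * e i t := fun i => by
    rw [← mul_one t, val i 1 (one_mem _), hc, Finset.mul_sum, Int.cast_sum]
    exact Finset.sum_congr rfl fun m hm => by rw [(h.lin hm).one]; simp
  have x1 : ∀ i, (X i : ℂ) = A l (e i) * e i 1 := fun i => by rw [hX, irr_one (e1 i)]; simp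
  have x2 : ∀ i, (X i + 3 * c i) % 4 = 0 := fun i => by
    obtain ⟨n, hn⟩ := h.mod4 (e1 i)
    have : X i + 3 * c i = 4 * (A l (e i) * n) := by
      exact_mod_cast (show (X i + 3 * c i : ℂ) = 4 * (A l (e i) * n) by
        rw [c1, x1]; linear_combination A l (e i) * hn)
    omega
  have x3 : ∀ m ∈ IrrK K E, ∑ i, X i * (A l (e i) * A m (e i)) = 0 := fun m hm => by
    rcases sup m hm with k | ⟨-, k⟩
    · simp [k]
    have := h.deg0 m
    rw [sm _ fun χ hχ a => by rw [hA _ _ (irrK_irr hm) hχ, k χ hχ a]; simp, Finset.sum_congr rfl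
      (g := fun i => ((X i * (A l (e i) * A m (e i)) : ℤ) : ℂ)) fun i _ => by
        rw [hX, mul_mul_mul_comm, (e2 i).mul_self, hA _ _ (irrK_irr hm) (e1 i), irr_one (e1 i)]
        simp] at this
    exact_mod_cast this
  have t1 : ∀ m ∈ IrrK K E, A m (triv ⊤) = if triv K = m then 1 else 0 := fun m hm => by
    have := hA _ _ (irrK_irr hm) (triv_mem_Irr ⊤)
    rw [bq, dot_congr (φ' := triv K) (fun x hx => by rw [triv_of_mem hx, triv_of_mem (mem_top _)])
      fun _ _ => rfl, dot_irr (triv_mem_Irr K) (irrK_irr hm)] at this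
    exact_mod_cast this.symm
  refine ⟨∑ i, (c i : ℚ) ^ 2 / X i, ?_, ?_⟩
  · rw [sm _ fun χ hχ a => by rw [hA _ _ hl' hχ, a]; simp]
    push_cast
    refine Finset.sum_congr rfl fun i _ => ?_
    rw [c1, x1, hA _ _ hl' (e1 i)]
    rcases e2 i with a | a <;> simp [a, div_neg]
  by_cases k : ∀ m ∈ IrrK K E, m ≠ l → ∀ i, A m (e i) = 0
  · have c2 : ∀ i, c i = 1 := fun i => by
      rw [hc, Finset.sum_eq_single_of_mem l hl fun m hm a => by rw [k m hm a, mul_zero],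
        (e2 i).mul_self]
    have x4 : ∀ i, X i = 1 → e i = triv ⊤ := fun i a => h.deg1 (e1 i) (by
      rw [hX] at a; rcases e2 i with b | b <;> rw [b] at a <;> omega)
    refine .inr ⟨X, by simpa [fun i => (e2 i).mul_self] using x3 l hl, by simp [c2],
      fun i => ⟨by have := x2 i; rw [c2] at this; omega, fun a => ?_⟩, fun a i b => ?_, fun a => ?_⟩
    · have b : A l (e i) = -1 ∧ deg (e i) = 3 := by
        rw [hX] at a; rcases e2 i with b | b <;> rw [b] at a ⊢ <;> omega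
      refine h.deg3 (e1 i) b.2 fun x hx => ?_
      rw [val i x (h.nE.le hx), Finset.sum_eq_single_of_mem l hl fun m hm a => by simp [k m hm a],
        b.1, (h.lin hl).mem_cker.1 (irrK_ker hl hx)]
      simp
    · have := e2 i
      rw [x4 i b, t1 l hl, if_neg (Ne.symm a)] at this
      simp [Sg] at this
    · obtain ⟨j, hj⟩ := e3 _ (triv_mem_Irr ⊤) (by rw [t1 l hl, if_pos a.symm]; exact one_ne_zero)
      exact ⟨j, by rw [hX, hj, t1 l hl, if_pos a.symm, deg_triv]; rfl, fun i ij b => ij (inj ((x4 i b).trans hj.symm))⟩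
  refine .inl ⟨fun a => k fun m hm b => (sup m hm).resolve_right fun ⟨b1, _⟩ => ?_, ?_⟩
  · obtain ⟨j, hj⟩ := e3 _ (triv_mem_Irr ⊤) (by rw [t1 l hl, if_pos a.symm]; exact one_ne_zero)
    have := b1 j
    rw [hj, t1 m hm, if_neg fun b' => b (b'.symm.trans a.symm)] at this
    simp [Sg] at this
  refine (or_assoc.2 (bg_comb (IrrK K E) (fun m i => A l (e i) * A m (e i)) X c hl
    (fun i => (e2 i).mul_self) (fun m hm => (sup m hm).imp (fun a i => by rw [a, mul_zero])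
      fun a i => (e2 i).mul (a.1 i)) (fun m hm n hn a => ?_) x3 hc ?_ (x2 0))).resolve_right
    fun a => k fun m hm b i => ?_
  · rcases sup m hm with b | ⟨-, b⟩
    · simp [b]
    have := orth m hm n hn
    rw [if_neg a, sm _ fun χ hχ a => by rw [b χ hχ a, zero_mul]] at this
    simpa only [mul_mul_mul_comm (A l _) _ (A l _), fun i => (e2 i).mul_self, one_mul] using this
  · have := deg_irr_pos (e1 0)
    rw [hX]; rcases e2 0 with b | b <;> rw [b] <;> omega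
  · have := a m hm b i
    rcases e2 i with b | b <;> simpa [b] using this

theorem Sec2.triv_eq [IsSimpleGroup G] (h : Sec2 K E t s) (hl : l ∈ IrrK K E) : l = triv K := by
  by_contra k
  obtain ⟨V, v1, v2⟩ := h.cases hl
  obtain ⟨W, w1, w2⟩ := h.cases (triv_mem_IrrK h.nE.le)
  obtain rfl : V = W := by exact_mod_cast v1.symm.trans ((h.vconst hl).trans w1)
  obtain ⟨X, x1, x2, x3, -, x4⟩ := w2.resolve_left fun a => a.1 rfl
  obtain ⟨j, x4, x5⟩ := x4 rfl
  have n : ∀ i, i ≠ j → X i % 4 = 1 ∧ X i ≠ 1 ∧ X i ≠ -3 := fun i a => ⟨(x3 i).1, x5 i a, (x3 i).2⟩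
  simp only [Fin.sum_univ_four] at x1 x2
  obtain ⟨a1, a2⟩ : 3 / 5 ≤ V ∧ ∀ Y : ℤ, Y % 4 = 3 → V ≠ 8 / Y := by
    fin_cases j <;> simp only [Fin.zero_eta, Fin.mk_one, Fin.reduceFinMk] at x4 n <;>
      rw [x4] at x1 x2
    · exact bg_num1 (by omega) (n 1 (by decide)) (n 2 (by decide)) (n 3 (by decide)) (by rw [x2]; simp)
    · exact bg_num1 (by omega) (n 0 (by decide)) (n 2 (by decide)) (n 3 (by decide))
        (by rw [x2]; push_cast; ring)
    · exact bg_num1 (by omega) (n 0 (by decide)) (n 1 (by decide)) (n 3 (by decide))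
        (by rw [x2]; push_cast; ring)
    · exact bg_num1 (by omega) (n 0 (by decide)) (n 1 (by decide)) (n 2 (by decide))
        (by rw [x2]; push_cast; ring)
  rcases v2 with ⟨-, a | ⟨Y, y1, y2⟩⟩ | ⟨Z, z1, z2, z3, z4, -⟩
  · linarith
  · exact a2 Y y1 y2
  · simp only [Fin.sum_univ_four] at z1 z2
    have m : ∀ i, Z i % 4 = 1 ∧ Z i ≠ 1 ∧ Z i ≠ -3 := fun i => ⟨(z3 i).1, z4 k i, (z3 i).2⟩
    linarith [bg_num2 z1 (m 0) (m 1) (m 2) (m 3)]

theorem BGH.sec (h : BGH E D t s) : Sec2 (E ⊔ D) E t s := by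
  have mem : ∀ {y}, y ∈ E ⊔ D ↔ ∃ e ∈ E, ∃ d ∈ D, e * d = y := H2.mem_sup_of_le_normalizer' h.DN
  have odd : Odd ♯(E ⊔ D : Subgroup G) := (h.oddE.mul h.oddD).of_dvd_nat (card_sup_dvd h.DN)
  have ct : E ⊔ D ≤ 𝐂[t] := sup_le (fun e he => mem_cent1_iff.2 (h.tE e he).symm)
    fun d hd => mem_cent1_iff.2 (h.tD d hd).symm
  have si : s⁻¹ = s := inv_eq_of_mul_eq_one_right (bg_sq h.s2)
  have cs : ∀ e ∈ E, ∀ d ∈ D, s * (e * d) * s⁻¹ = e⁻¹ * d := fun e he d hd => by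
    rw [← h.sE e he, ← mul_assoc, mul_assoc _ d, mul_assoc _ _ d, si, h.sD d hd]
  have st : s ∈ 𝐂[t] := mem_cent1_iff.2 h.ts.symm
  have ns : zpowers t ⊔ zpowers s ≤ 𝐍((E ⊔ D : Subgroup G)) := sup_le
    ((cent_symm (ct.trans (cent_zpowers t).ge)).trans (cent_le_norm _)) (zpowers_le.2
      (mem_normalizer_fintype fun y hy => by
        obtain ⟨e, he, d, hd, rfl⟩ := mem.1 hy
        exact mem.2 ⟨_, inv_mem he, d, hd, (cs e he d hd).symm⟩))
  have c4 : ♯(zpowers t ⊔ zpowers s : Subgroup G) = 4 := by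
    have p : ∀ u : G, orderOf u = 2 → (♯(zpowers u)).Prime := fun u hu => by
      rw [Nat.card_zpowers, hu]; exact Nat.prime_two
    rw [card_sup_of_inf_eq_bot ((zpowers_le.2 ((cent_zpowers t).ge st)).trans (cent_le_norm _))
      ((inf_eq_bot_or_le_of_card_prime (p t h.t2) _).resolve_right fun e => ?_), Nat.card_zpowers,
      Nat.card_zpowers, h.t2, h.s2]
    obtain ⟨n, hn, e⟩ := Finset.mem_image.1 (mem_zpowers_iff_mem_range_orderOf.1 (e (mem_zpowers t)))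
    rw [h.s2, Finset.mem_range] at hn
    interval_cases n
    exacts [bg_ne h.t2 (by simpa using e.symm), h.ne (by simpa using e.symm)]
  have cop : (♯(E ⊔ D : Subgroup G)).Coprime ♯(zpowers t ⊔ zpowers s : Subgroup G) :=
    c4 ▸ (Nat.coprime_two_right.2 odd).pow_right 2
  have hH : 𝐂[t] = E ⊔ D ⊔ (zpowers t ⊔ zpowers s) := by
    refine le_antisymm (fun g hg => ?_) (sup_le ct (sup_le (zpowers_le.2 (mem_cent1_self t))
      (zpowers_le.2 st)))
    obtain ⟨e, he, d, hd, k⟩ := h.cent g (mem_cent1_iff.1 hg)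
    have a1 : e * d ∈ E ⊔ D ⊔ (zpowers t ⊔ zpowers s) := mem_sup_left (mem.2 ⟨e, he, d, hd, rfl⟩)
    have a2 : t ∈ E ⊔ D ⊔ (zpowers t ⊔ zpowers s) := mem_sup_right (mem_sup_left (mem_zpowers t))
    have a3 : s ∈ E ⊔ D ⊔ (zpowers t ⊔ zpowers s) := mem_sup_right (mem_sup_right (mem_zpowers s))
    rcases k with rfl | rfl | rfl | rfl
    exacts [a1, mul_mem a1 a2, mul_mem a1 a3, mul_mem (mul_mem a1 a2) a3]
  have hc : ♯𝐂[t] = 4 * ♯(E ⊔ D : Subgroup G) := by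
    rw [hH, card_sup_of_inf_eq_bot ns (inf_eq_bot_of_coprime' cop), c4, mul_comm]
  have nK : 𝐂[t] ≤ 𝐍((E ⊔ D : Subgroup G)) := hH.le.trans (sup_le le_normalizer ns)
  have nE := nrm_sup_left h.DN
  refine ⟨⟨h.t2, odd, ct, fun y hy ho => zpowers_le.1 (le_of_coprime_relIndex
    ((zpowers_le.2 hy).trans nK) (Nat.Coprime.coprime_dvd_right (relIndex_dvd_of_nrm nK
      (zpowers_le.2 hy)) ?_)), hc⟩, nE, ?_, fun y hy e => ?_, fun l hl g hg => ?_, h.s2, st, h.ne,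
    h.conj, h.neE, h.sE⟩
  · have := cardC_mul_relIndex ct
    rw [hc, Nat.cast_mul, mul_comm, mul_left_inj' (cardC_ne_zero _), Nat.cast_inj] at this
    rw [this, Nat.card_zpowers]
    exact (Nat.coprime_two_right.2 ho).pow_right 2
  · exact H2.commutator_sup_left_le le_normalizer h.DN (commutator_le_left' nE.norm)
      (H2.commutator_sup_right_le le_normalizer h.DN (commutator_le_right' h.DN)
        ((le_cent_iff_commutator.1 fun x hx => mem_cent_iff.2 fun y hy => h.commD y hy x hx).le.trans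
          bot_le))
  · obtain ⟨x, hx, d, hd, rfl⟩ := mem.1 hy
    have k : ∀ n, (x * d) ^ n * (d ^ n)⁻¹ ∈ E := fun n => by
      induction n with
      | zero => simp
      | succ n ih =>
        convert mul_mem hx (nE.conj_mem (mem_sup_right hd) ih) using 1
        rw [pow_succ', pow_succ']; group
    have k2 := (inf_eq_bot_of_coprime' h.cop).le ⟨by simpa [e] using k ♯E, pow_mem hd ♯E⟩
    rw [orderOf_eq_one_iff.1 (Nat.eq_one_of_dvd_coprimes h.cop (orderOf_dvd_of_pow_eq_one k2)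
      (orderOf_dvd_card' hd)), mul_one]
    exact hx
  · have l1 := irr_CF (irrK_irr hl)
    have a1 : cjf t l = l := cf_ext (cjf_mem_CF_norm (nK (mem_cent1_self t)) l1) l1 fun x hx => by
      rw [cjf_apply, mul_assoc, mem_cent1_iff.1 (ct hx), inv_mul_cancel_left]
    have a2 : cjf s l = l := cf_ext (cjf_mem_CF_norm (nK st) l1) l1 fun x hx => by
      obtain ⟨y, hy, d, hd, rfl⟩ := mem.1 hx
      rw [← si, cjf_apply, inv_inv, cs y hy d hd, irrK_ker hl hy, irrK_ker hl (inv_mem hy)]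
    obtain ⟨e, he, d, hd, k⟩ := h.cent g (mem_cent1_iff.1 hg)
    have a3 := cjf_id l1 (mem.2 ⟨e, he, d, hd, rfl⟩)
    rcases k with rfl | rfl | rfl | rfl
    · exact a3
    · rw [cjf_mul, a1, a3]
    · rw [cjf_mul, a2, a3]
    · rw [cjf_mul, cjf_mul, a2, a1, a3]

theorem BG [IsSimpleGroup G] {E D : Subgroup G} {t s : G} (h : BGH E D t s) : D = ⊥ := by
  refine eq_bot_iff.2 ((le_inf ?_ le_rfl).trans (inf_eq_bot_of_coprime' h.cop).le)
  by_contra k
  obtain ⟨χ, h1, h2⟩ := exists_irrK_not_le_cker h.sec.nE le_sup_right k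
  exact h2 (h.sec.triv_eq h1 ▸ le_sup_right.trans (le_cker_triv _))

end Cfsg.Agent.MC
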