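import Cfsg.Agent.MC.Def
import Cfsg.Agent.L.Br2

/-! The lemma `BG`: values of characters on the 2-section of an involution, modulo 2. -/

set_option autoImplicit false
set_option linter.unusedSectionVars false

namespace Cfsg.Agent.MC

open Subgroup Cfsg.Agent.FT
open scoped Classical ComplexConjugate

universe u
variable {G : Type u} [Group G] [Finite G] {K B L : Subgroup G} {t x y g : G} {χ θ θ' a φ : G → ℂ}

/-- `K` is a normal 2-complement of index 4 of `C(t)` -/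
structure Sec (K : Subgroup G) (t : G) : Prop where
  t2 : orderOf t = 2
  odd : Odd ♯K
  cent : K ≤ 𝐂[t]
  all : ∀ y ∈ 𝐂[t], Odd (orderOf y) → y ∈ K
  card : ♯𝐂[t] = 4 * ♯K

/-- Fourier coefficients on the section -/
noncomputable def bq (K : Subgroup G) (t : G) (χ θ : G → ℂ) : ℂ := dot K (fun y => χ (t * y)) θ

theorem bg_sq (h : orderOf t = 2) : t * t = 1 := by rw [← pow_two, ← h, pow_orderOf_eq_one]
theorem bg_ne (h : orderOf t = 2) : t ≠ 1 := by rintro rfl; simp at h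

theorem bg_zp (h : orderOf t = 2) (f : G → ℂ) :
    dot (zpowers t) f (triv (zpowers t)) = (f 1 + f t) / 2 := by
  have : els (zpowers t : Set G) = {1, t} := by
    refine (Finset.eq_of_subset_of_card_le (fun x hx => ?_) ?_).symm
    · rcases Finset.mem_insert.1 hx with rfl | hx
      · exact mem_els.2 (one_mem _)
      · exact mem_els.2 (Finset.mem_singleton.1 hx ▸ mem_zpowers t)
    · rw [card_els, Nat.card_zpowers, h, Finset.card_pair (bg_ne h).symm]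
  rw [dot, this, Finset.sum_pair (bg_ne h).symm, Nat.card_zpowers, h, triv_of_mem (one_mem _),
    triv_of_mem (mem_zpowers t)]
  simp [div_eq_inv_mul]

theorem bg_par (h : orderOf t = 2) (hB : B ≤ 𝐂[t]) (h1 : t ∉ B) (hθ : θ ∈ Char B)
    (hχ : χ ∈ VChar ⊤) : ∃ m : ℤ, dot B χ θ + bq B t χ θ = 2 * m := by
  have hd : DP (zpowers t) B (zpowers t ⊔ B) := ⟨rfl, (inf_eq_bot_or_le_of_card_prime
    (by rw [Nat.card_zpowers, h]; exact Nat.prime_two) B).resolve_right fun e => h1 (e (mem_zpowers t)),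
    hB.trans (cent_zpowers t).ge⟩
  obtain ⟨m, hm⟩ := cint_dot_vchar (Br.bb_vchar hd (comm_iff_le_cent.1 inferInstance) le_top hθ hχ)
    (triv_vchar _)
  rw [bg_zp h, Br.bb_of_mem (one_mem _), Br.bb_of_mem (mem_zpowers t)] at hm
  simp only [one_mul] at hm
  exact ⟨m, by rw [← hm, bq]; ring⟩

theorem bq_sum (K : Subgroup G) (t : G) (c : (G → ℂ) → ℂ) (θ : G → ℂ) :
    bq K t (∑ χ ∈ Irr ⊤, c χ • χ) θ = ∑ χ ∈ Irr ⊤, c χ * bq K t χ θ := by
  simp only [bq, ← dot_smul_left, ← dot_sum_left]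
  exact dot_congr (fun x _ => by simp) fun _ _ => rfl

theorem bg_central (h : χ ∈ Irr L) (ha : a ∈ CF L) (hx : x ∈ L) :
    ∑ c ∈ els (L : Set G), a c * χ (x * c) = (∑ c ∈ els (L : Set G), a c * χ c) / χ 1 * χ x := by
  have : ∀ g ∈ els (L : Set G), ∑ c ∈ els (L : Set G), a c * χ (x * c) =
      ∑ c ∈ els (L : Set G), a c * χ (x * (g * c * g⁻¹)) := fun g hg => by
    rw [← sum_els_conj_norm (le_normalizer (mem_els.1 hg))]
    simp only [cfJ ha (mem_els.1 hg)]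
  have h2 := Finset.sum_congr rfl this
  rw [sum_els_const, Finset.sum_comm] at h2
  refine mul_left_cancel₀ (mul_ne_zero (irr_one_ne_zero h) (cardC_ne_zero L)) ?_
  rw [mul_assoc, h2, Finset.mul_sum, Finset.sum_congr rfl (g := fun c => ♯L * χ x * (a c * χ c))
    fun c hc => by rw [← Finset.mul_sum, mul_left_comm, irr_mul_sum h hx (mem_els.1 hc)]; ring,
    ← Finset.mul_sum]
  field_simp [irr_one_ne_zero h]

theorem bg_pair {α : Type*} (I : Finset α) (σ : α → α) (F : α → ℂ) (h1 : ∀ a, IsIntegral ℤ (F a))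
    (h2 : ∀ a ∈ I, σ a ∈ I) (h3 : ∀ a ∈ I, σ (σ a) = a) (h4 : ∀ a ∈ I, F (σ a) = F a)
    (h5 : ∀ a ∈ I, σ a ≠ a) : EqA 2 (∑ a ∈ I, F a) 0 := by
  let P : AddSubgroup ℂ := (integralClosure ℤ ℂ).toSubring.toAddSubgroup.map (AddMonoidHom.mulLeft 2)
  have : ∑ a ∈ I, F a ∈ P := by
    rw [← QuotientAddGroup.eq_zero_iff, ← QuotientAddGroup.mk'_apply, _root_.map_sum]
    refine Finset.sum_involution (fun a _ => σ a) (fun a ha => ?_) (fun a ha _ => h5 a ha) h2 h3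
    rw [← map_add, QuotientAddGroup.mk'_apply, QuotientAddGroup.eq_zero_iff, h4 a ha, ← two_mul]
    exact ⟨_, h1 a, rfl⟩
  obtain ⟨z, hz, e⟩ := this
  exact ⟨z, hz, by rw [sub_zero, ← e]; rfl⟩

namespace Sec

variable (h : Sec K t)
include h

theorem tK : t ∉ K := fun e => by
  have := h.t2 ▸ orderOf_dvd_card' e
  exact Nat.not_even_iff_odd.2 h.odd (even_iff_two_dvd.2 this)

theorem tpow (hy : y ∈ K) : (t * y) ^ ♯K = t := by
  obtain ⟨k, hk⟩ := h.odd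
  rw [(show Commute t y from (mem_cent1_iff.1 (h.cent hy)).symm).mul_pow, pow_card_eq_one'' hy, hk,
    pow_succ, pow_mul, pow_two, bg_sq h.t2, one_pow, one_mul, mul_one]

theorem ti (hx : x ∈ K) (hy : y ∈ K) (e : g * (t * y) * g⁻¹ = t * x) : g ∈ 𝐂[t] := by
  have := congrArg (· ^ ♯K) e
  simp only [conj_pow, h.tpow hx, h.tpow hy] at this
  exact mem_cent1_iff.2 (mul_inv_eq_iff_eq_mul.1 this)

theorem nrm : 𝐂[t] ≤ 𝐍(K) := H2.le_normalizer_of_conj_mem fun g hg x hx =>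
  h.all _ (mul_mem (mul_mem hg (h.cent hx)) (inv_mem hg))
    (by rw [Br.orderOf_cj]; exact h.odd.of_dvd_nat (orderOf_dvd_card' hx))

theorem orth (hθ : θ ∈ supp (K : Set G)) (hθ' : θ' ∈ supp (K : Set G)) :
    ∑ χ ∈ Irr ⊤, bq K t χ θ * conj (bq K t χ θ') =
      1 / ♯K * ∑ γ ∈ els (𝐂[t] : Set G), dot K θ' (cjf γ⁻¹ θ) := by
  refine Br.frame (Irr ⊤) (fun χ y => χ (t * y)) _ 1 subset_rfl (fun u hu v hv => ?_) hθ hθ'
  rw [sum_irr_mul_conj (mem_top _) (mem_top _), one_mul, Finset.sum_boole]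
  congr 2
  ext g
  simp only [Finset.mem_filter, mem_els, SetLike.mem_coe, mem_top, true_and]
  refine ⟨fun e => ⟨h.ti hu hv e, mul_left_cancel (a := t) ?_⟩, fun e => ?_⟩
  · rw [← e, ← mul_assoc, ← mul_assoc, ← mem_cent1_iff.1 (h.ti hu hv e), mul_assoc g]
  · rw [← e.2, ← mul_assoc g, mem_cent1_iff.1 e.1]; group

theorem deg0 (θ : G → ℂ) : ∑ χ ∈ Irr ⊤, χ 1 * bq K t χ θ = 0 := by
  rw [← bq_sum K t (fun χ => χ 1), ← reg_eq_sum, bq, ← dot_zero_left K θ]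
  refine dot_congr (fun x hx => Pi.single_eq_of_ne (fun e => h.tK ?_) _) fun _ _ => rfl
  exact eq_inv_of_mul_eq_one_left e ▸ inv_mem hx

theorem cint (hχ : χ ∈ VChar ⊤) (hθ : θ ∈ Char K) : Cint (bq K t χ θ) := by
  obtain ⟨m, hm⟩ := bg_par h.t2 h.cent h.tK hθ hχ
  rw [eq_sub_of_add_eq' hm]
  exact ((cint_ofNat 2).mul (cint_intCast m)).sub (cint_dot_Res_vchar le_top hχ (char_vchar hθ))

theorem lemM (hχ : χ ∈ Irr ⊤) (ha : a ∈ CF ⊤) (hi : ∀ x, IsIntegral ℤ (a x))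
    (ho : ∀ x, a x ≠ 0 → Odd (orderOf x)) (hy : y ∈ K) :
    EqA 2 ((∑ c ∈ els ((⊤ : Subgroup G) : Set G), a c * χ c) / χ 1 * χ (t * y))
      (∑ c ∈ els (K : Set G), a c * χ (t * y * c)) := by
  have e1 := mem_cent1_iff.1 (h.cent hy)
  have ti : t⁻¹ = t := inv_eq_of_mul_eq_one_right (bg_sq h.t2)
  rw [← bg_central hχ ha (mem_top _), sum_els_diff (B := 𝐂[t]) (fun _ _ => mem_top _),
    sum_els_subset (A := K) (B := 𝐂[t]) h.cent (fun c => a c * χ (t * y * c)) fun x hx hx' => by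
      rw [not_not.1 fun e => hx' (h.all x hx (ho x e)), zero_mul], eqA_iff_sub, add_sub_cancel_right]
  refine bg_pair _ (fun c => t * c * t⁻¹) _ (fun c => (hi c).mul (isIntegral_char (irr_char hχ) _))
    (fun c hc => mem_els.2 ⟨mem_top _, fun e => (mem_els.1 hc).2 ?_⟩) (fun c _ => ?_) (fun c _ => ?_)
    fun c hc e => (mem_els.1 hc).2 (mem_cent1_iff.2 (mul_inv_eq_iff_eq_mul.1 e).symm)
  · simpa [mul_assoc] using mul_mem (mul_mem (inv_mem (mem_cent1_self t)) e) (mem_cent1_self t)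
  · rw [← mul_assoc, ← mul_assoc, bg_sq h.t2, mul_assoc, ti, bg_sq h.t2, one_mul, mul_one]
  · rw [cfJ ha (mem_top _), ← cfJ (irr_CF hχ) (mem_top t) (t * y * c), ← e1]
    simp only [mul_assoc]
    rw [← mul_assoc y, e1, mul_assoc]

theorem lemM' (hχ : χ ∈ Irr ⊤) (ha : a ∈ CF ⊤) (hi : ∀ x, IsIntegral ℤ (a x))
    (ho : ∀ x, a x ≠ 0 → Odd (orderOf x)) (hθ : θ ∈ Irr K) :
    EqA 2 (♯K * bq K t χ θ * ((∑ c ∈ els ((⊤ : Subgroup G) : Set G), a c * χ c) / χ 1))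
      (♯K * bq K t χ θ * ((∑ c ∈ els (K : Set G), a c * θ c) / θ 1)) := by
  have := eqA_sum (s := els (K : Set G)) fun y hy => (h.lemM hχ ha hi ho (mem_els.1 hy)).mul_right
    (isIntegral_aut (starRingEnd ℂ) (isIntegral_char (irr_char hθ) y))
  rw [bq, dot, mul_inv_cancel_left₀ (cardC_ne_zero K), Finset.sum_mul, Finset.sum_mul]
  convert this using 1
  · exact Finset.sum_congr rfl fun y _ => by ring
  symm
  simp only [Finset.sum_mul]
  rw [Finset.sum_comm, Finset.sum_congr rfl (g := fun c => ∑ y ∈ els (K : Set G),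
    χ (t * y) * (Res K a c * θ (y⁻¹ * c))) fun c hc => ?_, Finset.sum_comm]
  · refine Finset.sum_congr rfl fun y hy => ?_
    rw [← Finset.mul_sum, bg_central hθ (Res_mem_CF le_top ha) (inv_mem (mem_els.1 hy)),
      char_inv (irr_char hθ), Finset.sum_congr rfl fun c hc => by rw [Res_of_mem a (mem_els.1 hc)]]
    ring
  · rw [← sum_els_mul_right (mem_els.1 hc) fun y => χ (t * y) * (Res K a c * θ (y⁻¹ * c))]
    refine Finset.sum_congr rfl fun y _ => ?_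
    rw [Res_of_mem a (mem_els.1 hc), ← cf_mul_comm (irr_CF hθ) (mem_els.1 hc), mul_inv_rev,
      mul_inv_cancel_left, char_inv (irr_char hθ), mul_assoc t]
    ring

theorem lemM2 (hχ : χ ∈ Irr ⊤) (ha : a ∈ CF ⊤) (hi : ∀ x, IsIntegral ℤ (a x))
    (ho : ∀ x, a x ≠ 0 → Odd (orderOf x)) (hθ : θ ∈ Irr K) (hθ' : θ' ∈ Irr K) {b b' n n' : ℤ}
    (e : bq K t χ θ = b) (e' : bq K t χ θ' = b') (f : (∑ c ∈ els (K : Set G), a c * θ c) / θ 1 = n)
    (f' : (∑ c ∈ els (K : Set G), a c * θ' c) / θ' 1 = n') : Even (b * b' * (n - n')) := by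
  have h1 := (h.lemM' hχ ha hi ho hθ).mul_left (isIntegral_intCast' b')
  have h2 := (h.lemM' hχ ha hi ho hθ').mul_left (isIntegral_intCast' b)
  rw [e, f] at h1
  rw [e', f'] at h2
  obtain ⟨z, hz, e1⟩ := h1
  obtain ⟨w, hw, e2⟩ := h2
  have := int_dvd_of_isIntegral (a := ♯K * (b * b' * (n - n'))) (b := 2) (hw.sub hz) (by
    push_cast; linear_combination e2 - e1)
  exact (Int.even_mul.1 (even_iff_two_dvd.2 this)).resolve_left
    (by simpa [Int.even_coe_nat] using h.odd)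

theorem tri {A : (G → ℂ) → ℤ} (hθ : θ ∈ Irr K) (hA : ∀ χ ∈ Irr ⊤, bq K t χ θ = A χ)
    (hχ : χ ∈ Irr ⊤) : A χ = 0 ∨ A χ = 1 ∨ A χ = -1 := by
  have h1 := h.orth (irr_supp hθ) (irr_supp hθ)
  rw [Finset.sum_congr rfl (g := fun χ => ((A χ * A χ : ℤ) : ℂ)) fun χ hχ => by simp [hA χ hχ],
    Finset.sum_congr rfl fun γ hγ => dot_irr hθ (cjf_mem_Irr_norm (inv_mem (h.nrm (mem_els.1 hγ))) hθ),
    Finset.sum_boole, one_div, eq_inv_mul_iff_mul_eq₀ (cardC_ne_zero K), ← Int.cast_sum] at h1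
  have h2 : (♯K : ℤ) * ∑ χ ∈ Irr ⊤, A χ * A χ ≤ ♯K * 4 := by
    have := Finset.card_filter_le (els (𝐂[t] : Set G)) fun γ => θ = cjf γ⁻¹ θ
    rw [card_els, h.card] at this
    rw [show (♯K : ℤ) * ∑ χ ∈ Irr ⊤, A χ * A χ = _ by exact_mod_cast h1]
    omega
  replace h2 := le_of_mul_le_mul_left h2 (by exact_mod_cast card_pos' K)
  rw [← Finset.add_sum_erase _ _ hχ] at h2
  have h3 := Finset.sum_nonneg fun ψ (_ : ψ ∈ (Irr ⊤).erase χ) => mul_self_nonneg (A ψ)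
  by_contra k
  have h4 : 4 ≤ A χ * A χ := by
    rcases (by omega : 2 ≤ A χ ∨ A χ ≤ -2) with k | k <;> nlinarith
  have h5 := (Finset.sum_eq_zero_iff_of_nonneg fun ψ _ => mul_self_nonneg (A ψ)).1
    (le_antisymm (by omega) h3)
  have h6 := h.deg0 θ
  rw [← Finset.add_sum_erase _ _ hχ, Finset.sum_eq_zero fun ψ hψ => by
    rw [hA ψ (Finset.mem_of_mem_erase hψ), mul_self_eq_zero.1 (h5 ψ hψ), Int.cast_zero, mul_zero],
    add_zero, hA χ hχ, mul_eq_zero, Int.cast_eq_zero] at h6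
  exact h6.elim (irr_one_ne_zero hχ) fun e => k (.inl e)

end Sec

end Cfsg.Agent.MC
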