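import Cfsg.Agent.MC.BG1

/-! The lemma `BG`: the blocks of columns. -/

set_option autoImplicit false
set_option linter.unusedSectionVars false

namespace Cfsg.Agent.MC

open Subgroup Cfsg.Agent.FT
open scoped Classical ComplexConjugate

universe u
variable {G : Type u} [Group G] [Finite G] {K E : Subgroup G} {t s x y g : G}
  {χ ψ θ l m : G → ℂ}

structure Sec2 (K E : Subgroup G) (t s : G) : Prop extends Sec K t where
  nE : E ⊴ K
  der : ⁅K, K⁆ ≤ E
  hall : ∀ y ∈ K, y ^ ♯E = 1 → y ∈ E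
  inv : ∀ l ∈ IrrK K E, ∀ g ∈ 𝐂[t], cjf g l = l
  s2 : orderOf s = 2
  st : s ∈ 𝐂[t]
  ne : t ≠ s
  cnj : ∀ u : G, orderOf u = 2 → IsConj t u
  neE : E ≠ ⊥
  sE : ∀ e ∈ E, s * e * s⁻¹ = e⁻¹

theorem bg_root {z : ℂ} {n : ℕ} (hn : Odd n) (h : z ^ n = 1) (h2 : z * z = 1) : z = 1 := by
  obtain ⟨k, rfl⟩ := hn
  rwa [pow_succ, pow_mul, sq, h2, one_pow, one_mul] at h

theorem bg_three {a v : ℂ} {n : ℕ} (hn : Odd n) (ha : a ^ n = 1) (h2 : conj v = v)
    (h : v = 2 * a + 1) : v = 3 := by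
  subst h
  have h3 : conj a = a := by simpa [map_ofNat] using h2
  have h4 := Complex.mul_conj' a
  rw [h3, Complex.norm_eq_one_of_pow_eq_one ha hn.pos.ne'] at h4
  rw [bg_root hn ha (by simpa using h4)]; norm_num

namespace Sec2

variable (h : Sec2 K E t s)
include h

theorem oddE : Odd ♯E := odd_of_le h.nE.le h.odd

theorem lin (hl : l ∈ IrrK K E) : Lin K l := lin_of_irrK h.der hl

theorem off (hχ : χ ∈ Irr ⊤) (hl : l ∈ IrrK K E) (hθ : θ ∈ Irr K) (h1 : θ ∉ IrrK K E) {b b' : ℤ}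
    (e : bq K t χ θ = b) (e' : bq K t χ l = b') (ho : Odd b') : Even b := by
  have k : ∀ φ : G → ℂ, ∑ c ∈ els (K : Set G), (if c ^ ♯E = 1 then 1 else 0) * φ c =
      ♯E * dot E φ (triv E) := fun φ => by
    rw [dot, mul_inv_cancel_left₀ (cardC_ne_zero E), ← sum_els_subset h.nE.le _ fun x hx hx' => by
      rw [if_neg fun e => hx' (h.hall x hx e), zero_mul]]
    exact Finset.sum_congr rfl fun x hx => by
      simp [pow_card_eq_one'' (mem_els.1 hx), triv_of_mem (mem_els.1 hx)]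
  have := h.lemM2 (a := fun c => if c ^ ♯E = 1 then 1 else 0) hχ
    ⟨fun x hx => absurd (mem_top x) hx, fun g _ x => by simp [conj_pow]⟩
    (fun x => by split_ifs; exacts [isIntegral_one, isIntegral_zero])
    (fun x hx => h.oddE.of_dvd_nat (orderOf_dvd_of_pow_eq_one (by simpa using hx))) hθ (irrK_irr hl)
    e e' (n := 0) (n' := ♯E) (by
      rw [k, not_not.1 fun e => h1 (mem_IrrK.2 ⟨hθ, le_cker_of_dot_triv h.nE hθ e⟩)]; simp)
    (by rw [k, dot_triv_of_le_cker (irrK_ker hl), (h.lin hl).one]; simp)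
  simpa [Int.even_mul, Int.not_even_iff_odd.2 ho, Nat.not_even_iff_odd.2 h.oddE] using this

theorem same (hχ : χ ∈ Irr ⊤) (hψ : ψ ∈ Irr ⊤) (hl : l ∈ IrrK K E) (hm : m ∈ IrrK K E)
    {b b' c c' : ℤ} (e : bq K t χ l = b) (e' : bq K t χ m = b') (f : bq K t ψ l = c)
    (f' : bq K t ψ m = c') (ho : Odd b) (ho' : Odd b') : Even (c - c') := by
  have k : ∀ l ∈ IrrK K E, ∀ c : ℤ, bq K t ψ l = c → ∃ n : ℤ, (∑ c ∈ els (K : Set G),
      (if Odd (orderOf c) then conj (ψ c) else 0) * l c) / l 1 = (♯K * (2 * n - c) : ℤ) := by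
    intro l hl c f
    obtain ⟨n, hn⟩ := bg_par h.t2 h.cent h.tK (h.lin hl).char (irr_vchar hψ)
    refine ⟨n, ?_⟩
    have := dot_symm_int (n := 2 * n - c) (by push_cast; exact eq_sub_of_add_eq (f ▸ hn))
    rw [(h.lin hl).one, div_one, Int.cast_mul, ← this, dot, Int.cast_natCast,
      mul_inv_cancel_left₀ (cardC_ne_zero K)]
    exact Finset.sum_congr rfl fun x hx => by
      rw [if_pos (h.odd.of_dvd_nat (orderOf_dvd_card' (mem_els.1 hx))), mul_comm]
  obtain ⟨n, hn⟩ := k l hl c f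
  obtain ⟨n', hn'⟩ := k m hm c' f'
  have := h.lemM2 (a := fun c => if Odd (orderOf c) then conj (ψ c) else 0) hχ
    ⟨fun x hx => absurd (mem_top x) hx, fun g hg x => by
      simp only [Br.orderOf_cj, cfJ (irr_CF hψ) hg]⟩
    (fun x => by
      split_ifs
      exacts [isIntegral_aut (starRingEnd ℂ) (isIntegral_char (irr_char hψ) x), isIntegral_zero])
    (fun x hx => by_contra fun e => hx (if_neg e)) (irrK_irr hl) (irrK_irr hm) e e' hn hn'
  rw [← mul_sub] at this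
  simp only [Int.even_mul, Int.not_even_iff_odd.2 ho, Int.not_even_iff_odd.2 ho', Int.even_coe_nat,
    Nat.not_even_iff_odd.2 h.odd, false_or] at this
  rw [Int.even_iff] at this ⊢
  omega

theorem four (hχ : χ ∈ CF ⊤) (hy : y ∈ K) : χ (t * y) = ∑ θ ∈ Irr K, bq K t χ θ * θ y := by
  have := congrFun (cf_sum_irr (φ := Res K fun y => χ (t * y)) (mem_CF'.2 ⟨Res_supp _ _,
    fun g hg x hx => by
      rw [Res_of_mem _ (mul_mem (mul_mem hg hx) (inv_mem hg)), Res_of_mem _ hx,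
        ← cfJ hχ (mem_top g) (t * x), ← mul_assoc g, mem_cent1_iff.1 (h.cent hg)]
      simp only [mul_assoc]⟩)) y
  simpa [Res_of_mem _ hy, dot_Res_left, bq] using this

theorem orth4 (hl : l ∈ IrrK K E) (hm : m ∈ IrrK K E) :
    ∑ χ ∈ Irr ⊤, bq K t χ l * conj (bq K t χ m) = if l = m then 4 else 0 := by
  rw [h.orth (irr_supp (irrK_irr hl)) (irr_supp (irrK_irr hm)), Finset.sum_congr rfl fun g hg => by
    rw [h.inv l hl _ (inv_mem (mem_els.1 hg))], sum_els_const, h.card,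
    dot_irr (irrK_irr hm) (irrK_irr hl)]
  have := cardC_ne_zero K
  by_cases e : l = m
  · simp [e]; field_simp
  · simp [e, Ne.symm e]

theorem vconst (hl : l ∈ IrrK K E) : ∑ χ ∈ Irr ⊤, bq K t χ l * (χ t ^ 2 / χ 1) =
    ∑ χ ∈ Irr ⊤, bq K t χ (triv K) * (χ t ^ 2 / χ 1) := by
  have k : ∀ l, bq K t (Br.prs (Br.cls ⊤ t)) l = ♯(⊤ : Subgroup G) / (♯(⊤ ⊓ 𝐂[t] : Subgroup G)) ^ 2 *
      ∑ χ ∈ Irr ⊤, bq K t χ l * (χ t ^ 2 / χ 1) := fun l => by
    rw [cf_sum_irr (Br.prs_CF (mem_top t)), bq_sum, Finset.mul_sum]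
    exact Finset.sum_congr rfl fun χ hχ => by rw [Br.dot_prs (mem_top t) (bg_sq h.t2) hχ]; ring
  refine mul_left_cancel₀ (div_ne_zero (cardC_ne_zero (⊤ : Subgroup G)) (pow_ne_zero 2 (cardC_ne_zero
    (⊤ ⊓ 𝐂[t] : Subgroup G)))) ?_
  rw [← k, ← k, bq, bq, dot, dot]
  refine congrArg _ (Finset.sum_congr rfl fun y hy => ?_)
  replace hy := mem_els.1 hy
  by_cases e : Br.prs (Br.cls ⊤ t) (t * y) = 0
  · rw [e, zero_mul, zero_mul]
  obtain ⟨a, ha, e⟩ := Finset.exists_ne_zero_of_sum_ne_zero e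
  have sq : ∀ b ∈ Br.cls ⊤ t, b⁻¹ = b := by
    rintro _ ⟨k, -, rfl⟩
    simp [mul_assoc, inv_eq_of_mul_eq_one_right (bg_sq h.t2)]
  have e1 := sq _ (mem_els.1 ha)
  have e2 := sq _ (by_contra fun k => e (if_neg k))
  have e3 : a * (t * y) * a⁻¹ = t * y⁻¹ := by
    rw [e1] at e2
    rw [← mem_cent1_iff.1 (h.cent (inv_mem hy)), ← e2, mul_inv_rev, mul_assoc, ← mul_inv_rev,
      inv_eq_iff_mul_eq_one.1 e1]
    simp [inv_eq_of_mul_eq_one_right (bg_sq h.t2)]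
  have e4 := h.ti (inv_mem hy) hy e3
  have e5 := cjf_conj a l y
  rw [← mul_assoc, mem_cent1_iff.1 e4, mul_assoc, mul_assoc, mul_right_inj, ← mul_assoc] at e3
  rw [h.inv l hl a e4, e3, (h.lin hl).map_inv hy] at e5
  rw [triv_of_mem hy, bg_root (h.odd.of_dvd_nat (orderOf_dvd_card' hy)) ((h.lin hl).pow_orderOf hy)
    (by rw [← mul_inv_cancel₀ ((h.lin hl).ne_zero hy), e5])]

theorem mod4 (hχ : χ ∈ Irr ⊤) : ∃ n : ℤ, χ 1 + 3 * χ t = 4 * n := by
  have k : ∀ u, orderOf u = 2 → χ u = χ t := fun u hu => by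
    obtain ⟨g, rfl⟩ := isConj_iff.1 (h.cnj u hu)
    exact cfJ (irr_CF hχ) (mem_top g) t
  have h1 : t ∉ zpowers s := fun e => by
    have := eq_zpowers_of_card_prime (X := zpowers s) (by
      rw [Nat.card_zpowers, h.s2]; exact Nat.prime_two) e (bg_ne h.t2)
    obtain ⟨n, hn, e⟩ := Finset.mem_image.1 ((mem_zpowers_iff_mem_range_orderOf).1 e)
    rw [h.s2, Finset.mem_range] at hn
    interval_cases n
    exacts [bg_ne h.t2 (by simpa using e.symm), h.ne (by simpa using e.symm)]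
  obtain ⟨n, hn⟩ := bg_par h.t2 (zpowers_le.2 h.st) h1 (triv_mem_Char _) (irr_vchar hχ)
  rw [bq, bg_zp h.s2, bg_zp h.s2, mul_one, k s h.s2, k (t * s) (orderOf_eq_prime (by
    rw [sq, mul_assoc, ← mul_assoc s, mem_cent1_iff.1 h.st, mul_assoc, bg_sq h.s2, mul_one,
      bg_sq h.t2]) fun e => h1 (eq_inv_of_mul_eq_one_left e ▸ inv_mem (mem_zpowers s)))] at hn
  exact ⟨n, by linear_combination 2 * hn⟩

theorem real (hχ : χ ∈ Irr ⊤) (hx : x ∈ E) : conj (χ x) = χ x := by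
  rw [← char_inv (irr_char hχ), ← h.sE x hx, cfJ (irr_CF hχ) (mem_top s)]

variable [IsSimpleGroup G]

theorem eq_triv (hχ : χ ∈ Irr ⊤) (h1 : ∀ x ∈ E, χ x = χ 1) : χ = triv ⊤ :=
  (irr_eq_triv_iff hχ).2 (((nrm_top_iff.1 (cker_irr_nrm hχ)).eq_bot_or_eq_top.resolve_left
    fun e => h.neE (eq_bot_iff.2 (((le_cker_iff (irr_char hχ) le_top).2 h1).trans e.le))).ge)

theorem deg1 (hχ : χ ∈ Irr ⊤) (h1 : deg χ = 1) : χ = triv ⊤ := h.eq_triv hχ fun x hx => by
  have hl := lin_of_deg (irr_char hχ) h1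
  rw [hl.one]
  exact bg_root (h.oddE.of_dvd_nat (orderOf_dvd_card' hx)) (hl.pow_orderOf (mem_top x))
    (by rw [← hl.mul_conj (mem_top x), h.real hχ hx])

theorem deg3 (hχ : χ ∈ Irr ⊤) (h1 : deg χ = 3) (h2 : ∀ x ∈ E, χ (t * x) = -1) : False := by
  have h3 : χ 1 = 3 := by rw [irr_one hχ, h1]; rfl
  have := h.eq_triv hχ fun x hx => ?_
  · rw [this, triv_of_mem (mem_top _)] at h3; norm_num at h3
  obtain ⟨S, s1, s2, -⟩ := char_val (irr_char hχ) (mem_top (t * x))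
  have c : Commute t x := (mem_cent1_iff.1 (h.cent (h.nE.le hx))).symm
  have e1 : (t * x) ^ ♯E = t := by
    obtain ⟨k, hk⟩ := h.oddE
    rw [c.mul_pow, pow_card_eq_one'' hx, hk, pow_succ, pow_mul, pow_two, bg_sq h.t2]; simp
  have e2 : ∀ z ∈ S, z ^ ♯E = 1 ∨ z ^ ♯E = -1 := fun z hz => sq_eq_one_iff.1 (by
    obtain ⟨k, hk⟩ := orderOf_dvd_of_pow_eq_one (show (t * x) ^ (♯E * 2) = 1 by
      rw [pow_mul, e1, sq, bg_sq h.t2])
    rw [← pow_mul, hk, pow_mul, s1 z hz, one_pow])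
  have a0 := s2 0
  have a1 := s2 1
  have a2 := s2 ♯E
  have a3 := s2 (♯E + 1)
  have a4 := h.real hχ hx
  rw [pow_succ, e1, ← mul_assoc, bg_sq h.t2, one_mul] at a3
  rw [e1, ← mul_one t, h2 1 (one_mem _)] at a2
  rw [pow_one, h2 x hx] at a1
  obtain ⟨a, b, c, rfl⟩ := Multiset.card_eq_three.1 (show S.card = 3 by
    simp only [pow_zero, h3, Multiset.map_const', Multiset.sum_replicate, nsmul_eq_mul, mul_one] at a0
    exact_mod_cast a0.symm)
  simp only [Multiset.insert_eq_cons, Multiset.map_cons, Multiset.map_singleton, Multiset.sum_cons,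
    Multiset.sum_singleton, pow_succ, pow_zero] at a1 a2 a3
  rw [h3]
  rcases e2 a (by simp) with ha | ha <;> rcases e2 b (by simp) with hb | hb <;>
    rcases e2 c (by simp) with hc | hc <;> rw [ha, hb, hc] at a2 a3
  all_goals first
    | (norm_num at a2; done)
    | exact bg_three h.oddE ha a4 (by linear_combination a3 + a1)
    | exact bg_three h.oddE hb a4 (by linear_combination a3 + a1)
    | exact bg_three h.oddE hc a4 (by linear_combination a3 + a1)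

end Sec2

end Cfsg.Agent.MC
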