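import Cfsg.Agent.MC.FW
import Cfsg.Agent.BW.A0a

/-! Minimal non-CA groups: the converse direction. -/

set_option autoImplicit false
set_option linter.unusedSectionVars false

namespace Cfsg.Agent.MC

open Subgroup Cfsg.Agent.FT
open scoped commutatorElement

universe u

section gen
variable {G : Type u} [Group G] {G' : Type*} [Group G'] {H M K : Subgroup G} {t s a b : G}

theorem v_dih (hK : ∀ x ∈ K, ∀ y ∈ K, x * y = y * x) (hs : ∀ x ∈ K, s * x * s⁻¹ = x⁻¹)
    (hM : ∀ g ∈ M, g ∈ K ∨ g * s ∈ K) (ht : t ∈ M) (t2 : t * t = 1) (h0 : ∃ y ∈ M, y * t ≠ t * y)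
    (ha : a ∈ M) (hb : b ∈ M) (h1 : a * t = t * a) (h2 : b * t = t * b) : a * b = b * a := by
  have ti : t⁻¹ = t := inv_eq_of_mul_eq_one_left t2
  rcases hM t ht with e | e
  · obtain ⟨y, hy, k⟩ := h0
    refine absurd ?_ k
    rcases hM y hy with e' | e'
    · exact hK y e' t e
    · have c1 := hK _ e' t e
      have c2 := hs t e
      rw [ti] at c2
      calc y * t = y * (s * t * s⁻¹) := by rw [c2]
        _ = y * s * t * s⁻¹ := by group
        _ = t * y := by rw [c1]; group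
  have k : ∀ a ∈ M, a ∈ K ∨ a * t ∈ K := fun a ha => (hM a ha).imp_right fun e' => by
    have := K.mul_mem e' (K.inv_mem e)
    rwa [show a * s * (t * s)⁻¹ = a * t⁻¹ by group, ti] at this
  have c1 : Commute a t := h1
  have c2 : Commute b t := h2
  have k1 : ∀ {x y : G}, Commute x t → Commute (x * t) y → Commute y t → Commute x y :=
    fun {x y} _ d2 d3 => by simpa using d2.mul_left d3.symm.inv_left
  rcases k a ha with e1 | e1 <;> rcases k b hb with e2 | e2
  · exact hK a e1 b e2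
  · exact (k1 c2 (hK _ e2 _ e1) c1).symm
  · exact k1 c1 (hK _ e1 _ e2) c2
  · exact k1 c1 (k1 c2 (hK _ e2 _ e1) (c1.mul_left (Commute.refl t))).symm c2

theorem v_iter {F : Type} [Field F] {θ : G → F} {g : G} {c : F} (hg : g ∈ 𝐍(K))
    (h : ∀ y ∈ K, θ (g * y * g⁻¹) = c * θ y) (n : ℕ) {y : G} (hy : y ∈ K) :
    θ (g ^ n * y * (g ^ n)⁻¹) = c ^ n * θ y := by
  induction n with
  | zero => simp
  | succ n ih =>
    rw [show g ^ (n + 1) * y * (g ^ (n + 1))⁻¹ = g * (g ^ n * y * (g ^ n)⁻¹) * g⁻¹ by group,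
      h _ (conj_mem_of_mem_normalizer (pow_mem hg n) hy), ih]; ring

theorem v_one {F : Type} [Field F] {θ : G → F} (h : ∀ x ∈ K, ∀ y ∈ K, θ (x * y) = θ x + θ y) :
    θ 1 = 0 := by simpa using h 1 (one_mem K) 1 (one_mem K)

theorem v_inv {F : Type} [Field F] {θ : G → F} (h : ∀ x ∈ K, ∀ y ∈ K, θ (x * y) = θ x + θ y)
    (ha : a ∈ K) : θ a⁻¹ = -θ a := by
  have := h _ ha _ (inv_mem ha)
  rw [mul_inv_cancel, v_one h] at this
  linear_combination -this

end gen

variable {F : Type} [Field F] [Fintype F]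

theorem v_num {q : ℕ} (h : Lst q) : Odd q ∧ 7 ≤ q ∧ ¬ 16 ∣ q ^ 2 - 1 := by
  have k : ∀ b p : ℕ, b ^ 2 % 16 = 9 → Odd p → ¬ 16 ∣ (b ^ p) ^ 2 - 1 := fun b p hb ⟨m, hm⟩ e => by
    have h1 : ∀ m : ℕ, 9 ^ (2 * m + 1) % 16 = 9 := fun m => by
      induction m with
      | zero => rfl
      | succ m ih => rw [show 2 * (m + 1) + 1 = 2 * m + 1 + 2 by ring, pow_add, Nat.mul_mod, ih]; rfl
    have h2 : (b ^ p) ^ 2 % 16 = 9 := by rw [← pow_mul, mul_comm, pow_mul, Nat.pow_mod, hb, hm, h1]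
    omega
  rcases h with ⟨h1, h2, h3⟩ | ⟨p, h1, h2, h3⟩
  · refine ⟨h1.odd_of_ne_two (by omega), ?_, h3⟩
    by_contra e
    obtain rfl : q = 6 := by omega
    norm_num at h1
  · have h4 : 2 ≤ p := h1.two_le
    have h5 := h1.odd_of_ne_two h2
    rcases h3 with rfl | rfl
    · exact ⟨Odd.pow (by decide), le_trans (by norm_num) (Nat.pow_le_pow_right (by norm_num) h4),
        k 3 p rfl h5⟩
    · exact ⟨Odd.pow (by decide), le_trans (by norm_num) (Nat.pow_le_pow_right (by norm_num) h4),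
        k 5 p rfl h5⟩

theorem v_card (ho : Odd (Fintype.card F)) :
    2 * Nat.card (L2 F) = Fintype.card F * (Fintype.card F ^ 2 - 1) := by
  rw [← F0_card, Nat.gcd_eq_left (by obtain ⟨m, hm⟩ := ho; omega)]

theorem v_eight (h : Lst (Fintype.card F)) : ¬ 8 ∣ Nat.card (L2 F) := fun e => by
  obtain ⟨h1, -, h3⟩ := v_num h
  refine h3 (Nat.Coprime.dvd_of_dvd_mul_left (k := 2 ^ 4) (Nat.Coprime.pow_left 4 (Nat.coprime_two_left.2 h1)) ?_)
  rw [← v_card h1]
  exact mul_dvd_mul_left 2 e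

theorem v_sub {E : Type} [Field E] [Fintype E] (h : Lst (Fintype.card F))
    (ho : Odd (Fintype.card E)) (h7 : 7 ≤ Fintype.card E) (φ : L2 E →* L2 F)
    (hφ : Function.Injective φ) : Fintype.card E = Fintype.card F := by
  obtain ⟨r, _, a, hr, ha⟩ := FiniteField.card' E
  obtain ⟨p, _, n, hp, hn⟩ := FiniteField.card' F
  haveI := Fact.mk hr
  haveI := Fact.mk hp
  obtain ⟨Q0⟩ : Nonempty (Sylow r (L2 E)) := inferInstance
  obtain ⟨θ0, b0, a0, -, -, s0, -⟩ := F4 Q0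
  obtain ⟨y, hy, y1⟩ := b0.surjOn (Set.mem_univ (1 : E))
  have y2 : y ≠ 1 := fun e => by rw [e, v_one a0] at y1; exact zero_ne_one y1
  have y3 : φ y ≠ 1 := by rwa [Ne, map_eq_one_iff φ hφ]
  have r2 : r ≠ 2 := by
    rintro rfl
    exact (Nat.not_even_iff_odd.2 ho) (ha ▸ (Nat.even_pow.2 ⟨even_two, a.ne_zero⟩))
  by_cases rp : r = p
  · subst rp
    obtain ⟨Q, hQ⟩ := (Q0.isPGroup'.map φ).exists_le_sylow
    obtain ⟨θ, b1, a1, c1, s1, -⟩ := F4 Q
    have hQ' : ∀ y ∈ (Q0 : Subgroup (L2 E)), φ y ∈ (Q : Subgroup (L2 F)) :=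
      fun y hy => hQ (mem_map_of_mem φ hy)
    obtain ⟨m, hm⟩ := (v_num h).1
    have h1 : Fintype.card E - 1 ∣ Fintype.card F - 1 := by
      refine (FiniteField.forall_pow_eq_one_iff E _).1 fun x => Units.ext ?_
      obtain ⟨g, hg, e⟩ := s0 x x.ne_zero
      have g1 : φ g ∈ 𝐍((Q : Subgroup (L2 F))) := by
        rw [← cj_eq_iff_mem_normalizer, ← c1 _ (hQ' y hy) y3, cj_cent1, c1 _ (hQ' y hy) y3,
          ← map_mul, ← map_inv, ← map_mul]
        exact c1 _ (hQ' _ (conj_mem_of_mem_normalizer hg hy))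
          (by rw [Ne, map_eq_one_iff φ hφ]; exact conj_ne_one y2)
      obtain ⟨c, c0, e'⟩ := s1 _ g1
      have e1 := v_iter hg e m hy
      have e2 := v_iter g1 e' m (hQ' y hy)
      have e3 : Fintype.card F - 1 = 2 * m := by omega
      rw [← pow_mul, ← e3, FiniteField.pow_card_sub_one_eq_one c c0, one_mul] at e2
      have e4 := b1.injOn (conj_mem_of_mem_normalizer (pow_mem g1 m) (hQ' y hy)) (hQ' y hy) e2
      rw [← map_pow, ← map_mul, ← map_inv, ← map_mul, hφ.eq_iff] at e4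
      rw [e4, y1, mul_one, ← pow_mul, ← e3] at e1
      simpa using e1.symm
    have h2 : (a : ℕ) ∣ n := by
      have := Nat.gcd_eq_left h1
      rw [ha, hn, Nat.pow_sub_one_gcd_pow_sub_one] at this
      have h3 := Nat.one_le_pow (Nat.gcd a n) r hr.pos
      have h4 := Nat.one_le_pow a r hr.pos
      exact Nat.gcd_eq_left_iff_dvd.1 (Nat.pow_right_injective hr.two_le (by
        simp only; omega))
    rw [ha] at h7 ⊢
    rw [hn] at h ⊢
    rcases h with ⟨h3, -⟩ | ⟨l, h3, -, h4⟩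
    · rw [h3.eq_one_of_pow] at h2 ⊢
      rw [Nat.dvd_one.1 h2]
    · have k : ∀ b : ℕ, b.Prime → b < 7 → r ^ (n : ℕ) = b ^ l → r ^ (a : ℕ) = r ^ (n : ℕ) :=
        fun b hb b7 e => by
          obtain rfl : r = b := (Nat.prime_dvd_prime_iff_eq hr hb).1
            (hr.dvd_of_dvd_pow (e ▸ dvd_pow_self r n.ne_zero))
          rw [Nat.pow_right_injective hr.two_le e] at h2 ⊢
          rcases (Nat.dvd_prime h3).1 h2 with e' | e'
          · rw [e', pow_one] at h7; omega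
          · rw [e']
      exact h4.elim (k 3 Nat.prime_three (by omega)) (k 5 Nat.prime_five (by omega))
  exfalso
  obtain ⟨k, hk⟩ := isPGroup_iff_mem.1 Q0.isPGroup' y hy
  have y4 : orderOf (φ y) ∣ r ^ k := orderOf_dvd_of_pow_eq_one (by rw [← map_pow, hk, map_one])
  obtain ⟨-, -, s, -, s1, s2⟩ := F3 (x := φ y) (fun e => y3 (orderOf_eq_one_iff.1
    (Nat.eq_one_of_dvd_coprimes (((Nat.coprime_primes hr Nat.prime_two).2 r2).pow_left k) y4
      (orderOf_dvd_of_pow_eq_one (by rw [pow_two, e])))))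
    (hn ▸ (((Nat.coprime_primes hr hp).2 rp).pow k n).coprime_dvd_left y4)
  have h1 : Fintype.card E - 1 ∣ 4 := by
    refine (FiniteField.forall_pow_eq_one_iff E _).1 fun x => Units.ext ?_
    obtain ⟨g, hg, e⟩ := s0 x x.ne_zero
    have e1 := e y hy
    have g1 := conj_mem_of_mem_normalizer hg hy
    have e2 : g * y * g⁻¹ * y = y * (g * y * g⁻¹) :=
      b0.injOn (mul_mem g1 hy) (mul_mem hy g1) (by rw [a0 _ g1 _ hy, a0 _ hy _ g1, add_comm])
    rw [y1, mul_one] at e1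
    rcases s2 (φ g) (mem_cent1_iff.2 (by simpa using congrArg φ e2)) with e3 | e3
    · rw [← map_mul, ← map_mul, hφ.eq_iff] at e3
      rw [e3, mul_inv_cancel_right, y1] at e1
      simp only [Units.val_pow_eq_pow_val, Units.val_one]
      linear_combination (-(x : E) ^ 2 - 1) * e1
    · have e4 := s1 _ (by rw [inv_mul_cancel, mul_inv_cancel] : (φ y)⁻¹ * φ y = φ y * (φ y)⁻¹)
      have e5 : g * y⁻¹ * g⁻¹ = y := hφ (by
        rw [map_mul, map_mul, map_inv, map_inv, ← inv_inj, ← conj_inv, inv_inv]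
        rw [inv_inv] at e4
        have e6 : (φ y)⁻¹ * (φ g * s) = φ g * s * (φ y)⁻¹ := (Commute.inv_right e3).symm
        calc φ g * φ y * (φ g)⁻¹ = φ g * s * (φ y)⁻¹ * (φ g * s)⁻¹ := by
              conv_lhs => rw [← e4]
              group
          _ = _ := by rw [← e6, mul_inv_cancel_right])
      have e6 := e _ (inv_mem hy)
      rw [e5, v_inv a0 hy, y1] at e6
      simp only [Units.val_pow_eq_pow_val, Units.val_one]
      linear_combination ((x : E) ^ 2 - 1) * e6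
  have := Nat.le_of_dvd (by omega) h1
  omega

theorem v_sol (h : Lst (Fintype.card F)) {M : Subgroup (L2 F)} (hs : Group.IsSolvable M) :
    CA M := by
  intro t ht h0 a ha b hb h1 h2
  obtain ⟨ho, h7, -⟩ := v_num h
  by_cases t2 : t * t = 1
  swap
  · exact F1 t2 h1 h2
  have t1 : t ≠ 1 := by rintro rfl; simp at h0
  obtain ⟨V, v1, hV⟩ := exists_minNrm (ne_bot_of_mem ht t1) (le_normalizer : M ≤ _)
  obtain ⟨r, hr, v2⟩ := hV.exists_abelem (isSolvable_of_le v1 hs)
  obtain ⟨x, hx, x1⟩ := exists_ne_one_of_ne_bot hV.ne_bot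
  haveI := Fact.mk hr
  have x2 := v2.orderOf_eq hx x1
  have v3 : ∀ g ∈ M, g * x * g⁻¹ ∈ 𝐂[x] := fun g hg =>
    cent_le_cent1 hx (v2.le_cent (conj_mem_of_mem_normalizer (hV.norm hg) hx))
  by_cases r2 : r = 2
  · subst r2
    by_cases v4 : ♯V = 2
    · obtain ⟨K, s, hK, -⟩ := F2 ho h7 x2
      refine v_dih hK.comm hK.inv (fun g hg => (hK.cent g).1 ?_) ht t2 h0 ha hb h1 h2
      obtain ⟨w, -, hw⟩ := (Nat.card_eq_two_iff' (1 : V)).1 v4
      have e := (hw ⟨_, conj_mem_of_mem_normalizer (hV.norm hg) hx⟩ fun e =>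
        conj_ne_one x1 (congrArg Subtype.val e)).trans
        (hw ⟨x, hx⟩ fun e => x1 (congrArg Subtype.val e)).symm
      exact mul_inv_eq_iff_eq_mul.1 (congrArg Subtype.val e)
    have v5 : Syl 2 V ⊤ := ⟨le_top, v2.isPGroup, fun e => v_eight h (by
      obtain ⟨m, hm⟩ := IsPGroup.iff_card.1 v2.isPGroup
      have : 4 ∣ ♯V := by
        have := one_lt_card.2 hV.ne_bot
        rw [hm] at this v4 ⊢
        rcases m with _ | _ | m
        · omega
        · omega
        · exact ⟨2 ^ m, by ring⟩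
      rw [← card_top, ← card_mul_relIndex (le_top : V ≤ ⊤)]
      exact mul_dvd_mul this e)⟩
    have v6 : ∀ a ∈ M, a * a ∈ V → a ∈ V := fun a ha e => zpowers_le.1 (v5.le_of_le_normalizer
      (isPGroup_zpowers (k := 2) (by rw [← v2.2 _ e, ← pow_two, ← pow_mul]; rfl)) le_top (zpowers_le.2 (hV.norm ha)))
    have v7 : t ∈ V := v6 t ht (t2 ▸ one_mem V)
    obtain ⟨K, s, hK, -⟩ := F2 ho h7 (orderOf_eq_prime (by rw [pow_two, t2]) t1)
    obtain ⟨v, hv, v8⟩ : ∃ v ∈ V, v ∉ K := by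
      by_contra! e
      refine v4 (le_antisymm ?_ (one_lt_card.2 hV.ne_bot))
      refine (card_le_of_le' fun v hv => ?_).trans ((Nat.card_zpowers t).trans hK.t2).le
      by_cases e1 : v = 1
      · rw [e1]; exact one_mem _
      · rw [hK.uniq v (e v hv) (v2.orderOf_eq hv e1)]; exact mem_zpowers t
    have v9 := ((hK.cent v).1 (mem_cent_iff.1 (v2.le_cent v7) v hv)).resolve_left v8
    have k : ∀ a ∈ M, a * t = t * a → a ∈ V := fun a ha e => v6 a ha (by
      rcases (hK.cent a).1 e with e1 | e1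
      · have e2 := mul_mem (conj_mem_of_mem_normalizer (hV.norm ha) hv) (inv_mem hv)
        rwa [show a * v * a⁻¹ * v⁻¹ = a * (v * a⁻¹ * v⁻¹) by group, hK.out_inv v9 (inv_mem e1),
          inv_inv] at e2
      · rw [hK.out_sq e1]; exact one_mem V)
    exact mem_cent_iff.1 (v2.le_cent (k b hb h2)) a (k a ha h1)
  obtain ⟨p, _, n, hp, hn⟩ := FiniteField.card' F
  by_cases rp : r = p
  · subst rp
    obtain ⟨Q, hQ⟩ := v2.isPGroup.exists_le_sylow
    obtain ⟨θ, b1, a1, c1, s1, -⟩ := F4 Q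
    have n1 : M ≤ 𝐍((Q : Subgroup (L2 F))) := fun g hg => by
      rw [← cj_eq_iff_mem_normalizer, ← c1 _ (hQ hx) x1, cj_cent1, c1 _ (hQ hx) x1]
      exact c1 _ (hQ (conj_mem_of_mem_normalizer (hV.norm hg) hx)) (conj_ne_one x1)
    obtain ⟨c, -, e1⟩ := s1 a (n1 ha)
    obtain ⟨d, -, e2⟩ := s1 b (n1 hb)
    have m : ∀ g ∈ M, g * x * g⁻¹ ∈ (Q : Subgroup (L2 F)) := fun g hg =>
      conj_mem_of_mem_normalizer (n1 hg) (hQ hx)
    have e3 : a * b * x * (a * b)⁻¹ = b * a * x * (b * a)⁻¹ :=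
      b1.injOn (m _ (mul_mem ha hb)) (m _ (mul_mem hb ha)) (by
        rw [show a * b * x * (a * b)⁻¹ = a * (b * x * b⁻¹) * a⁻¹ by group,
          show b * a * x * (b * a)⁻¹ = b * (a * x * a⁻¹) * b⁻¹ by group, e1 _ (m b hb),
          e2 _ (m a ha), e1 _ (hQ hx), e2 _ (hQ hx)]; ring)
    have e4 : (b * a)⁻¹ * (a * b) ∈ (Q : Subgroup (L2 F)) := by
      rw [← c1 _ (hQ hx) x1, mem_cent1_iff]
      calc _ = (b * a)⁻¹ * (a * b * x * (a * b)⁻¹) * (a * b) := by group
        _ = _ := by rw [e3]; group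
    by_contra e5
    have e6 : t ∈ (Q : Subgroup (L2 F)) := by
      rw [← c1 _ e4 fun e => e5 (inv_mul_eq_one.1 e).symm, mem_cent1_iff]
      have c1 : Commute t a := h1.symm
      have c2 : Commute t b := h2.symm
      exact (c2.mul_right c1).inv_right.mul_right (c1.mul_right c2)
    exact r2 (eq_of_isPGroup_of_dvd Q.isPGroup' Nat.prime_two
      ((orderOf_eq_prime (by rw [pow_two, t2]) t1).symm.dvd.trans (orderOf_dvd_card' e6))).symm
  obtain ⟨c1, -, s, -, s1, s2⟩ := F3 (x := x) (fun e => r2 ((Nat.prime_dvd_prime_iff_eq hr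
    Nat.prime_two).1 (x2 ▸ orderOf_dvd_of_pow_eq_one (by rw [pow_two, e]))))
    (by rw [hn, x2]; exact ((Nat.coprime_primes hr hp).2 rp).pow_right n)
  exact v_dih (K := 𝐂[x]) (fun y hy z hz => mem_cent_iff.1
    (comm_iff_le_cent.1 (comm_of_isCyclic c1) hz) y hy) (fun y hy => s1 y (mem_cent1_iff.1 hy))
    (fun g hg => (s2 g (v3 g hg)).imp mem_cent1_iff.2 mem_cent1_iff.2) ht t2 h0 ha hb h1 h2

theorem CV {F : Type} [Field F] [Fintype F] (h : Lst (Fintype.card F)) : PCA (L2 F) := by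
  intro H h0
  by_contra h1
  obtain ⟨M, ⟨h2, h3⟩, h4⟩ := wellFounded_lt.has_min
    {M : Subgroup (L2 F) | M ≠ ⊤ ∧ ¬ CA M} ⟨H, h0, h1⟩
  obtain ⟨⟨E, _, _, ho, h7, ⟨e⟩⟩, -⟩ := FW (G := M) (fun K hK => by
    refine CA.v_of_map M.subtype (subtype_injective M) (by_contra fun k => h4 _
      ⟨ne_top_of_le (map_subtype_le K) h2, k⟩ ((map_subtype_le K).lt_of_ne fun e => hK ?_))
    rw [← comap_map_eq_self_of_injective (subtype_injective M) K, e]
    exact subgroupOf_self M) (fun k => h3 (v_sol h k)) fun k => h3 (by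
      have := k.v_map M.subtype (subtype_injective M)
      rwa [← MonoidHom.range_eq_map, range_subtype] at this)
  have e1 := v_sub h ho h7 (M.subtype.comp e.symm.toMonoidHom)
    ((subtype_injective M).comp e.symm.injective)
  have e2 := v_card ho
  rw [e1, ← v_card (v_num h).1, ← Nat.card_congr e.toEquiv] at e2
  exact h2 (eq_top_of_card_eq M (by omega))

end Cfsg.Agent.MC
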