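import Cfsg.Agent.BW.Def

/-! Minimal non-CA groups: definitions (see `notes/mc_plan.md`). -/

set_option autoImplicit false
set_option linter.unusedSectionVars false

namespace Cfsg.Agent.MC

open Subgroup

universe u
variable {G : Type u} [Group G]

/-- `PSL₂(F)` -/
abbrev L2 (F : Type) [Field F] : Type := Matrix.ProjectiveSpecialLinearGroup (Fin 2) F

/-- `H` is a CA-group -/
def CA (H : Subgroup G) : Prop := ∀ x ∈ H, (∃ y ∈ H, y * x ≠ x * y) →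
  ∀ a ∈ H, ∀ b ∈ H, a * x = x * a → b * x = x * b → a * b = b * a

/-- all proper subgroups are CA-groups -/
def PCA (G : Type u) [Group G] : Prop := ∀ H : Subgroup G, H ≠ ⊤ → CA H

/-- `G ≅ L₂(2ⁿ)`, `n ≥ 2` -/
def L2e (G : Type u) [Group G] : Prop := ∃ (F : Type) (_ : Field F) (_ : Fintype F),
  CharP F 2 ∧ 4 ≤ Fintype.card F ∧ Nonempty (G ≃* L2 F)

/-- `G ≅ L₂(q)`, `q ≥ 7` odd -/
def L2o (G : Type u) [Group G] : Prop := ∃ (F : Type) (_ : Field F) (_ : Fintype F),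
  Odd (Fintype.card F) ∧ 7 ≤ Fintype.card F ∧ Nonempty (G ≃* L2 F)

/-- `G / Z(G)` is a non-abelian simple group -/
def SZ (G : Type u) [Group G] : Prop :=
  IsSimpleGroup (G ⧸ center G) ∧ ∃ a b : G ⧸ center G, a * b ≠ b * a

/-- the list of field orders -/
def Lst (q : ℕ) : Prop := (q.Prime ∧ 5 < q ∧ ¬ 16 ∣ q ^ 2 - 1) ∨ ∃ p : ℕ, p.Prime ∧ p ≠ 2 ∧ (q = 3 ^ p ∨ q = 5 ^ p)

/-- the key principle -/
theorem CA.cen {H : Subgroup G} (h : CA H) {x a b : G} (hx : x ∈ H) (ha : a ∈ H) (hb : b ∈ H)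
    (h1 : a * x = x * a) (h2 : b * x = x * b) (h3 : a * b ≠ b * a) {y : G} (hy : y ∈ H) :
    y * x = x * y := by
  by_contra e
  exact h3 (h x hx ⟨y, hy, e⟩ a ha b hb h1 h2)

theorem CA.mono {H K : Subgroup G} (h : CA H) (hK : K ≤ H) : CA K :=
  fun x hx ⟨y, hy, e⟩ a ha b hb => h x (hK hx) ⟨y, hK hy, e⟩ a (hK ha) b (hK hb)

/-- the hypothesis of the lemma `BG`: `C(t) = E (D × ⟨t, s⟩)` -/
structure BGH (E D : Subgroup G) (t s : G) : Prop where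
  t2 : orderOf t = 2
  s2 : orderOf s = 2
  ts : t * s = s * t
  ne : t ≠ s
  syl : ¬ 8 ∣ Nat.card G
  conj : ∀ u : G, orderOf u = 2 → IsConj t u
  oddE : Odd (Nat.card E)
  oddD : Odd (Nat.card D)
  neE : E ≠ ⊥
  commE : ∀ x ∈ E, ∀ y ∈ E, x * y = y * x
  commD : ∀ x ∈ D, ∀ y ∈ D, x * y = y * x
  cop : Nat.Coprime (Nat.card E) (Nat.card D)
  sE : ∀ e ∈ E, s * e * s⁻¹ = e⁻¹
  tE : ∀ e ∈ E, t * e = e * t
  sD : ∀ d ∈ D, s * d = d * s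
  tD : ∀ d ∈ D, t * d = d * t
  DN : D ≤ normalizer (E : Set G)
  cent : ∀ g : G, g * t = t * g →
    ∃ e ∈ E, ∃ d ∈ D, g = e * d ∨ g = e * d * t ∨ g = e * d * s ∨ g = e * d * t * s
  fpf : ∀ d ∈ D, ∀ e ∈ E, e ≠ 1 → d * e = e * d → ∀ e' ∈ E, d * e' = e' * d

end Cfsg.Agent.MC
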