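import Cfsg.Agent.MC.QE1
import Cfsg.Agent.MC.PFa
import Cfsg.Agent.S0088
import Cfsg.Agent.S0111

/-! Piece QE: the centre has even order. -/

set_option autoImplicit false
set_option linter.unusedSectionVars false

namespace Cfsg.Agent.MC

open Subgroup Cfsg.Agent.FT

universe u
variable {G : Type u} [Group G] [Finite G] {x y n t s g : G}

local notation "π" => QuotientGroup.mk' (center G)

theorem qe_into (P : Sylow 2 G) {u : G ⧸ center G} (hu : orderOf u = 2) :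
    ∃ g : G, ∃ a ∈ (P : Subgroup G), π a = π g * u * (π g)⁻¹ := by
  obtain ⟨g, -, e⟩ := (H1.sylow_isSylowIn_top (P.mapSurjective
    (QuotientGroup.mk'_surjective (center G)))).exists_cj_le (Q := zpowers u)
    (IsPGroup.iff_card.2 ⟨1, by rw [Nat.card_zpowers, hu]; rfl⟩) le_top
  obtain ⟨g, rfl⟩ := QuotientGroup.mk'_surjective _ g
  obtain ⟨a, ha, e1⟩ := e (conj_mem_cj (mem_zpowers u))
  exact ⟨g, a, ha, e1⟩

theorem qe_ab (hP : PCA G) (hs : SZ G) {P : Subgroup G}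
    (zc : ∀ z ∈ P, (∀ a ∈ P, a * z = z * a) → z ∈ center G)
    (h : ∀ u : G ⧸ center G, orderOf u = 2 → ∃ g : G, ∃ a ∈ P, π a = π g * u * (π g)⁻¹ ∧
      ∀ y ∈ P, π y * π a = π a * π y) (hx : orderOf (π x) = 2) : 𝐂[x] ≤ 𝐂(𝐂[x]) := by
  obtain ⟨g, a, ha, e, hc⟩ := h _ hx
  have aZ : a ∉ center G := fun k => by
    rw [← qo_oc (π g), ← e, qo_one.2 k, orderOf_one] at hx
    omega
  have k : 𝐂[a] ≤ 𝐂(𝐂[a]) := by_contra fun na => aZ (zc a ha fun y hy => qe_N hP hs aZ na (hc y hy))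
  have k2 : ∀ b ∈ 𝐂[x], g * b * g⁻¹ ∈ 𝐂[a] := fun b hb => mem_cent1_iff.2 ((qe_cc e).2 (by
    simpa [mul_assoc] using mem_cent1_iff.1 hb))
  intro b hb
  refine mem_cent_iff.2 fun c hc => ?_
  have := mem_cent_iff.1 (k (k2 b hb)) _ (k2 c hc)
  rw [conj_mul, conj_mul] at this
  simpa using this

theorem qe_el (hP : PCA G) (hs : SZ G) (P : Sylow 2 G) (tP : t ∈ (P : Subgroup G))
    (sP : s ∈ (P : Subgroup G)) (st : s * t ≠ t * s)
    (zc : ∀ z ∈ (P : Subgroup G), (∀ a ∈ (P : Subgroup G), a * z = z * a) → z ∈ center G)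
    (ex : ∀ y ∈ (P : Subgroup G), π y * π y = 1) :
    (∀ x : G, orderOf (π x) = 2 → 𝐂[x] ≤ 𝐂(𝐂[x])) ∧
      (L2e (G ⧸ center G) ∨ L2o (G ⧸ center G)) := by
  have := hs.1
  have cm : ∀ x ∈ (P : Subgroup G), ∀ y ∈ (P : Subgroup G), π x * π y = π y * π x :=
    fun x hx y hy => by
    have := ex _ (mul_mem hx hy)
    rw [map_mul] at this
    rw [eq_inv_of_mul_eq_one_left this, mul_inv_rev, inv_eq_of_mul_eq_one_right (ex x hx),
      inv_eq_of_mul_eq_one_right (ex y hy)]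
  have ab : ∀ x : G, orderOf (π x) = 2 → 𝐂[x] ≤ 𝐂(𝐂[x]) := fun x hx => qe_ab hP hs zc
    (fun u hu => let ⟨g, a, ha, e⟩ := qe_into P hu; ⟨g, a, ha, e, fun y hy => cm y hy a ha⟩) hx
  refine ⟨ab, ?_⟩
  rcases AB hs.2 (P.mapSurjective (QuotientGroup.mk'_surjective _)) (by
    rintro _ ⟨a, ha, rfl⟩ _ ⟨b, hb, rfl⟩
    exact cm a ha b hb) (fun u a b hu ha hb oa ob => by
    obtain ⟨t, rfl⟩ := QuotientGroup.mk'_surjective _ u
    have k : ∀ a : G ⧸ center G, a * π t = π t * a → Odd (orderOf a) → a ∈ (𝐂[t]).map π :=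
      fun a e ⟨j, hj⟩ => by
      obtain ⟨a, rfl⟩ := QuotientGroup.mk'_surjective _ a
      have := pow_mem (mem_map_of_mem π (qe_Q (by rw [← sq, ← hu, pow_orderOf_eq_one]) e)) (j + 1)
      rwa [map_mul, ← sq, ← pow_mul, show 2 * (j + 1) = orderOf (π a) + 1 by omega, pow_succ,
        pow_orderOf_eq_one, one_mul] at this
    obtain ⟨a, a1, rfl⟩ := k a ha oa
    obtain ⟨b, b1, rfl⟩ := k b hb ob
    exact (oa.mul ob).of_dvd_nat (Commute.orderOf_mul_dvd_mul_orderOf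
      (qe_cm (mem_cent_iff.1 (ab t hu b1) a a1)))) with h | ⟨h4, -, cj2⟩
  · exact .inl h
  have t1 : π t ≠ 1 := fun e => st (mem_center_iff.1 (qo_one.1 e) s)
  have s1 : π s ≠ 1 := fun e => st (mem_center_iff.1 (qo_one.1 e) t).symm
  have mC : ∀ y, π y = 1 ∨ π y = π t → y ∈ 𝐂[t] := fun y hy => (qo_mem (qe_ZC t)).1 (by
    rcases hy with e | e <;> rw [e]
    exacts [one_mem _, ⟨t, mem_cent1_self t, rfl⟩])
  have sC : s ∉ 𝐂[t] := fun k => st (mem_cent1_iff.1 k)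
  have four := qo_four h4 (by rintro _ ⟨a, ha, rfl⟩; exact ex a ha) (t := π t) (u := π s)
    ⟨t, tP, rfl⟩ ⟨s, sP, rfl⟩ t1 s1 fun e => sC (mC s (.inr e.symm))
  have t2 : orderOf (π t) = 2 := orderOf_eq_prime (by rw [sq, ex t tP]) t1
  refine QU.main (P := P) ⟨hP, hs, tP, sP, t2, sC, fun y hy => ?_, fun y hy => cm y hy t tP,
    fun y hy _ => ex y hy, fun y hy yC o => ?_, fun u hu => cj2 _ _ t2 hu, ab⟩
  · rcases four _ ⟨y, hy, rfl⟩ with e | e | e | e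
    · exact .inl (mC y (.inl e))
    · exact .inl (mC y (.inr e))
    · exact .inr (mC _ (.inl (by rw [map_mul, e, ex s sP])))
    · exact .inr (mC _ (.inr (by rw [map_mul, e, mul_assoc, ex s sP, mul_one])))
  · have yC' := mem_map_of_mem π yC
    rcases four _ ⟨y, hy, rfl⟩ with e | e | e | e
    · rw [e, orderOf_one] at o
      omega
    · exact e
    · exact absurd ((qo_mem (qe_ZC t)).1 (e ▸ yC')) sC
    · rw [e, ← map_mul, qo_mem (qe_ZC t)] at yC'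
      exact absurd ((mul_mem_cancel_left (mem_cent1_self t)).1 yC') sC

theorem qe_ix (hP : PCA G) (hs : SZ G) (P : Sylow 2 G) {A : Subgroup G} (AP : A ≤ P)
    (h2 : A.relIndex P = 2) (cA : ∀ x ∈ A, ∀ y ∈ A, x * y = y * x) {a : G} (ha : a ∈ A)
    (aZ : a ∉ center G)
    (zc : ∀ z ∈ (P : Subgroup G), (∀ a ∈ (P : Subgroup G), a * z = z * a) → z ∈ center G)
    (ex : ∀ y ∈ (P : Subgroup G), y ∉ A → π y * π y = 1) :
    (∀ x : G, orderOf (π x) = 2 → 𝐂[x] ≤ 𝐂(𝐂[x])) ∧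
      (L2e (G ⧸ center G) ∨ L2o (G ⧸ center G)) := by
  have := hs.1
  have mm : ∀ x ∈ (P : Subgroup G), ∀ y ∈ (P : Subgroup G), x ∉ A → y ∉ A → x * y ∈ A :=
    fun x hx y hy h3 h4 => (mul_mem_iff_of_index_two (H := A.subgroupOf P) h2
      (a := ⟨x, hx⟩) (b := ⟨y, hy⟩)).2 (iff_of_false h3 h4)
  obtain ⟨s, sP, sA⟩ : ∃ s ∈ (P : Subgroup G), s ∉ A := by
    by_contra! k
    rw [relIndex_eq_one.2 k] at h2
    omega
  have cw : ∀ y ∈ A, ∀ w ∈ (P : Subgroup G), w ∉ A → w * y = y * w → y ∈ center G :=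
    fun y hy w hw wA e => zc y (AP hy) fun b hb => by
    by_cases bA : b ∈ A
    · exact cA b bA y hy
    · have := cA _ (mm b hb w hw bA wA) y hy
      rw [mul_assoc, e, ← mul_assoc, ← mul_assoc] at this
      exact mul_right_cancel this
  have mA : ∀ y ∈ (P : Subgroup G), π y ∈ A.map π ↔ y ∈ A := fun y hy => ⟨by
    rintro ⟨b, hb, e⟩
    by_contra yA
    refine aZ (cw a ha (b⁻¹ * y) (mul_mem (inv_mem (AP hb)) hy)
      (fun k => yA ((mul_mem_cancel_left (inv_mem hb)).1 k)) (mem_center_iff.1 (qo_one.1 ?_) a).symm)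
    rw [map_mul, map_inv, e, inv_mul_cancel], mem_map_of_mem π⟩
  have h3 : (A.map π).relIndex ((P : Subgroup G).map π) = 2 := relIndex_eq_two_iff.2
    ⟨π s, ⟨s, sP, rfl⟩, by
    rintro _ ⟨b, hb, rfl⟩
    rw [← map_mul, mA _ (mul_mem hb sP), mA b hb]
    by_cases bA : b ∈ A
    · exact .inr ⟨bA, fun k => sA ((mul_mem_cancel_left bA).1 k)⟩
    · exact .inl ⟨mm b hb s sP bA sA, bA⟩⟩
  have th : ∀ u : G ⧸ center G, orderOf u = 2 → ∃ g : G, ∃ b ∈ A, π b = π g * u * (π g)⁻¹ :=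
    fun u hu => by
    obtain ⟨g, b, hb, e⟩ := qe_into P hu
    by_cases bA : b ∈ A
    · exact ⟨g, b, bA, e⟩
    rcases S0111.result (P.mapSurjective (QuotientGroup.mk'_surjective _)) (A.map π) (map_mono AP) h3
      (π b) (by rw [e, qo_oc, hu]) ⟨b, hb, rfl⟩ (fun k => bA ((mA b hb).1 k)) with
      ⟨M, hM, m1, -⟩ | ⟨g', c, hc, e'⟩
    · rcases hM.eq_bot_or_eq_top with rfl | rfl
      · rw [index_bot] at m1
        have : Fact (Nat.card (G ⧸ center G)).Prime := ⟨m1 ▸ Nat.prime_two⟩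
        have := isCyclic_of_prime_card (α := G ⧸ center G) rfl
        obtain ⟨a, b, hab⟩ := hs.2
        exact absurd (mul_comm' a b) hab
      · rw [index_top] at m1
        omega
    · obtain ⟨g', rfl⟩ := QuotientGroup.mk'_surjective _ g'
      exact ⟨g' * g, c, hc, by rw [e', e, map_mul]; group⟩
  have cn : ∀ b ∈ A, orderOf (π b) = 2 → ∀ y ∈ (P : Subgroup G), π y * π b = π b * π y :=
    fun b hb o y hy => by
    by_cases yA : y ∈ A
    · exact qe_cm (cA y yA b hb)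
    have e1 := ex _ (mul_mem (AP hb) hy) fun k => yA ((mul_mem_cancel_left hb).1 k)
    have e2 : π b * π b = 1 := by rw [← sq, ← o, pow_orderOf_eq_one]
    rw [map_mul] at e1
    rw [eq_inv_of_mul_eq_one_left e1, mul_inv_rev, inv_eq_of_mul_eq_one_right e2,
      inv_eq_of_mul_eq_one_right (ex y hy yA)]
  have ab : ∀ x : G, orderOf (π x) = 2 → 𝐂[x] ≤ 𝐂(𝐂[x]) := fun x hx => qe_ab hP hs zc
    (fun u hu => let ⟨g, b, hb, e⟩ := th u hu
      ⟨g, b, AP hb, e, cn b hb (by rw [e, qo_oc, hu])⟩) hx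
  refine ⟨ab, ?_⟩
  have two : ∀ b ∈ A, ∀ y ∈ (P : Subgroup G), y ∈ 𝐂[b] ∨ y * s ∈ 𝐂[b] := fun b hb y hy => by
    by_cases yA : y ∈ A
    · exact .inl (mem_cent1_iff.2 (cA y yA b hb))
    · exact .inr (mem_cent1_iff.2 (cA _ (mm y hy s sP yA sA) b hb))
  have nZ : ∀ b : G, orderOf (π b) = 2 → b ∉ center G := fun b o k => by
    rw [qo_one.2 k, orderOf_one] at o
    omega
  have s2 : orderOf (π s) = 2 := orderOf_eq_prime (by rw [sq, ex s sP sA]) fun e =>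
    aZ (cw a ha s sP sA (mem_center_iff.1 (qo_one.1 e) a).symm)
  obtain ⟨g, t, tA, e⟩ := th _ s2
  have t2 : orderOf (π t) = 2 := by rw [e, qo_oc, s2]
  have tt : π t * π t = 1 := by rw [← sq, ← t2, pow_orderOf_eq_one]
  have qs : QI s := (qe_I (H1.sylow_isSylowIn_top P) tt (cn t tA t2) sP (two t tA)).conj
    (g := g⁻¹) (by rw [e, map_inv]; group)
  have uq : ∀ y ∈ A, orderOf (π y) = 2 → π y = π t := fun y hy o => by
    have := qo_one.2 (cw _ (mul_mem hy tA) s sP sA (qs y t (cn y hy o s sP).symm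
      (cn t tA t2 s sP).symm (fun k => nZ y o (cw y hy s sP sA k.symm))
      fun k => nZ t t2 (cw t tA s sP sA k.symm)).symm)
    rw [map_mul] at this
    rw [eq_inv_of_mul_eq_one_left this, inv_eq_of_mul_eq_one_right tt]
  have CA' : ∀ y ∈ (P : Subgroup G), y ∈ 𝐂[t] → y ∈ A := fun y hy k => by_contra fun yA =>
    nZ t t2 (cw t tA y hy yA (mem_cent1_iff.1 k))
  refine QU.main (P := P) ⟨hP, hs, AP tA, sP, t2, fun k => sA (CA' s sP k), two t tA, cn t tA t2,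
    fun y hy k => ex y hy fun yA => k (mem_cent1_iff.2 (cA y yA t tA)),
    fun y hy k o => uq y (CA' y hy k) o, fun u hu => ?_, ab⟩
  obtain ⟨g, b, hb, e⟩ := th u hu
  rw [← uq b hb (by rw [e, qo_oc, hu])]
  exact (isConj_iff.2 ⟨_, e.symm⟩).symm

theorem qe_ca (hP : PCA G) (hs : SZ G) (ab : ∀ x : G, orderOf (π x) = 2 → 𝐂[x] ≤ 𝐂(𝐂[x]))
    (f1 : ∀ x a b : G ⧸ center G, x * x ≠ 1 → a * x = x * a → b * x = x * b → a * b = b * a) :
    CA (⊤ : Subgroup G) := by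
  have := hs.1
  rintro x - ⟨y, -, hy⟩ a - b - ha hb
  have x1 : π x ≠ 1 := fun e => hy (mem_center_iff.1 (qo_one.1 e) y)
  suffices k : 𝐂[x] ≤ 𝐂(𝐂[x]) from
    mem_cent_iff.1 (k (mem_cent1_iff.2 hb)) a (mem_cent1_iff.2 ha)
  by_cases ev : 2 ∣ orderOf (π x)
  · have := ab (x ^ (orderOf (π x) / 2)) (by
      rw [map_pow]; exact orderOf_pow_orderOf_div (orderOf_pos _).ne' ev)
    have k : 𝐂[x] ≤ 𝐂[x ^ (orderOf (π x) / 2)] := fun c hc =>
      mem_cent1_iff.2 (Commute.pow_right (mem_cent1_iff.1 hc) _).eq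
    exact k.trans (this.trans (cent_anti k))
  have od : Odd (orderOf (π x)) := Nat.odd_iff.2 (by omega)
  have cC : ∀ v : G ⧸ center G, v ≠ 1 → Odd (orderOf v) → 𝐂[v] ≤ 𝐂(𝐂[v]) := fun v v1 o c hc =>
    mem_cent_iff.2 fun d hd => f1 v d c (fun e => v1 (qo_sq o e)) (mem_cent1_iff.1 hd)
      (mem_cent1_iff.1 hc)
  have c1 := cC _ x1 od
  have hB : 𝐍(𝐂[π x]).comap π ≠ ⊤ := fun e => by
    have : 𝐍(𝐂[π x]) = ⊤ := eq_top_iff.2 fun g _ => by
      obtain ⟨g, rfl⟩ := QuotientGroup.mk'_surjective _ g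
      exact e.ge (mem_top g)
    rcases (normalizer_eq_top_iff.1 this).eq_bot_or_eq_top with k | k
    · exact x1 (mem_bot.1 (k ▸ mem_cent1_self _))
    · obtain ⟨a, b, hab⟩ := hs.2
      exact hab (mem_cent_iff.1 (c1 (k.ge (mem_top b))) a (k.ge (mem_top a)))
  have le : 𝐂[x] ≤ 𝐍(𝐂[π x]).comap π := fun c hc =>
    le_normalizer (mem_cent1_iff.2 (qe_cm (mem_cent1_iff.1 hc)))
  by_contra na
  have xc := (hP _ hB).r_cent (le (mem_cent1_self x)) le (le_cent1_iff.1 le_rfl) na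
  have nC : 𝐍(𝐂[π x]) ≤ 𝐂[π x] := fun g hg => by
    obtain ⟨g, rfl⟩ := QuotientGroup.mk'_surjective _ g
    exact mem_cent1_iff.2 (qe_cm (mem_cent_iff.1 xc g hg))
  generalize π x = v at x1 od c1 nC
  obtain ⟨r, hr, hd⟩ := Nat.exists_prime_and_dvd (mt orderOf_eq_one_iff.1 x1)
  have := Fact.mk hr
  have ow := orderOf_pow_orderOf_div (orderOf_pos v).ne' hd
  have wv : v ^ (orderOf v / r) ∈ 𝐂[v] := pow_mem (mem_cent1_self v) _
  generalize v ^ (orderOf v / r) = w at ow wv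
  have w1 : w ≠ 1 := by
    rintro rfl
    exact hr.one_lt.ne (orderOf_one.symm.trans ow)
  have c2 := cC w w1 (ow ▸ od.of_dvd_nat hd)
  have c3 : 𝐂[w] ≤ 𝐂[v] := le_cent1_iff.2 (c2 (mem_cent1_comm.1 wv))
  obtain ⟨R, hR, wR⟩ := exists_syl_ge (p := r) (IsPGroup.iff_card.2 ⟨1, by
    rw [Nat.card_zpowers, ow, pow_one]⟩) ((zpowers_le (G := G ⧸ center G)).2 wv)
  have e : 𝐂(R) = 𝐂[v] := le_antisymm ((le_cent1_iff.2 (cent_symm le_rfl (wR (mem_zpowers w)))).trans c3)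
    (c1.trans (cent_anti hR.le))
  have nR : 𝐍(R) ≤ 𝐂[v] := le_trans (e ▸ H1.normalizer_le_normalizer_centralizer R) nC
  have sR := Syl.of_normalizer_le hR le_top (inf_le_right.trans nR)
  obtain ⟨g, hg, k⟩ := qo_mv hs.2 sR.toSylowTop
    (fun a ha b hb => mem_cent_iff.1 (c1 (hR.le hb)) a (hR.le ha)) (wR (mem_zpowers w)) w1
  exact k (mul_inv_eq_iff_eq_mul.2 (mem_cent_iff.1 (c1 wv) g (nR hg)))

theorem QE (hP : PCA G) (hs : SZ G) (hp : commutator G = ⊤) (he : Even (Nat.card (center G))) :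
    (L2e (G ⧸ center G) ∨ L2o (G ⧸ center G)) ∧ CA (⊤ : Subgroup G) := by
  have := hs.1
  let P : Sylow 2 G := default
  have nab : ∃ a ∈ (P : Subgroup G), ∃ b ∈ (P : Subgroup G), a * b ≠ b * a := by
    by_contra! k
    have e := S0088.result (P : Subgroup G) (comm_iff_le_cent.2 fun x hx =>
      mem_cent_iff.2 fun a ha => k a ha x hx) P.card_coprime_index
    obtain ⟨z, hz⟩ := exists_prime_orderOf_dvd_card' (G := center G) 2 he.two_dvd
    have zP : (z : G) ∈ (P : Subgroup G) := (zpowers_le (G := G)).1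
      ((H1.sylow_isSylowIn_top P).le_of_le_normalizer (IsPGroup.iff_card.2 ⟨1, by
        rw [Nat.card_zpowers, orderOf_coe, hz]; rfl⟩) le_top ((zpowers_le (G := G)).2
          (cent_le_norm _ (mem_cent_iff.2 fun a _ => mem_center_iff.1 z.2 a))))
    rw [show z = 1 from Subtype.ext (mem_bot.1 (e.le ⟨⟨zP, hp ▸ mem_top _⟩, z.2⟩)), orderOf_one] at hz
    omega
  have zc := fun z hz h => Z1 hP hs P nab (z := z) hz h
  have ne : (P : Subgroup G) ≠ ⊤ := fun e => by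
    have := isSolvable_of_isPGroup P.isPGroup'
    rw [e] at this
    exact ba_nsol hs.2 (Group.isSolvable_of_surjective (f := (π).comp (⊤ : Subgroup G).subtype)
      fun g => let ⟨g, e⟩ := QuotientGroup.mk'_surjective _ g; ⟨⟨g, trivial⟩, e⟩)
  have key : (∀ x : G, orderOf (π x) = 2 → 𝐂[x] ≤ 𝐂(𝐂[x])) ∧
      (L2e (G ⧸ center G) ∨ L2o (G ⧸ center G)) := by
    have sq : ∀ y ∈ (P : Subgroup G), (∀ a ∈ (P : Subgroup G), y * y * a = a * (y * y)) →
        π y * π y = 1 := fun y hy k => by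
      rw [← map_mul]
      exact qo_one.2 (zc _ (mul_mem hy hy) fun a ha => (k a ha).symm)
    obtain ⟨a, ha, b, hb, hab⟩ := nab
    rcases CA2 P.isPGroup' (hP _ ne) with k | k | ⟨A, AP, h2, cA, ⟨c, hc, y, hy, e⟩, k⟩
    · exact absurd (k a ha b hb) hab
    · exact qe_el hP hs P hb ha hab zc fun y hy => sq y hy (k y hy)
    · exact qe_ix hP hs P AP h2 cA hc (fun cZ => e (mem_center_iff.1 (mul_mem cZ cZ) y).symm) zc
        fun y hy yA => sq y hy (k y hy yA)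
  refine ⟨key.2, qe_ca hP hs key.1 fun x a b hx ha hb => ?_⟩
  obtain ⟨F, _, _, ⟨e⟩⟩ : ∃ (F : Type) (_ : Field F) (_ : Fintype F),
      Nonempty ((G ⧸ center G) ≃* L2 F) := by
    rcases key.2 with ⟨F, i1, i2, -, -, e⟩ | ⟨F, i1, i2, -, -, e⟩ <;> exact ⟨F, i1, i2, e⟩
  refine e.injective ?_
  rw [map_mul, map_mul]
  exact F1 (x := e x) (fun k => hx (e.injective (by rw [map_mul, k, map_one])))
    (by rw [← map_mul, ← map_mul, ha]) (by rw [← map_mul, ← map_mul, hb])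

end Cfsg.Agent.MC
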