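import Cfsg.Agent.MC.R1
import Cfsg.Agent.H3.ZStar

/-! Minimal non-CA groups, piece R: the centre of a non-abelian Sylow `2`-subgroup. -/

set_option autoImplicit false
set_option linter.unusedSectionVars false

namespace Cfsg.Agent.MC

open Subgroup Cfsg.Agent.FT
open scoped commutatorElement

universe u
variable {G : Type u} [Group G] [Finite G] {H N T Q : Subgroup G} {z u : G}

theorem SZ.z_nrm (hs : SZ G) (N : Subgroup G) [hN : N.Normal] :
    N ≤ center G ∨ N ⊔ center G = ⊤ := by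
  haveI := hs.1
  rcases (hN.map _ (QuotientGroup.mk'_surjective (center G))).eq_bot_or_eq_top with e | e
  · left; rwa [Subgroup.map_eq_bot_iff, QuotientGroup.ker_mk'] at e
  · right
    have := congrArg (comap (QuotientGroup.mk' (center G))) e
    rwa [comap_map_eq, QuotientGroup.ker_mk', comap_top] at this

theorem SZ.z_ncomm (hs : SZ G) : ¬ (⊤ : Subgroup G) ≤ 𝐂((⊤ : Subgroup G)) := fun e => by
  obtain ⟨a, b, h⟩ := hs.2
  obtain ⟨a, rfl⟩ := QuotientGroup.mk_surjective a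
  obtain ⟨b, rfl⟩ := QuotientGroup.mk_surjective b
  exact h (by rw [← QuotientGroup.mk_mul, ← QuotientGroup.mk_mul, mem_cent_iff.1 (e (mem_top b)) a trivial])

/-- normalisers of non-central abelian subgroups are proper -/
theorem SZ.z_norm_ne (hs : SZ G) (h1 : T ≤ 𝐂(T)) (h2 : ¬ T ≤ center G) : 𝐍(T) ≠ ⊤ := fun e => by
  haveI : T.Normal := nrm_top_iff.1 ⟨le_top, e.ge⟩
  have h3 : center G ≤ 𝐂(T ⊔ center G) := by rw [← r_ctr]; exact cent_anti le_top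
  refine hs.z_ncomm ?_
  rw [← (hs.z_nrm T).resolve_left h2]
  exact sup_le (by rw [cent_sup]; exact le_inf h1 (cent_symm (h3.trans (cent_anti le_sup_left)))) h3

theorem z_aux (hP : PCA G) (hT : Syl 2 T (𝐂[z] ⊓ 𝐂[u])) (hu : u ∈ T) (hz : z ∈ T) (h1 : T ≤ 𝐂(T))
    (h2 : 𝐍(T) ≠ ⊤) (hQ : IsPGroup 2 Q) (h3 : Q ≤ 𝐂[z]) (h4 : ¬ Q ≤ 𝐂(Q)) :
    z ∈ 𝐂(𝐍(T)) ∧ u ∉ 𝐂(𝐍(T)) := by
  obtain ⟨R, hR, h5⟩ := exists_syl_ge hT.isPGroup (hT.le.trans inf_le_left)
  obtain ⟨g, -, hg⟩ := hR.exists_le_cj hQ h3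
  have h6 : T < R := h5.lt_of_ne fun e => h4 (comm_iff_le_cent.1 (isMulCommutative_of_le hg
    (comm_cj g (e ▸ comm_iff_le_cent.2 h1))))
  have h7 := lt_inf_normalizer (isNilpotent_of_isPGroup hR.isPGroup) h6
  have h8 : u ∉ 𝐂(R ⊓ 𝐍(T)) := fun e => h7.ne' (hT.eq_of_le (isPGroup_of_le inf_le_left hR.isPGroup)
    h7.le (le_inf (inf_le_left.trans hR.le) (le_cent1_iff.2 e)))
  exact ⟨(hP _ h2).r_cent (le_normalizer hz) inf_le_right (le_cent1_iff.1 (inf_le_left.trans hR.le))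
    fun e => h8 (e (h7.le hu)), fun e => h8 (cent_anti inf_le_right e)⟩

theorem z_iso (hP : PCA G) (hs : SZ G) (hQ : IsPGroup 2 Q) (h4 : ¬ Q ≤ 𝐂(Q)) (hz : z ∈ Q)
    (h3 : Q ≤ 𝐂[z]) (h1 : z ∉ center G) {g : G} (hg : g * z * g⁻¹ ∈ Q) : g * z * g⁻¹ = z := by
  have a1 : 𝐂[z] ≠ ⊤ := fun e => h1 (by rw [← r_ctr]; exact le_cent1_iff.1 e.ge)
  have a2 : 𝐍(𝐂[z]) ≤ 𝐂[z] := by
    refine le_cent1_iff.2 ((hP _ fun e => ?_).r_cent (le_normalizer (mem_cent1_self z))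
      (h3.trans le_normalizer) (le_cent1_iff.1 h3) h4)
    haveI : (𝐂[z] : Subgroup G).Normal := nrm_top_iff.1 ⟨le_top, e.ge⟩
    rcases hs.z_nrm 𝐂[z] with k | k
    · exact h1 (k (mem_cent1_self z))
    · rw [sup_eq_left.2 (by rw [← r_ctr]; exact cent_le_cent1 trivial)] at k
      exact a1 k
  by_cases a3 : g * z * g⁻¹ ∈ 𝐂(𝐂[z])
  · have := eq_of_le_of_card_le (le_cent1_iff.2 a3) (by rw [← cj_cent1, card_cj])
    rw [← cj_cent1, eq_comm, cj_eq_iff_mem_normalizer] at this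
    rw [mem_cent1_iff.1 (a2 this), mul_inv_cancel_right]
  exfalso
  have a4 := (hP _ a1).r_ab (h3 hg) a3
  obtain ⟨T, hT, a5⟩ := exists_syl_ge (H := 𝐂[z] ⊓ 𝐂[g * z * g⁻¹])
    (isPGroup_of_le (inf_le_left : Q ⊓ 𝐂[g * z * g⁻¹] ≤ Q) hQ) (inf_le_inf_right _ h3)
  have a6 : z ∈ T := a5 ⟨hz, mem_cent1_comm.1 (h3 hg)⟩
  have a7 : g * z * g⁻¹ ∈ T := a5 ⟨hg, mem_cent1_self _⟩
  have a8 : T ≤ 𝐂(T) := hT.le.trans (a4.trans (cent_anti hT.le))
  have a9 := hs.z_norm_ne a8 fun e => h1 (e a6)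
  refine (z_aux hP (inf_comm 𝐂[z] _ ▸ hT) a6 a7 a8 a9 (isPGroup_cj g hQ)
    (by rw [← cj_cent1]; exact cj_mono g h3) fun e => h4 ?_).2 (z_aux hP hT a7 a6 a8 a9 hQ h3 h4).1
  rwa [← cj_centralizer, cj_le_cj_iff] at e

theorem Z1 (hP : PCA G) (hs : SZ G) (P : Sylow 2 G)
    (hna : ∃ a ∈ (P : Subgroup G), ∃ b ∈ (P : Subgroup G), a * b ≠ b * a) {z : G}
    (hz : z ∈ (P : Subgroup G)) (h : ∀ a ∈ (P : Subgroup G), a * z = z * a) : z ∈ center G := by
  by_contra h0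
  haveI := hs.1
  have h4 : ¬ (P : Subgroup G) ≤ 𝐂((P : Subgroup G)) := fun e => by
    obtain ⟨a, ha, b, hb, k⟩ := hna
    exact k (mem_cent_iff.1 (e hb) a ha)
  have hS := H1.sylow_isSylowIn_top P
  let π := QuotientGroup.mk' (center G)
  have hπ : ∀ x, π x = 1 ↔ x ∈ center G := fun x => QuotientGroup.eq_one_iff x
  let Pb : Sylow 2 (G ⧸ center G) := P.mapSurjective (QuotientGroup.mk'_surjective _)
  obtain ⟨w, hw, w2⟩ := exists_orderOf_eq_prime Nat.prime_two (dvd_card_of_isPGroup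
    (isPGroup_of_le (zpowers_le.2 (mem_map_of_mem π hz)) Pb.isPGroup')
    (by rw [Ne, zpowers_eq_bot, hπ]; exact h0))
  rw [← MonoidHom.map_zpowers] at hw
  obtain ⟨y, hy, rfl⟩ := hw
  have y1 : y ∈ (P : Subgroup G) := zpowers_le.2 hz hy
  have y2 : (P : Subgroup G) ≤ 𝐂[y] :=
    fun a ha => cent1_le_cent1_of_mem hy (mem_cent1_iff.2 (h a ha))
  have y3 : y ∉ center G := fun e => by rw [(hπ y).2 e, orderOf_one] at w2; omega
  have c1 : center G ≤ 𝐍((P : Subgroup G)) := by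
    rw [← r_ctr]; exact (cent_anti le_top).trans (cent_le_norm _)
  obtain ⟨N, hN, h1, h2⟩ := H3.zstar_sylow Pb w2 fun g hg => by
    obtain ⟨g, rfl⟩ := QuotientGroup.mk'_surjective _ g
    rw [← map_mul, ← map_inv, ← map_mul] at hg ⊢
    refine congrArg π (z_iso hP hs P.isPGroup' h4 y1 y2 y3 (zpowers_le.1 (hS.le_of_le_normalizer
      ?_ le_top (zpowers_le.2 (sup_le le_normalizer c1 ?_)))))
    · exact isPGroup_of_le (zpowers_le.2 (conj_mem_cj y1)) (isPGroup_cj g P.isPGroup')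
    · have : g * y * g⁻¹ ∈ comap π (map π P) := hg
      rwa [comap_map_eq, QuotientGroup.ker_mk'] at this
  rcases hN.eq_bot_or_eq_top with rfl | rfl
  · obtain ⟨a, b, k⟩ := hs.2
    rcases (inferInstance : (center (G ⧸ center G)).Normal).eq_bot_or_eq_top with e | e
    · have : π y ∈ center (G ⧸ center G) := mem_center_iff.2 fun g => by
        have := mem_bot.1 (h2 g)
        rw [mul_inv_eq_one, mul_inv_eq_iff_eq_mul] at this
        exact this.symm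
      rw [e, mem_bot, hπ] at this
      exact y3 this
    · exact k (mem_center_iff.1 (e.ge (mem_top b)) a)
  · exact (Nat.not_even_iff_odd.2 h1) (even_iff_two_dvd.2 (w2 ▸ orderOf_dvd_card' (mem_top _)))

end Cfsg.Agent.MC
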