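import Cfsg.Agent.MC.QO1
import Cfsg.Agent.MC.BG
import Cfsg.Agent.BW.Main
import Cfsg.Agent.MC.Z1

/-! Piece QO: the centre has odd order. -/

set_option autoImplicit false
set_option linter.unusedSectionVars false

namespace Cfsg.Agent.MC

open Subgroup Cfsg.Agent.FT

universe u
variable {G : Type u} [Group G] [Finite G]

local notation "π" => QuotientGroup.mk' (center G)

theorem qo_bw {E : Subgroup G} {t s : G} (h : BGH E ⊥ t s)
    (ti : ∀ e ∈ E, e ≠ 1 → ∀ g : G, g * e = e * g →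
      ∃ u, u * e = e * u ∧ u * t = t * u ∧ g * t * g⁻¹ = u) : L2o G := by
  have tt : t * t = 1 := by rw [← sq, ← h.t2, pow_orderOf_eq_one]
  have ss : s * s = 1 := by rw [← sq, ← h.s2, pow_orderOf_eq_one]
  have oE : ∀ e ∈ E, Odd (orderOf e) := fun e he => h.oddE.of_dvd_nat (orderOf_dvd_card' he)
  have tc : zpowers t ≤ 𝐂(E) := (zpowers_le (G := G)).2 (mem_cent_iff.2 fun e he => (h.tE e he).symm)
  have mK : ∀ x, x ∈ E ⊔ zpowers t ↔ x ∈ E ∨ ∃ e ∈ E, x = e * t := fun x => by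
    refine ⟨fun hx => ?_, ?_⟩
    · obtain ⟨e, he, y, hy, rfl⟩ := (mem_sup_of_le_normalizer' (tc.trans (cent_le_norm E))).1 hx
      rcases H6.mem_zpowers_of_mul_self tt hy with rfl | rfl
      · exact .inl (by simpa using he)
      · exact .inr ⟨e, he, rfl⟩
    · rintro (hx | ⟨e, he, rfl⟩)
      exacts [mem_sup_left hx, mul_mem_sup he (mem_zpowers t)]
  have sq1 : ∀ e ∈ E, e * t * (e * t) = e * e := fun e he => by
    rw [mul_assoc, ← mul_assoc t, h.tE e he, mul_assoc, tt, mul_one]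
  have uq : ∀ u ∈ E ⊔ zpowers t, orderOf u = 2 → u = t := fun u hu o => by
    have uu : u * u = 1 := by rw [← sq, ← o, pow_orderOf_eq_one]
    rcases (mK u).1 hu with k | ⟨e, he, rfl⟩
    · rw [qo_sq (oE u k) uu, orderOf_one] at o
      omega
    · rw [sq1 e he] at uu
      rw [qo_sq (oE e he) uu, one_mul]
  have st : s * t * s⁻¹ = t := mul_inv_eq_iff_eq_mul.2 h.ts.symm
  have ti' : t⁻¹ = t := inv_eq_of_mul_eq_one_right tt
  have iv : ∀ x ∈ E ⊔ zpowers t, s * x * s⁻¹ = x⁻¹ := fun x hx => by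
    rcases (mK x).1 hx with k | ⟨e, he, rfl⟩
    · exact h.sE x k
    · rw [← conj_mul, h.sE e he, st, mul_inv_rev, ti', h.tE _ (inv_mem he)]
  have cK : E ⊔ zpowers t ≤ 𝐂((E ⊔ zpowers t : Subgroup G)) := by
    rw [cent_sup]
    exact le_inf (sup_le (fun x hx => mem_cent_iff.2 fun y hy => h.commE y hy x hx) tc)
      (sup_le (cent_symm tc) (comm_iff_le_cent.1 inferInstance))
  have ct : ∀ x ∈ E ⊔ zpowers t, x * t = t * x := fun x hx =>
    mem_cent_iff.1 (cK (mem_sup_right (mem_zpowers t))) x hx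
  have ce : ∀ g : G, g * t = t * g ↔ g ∈ E ⊔ zpowers t ∨ g * s ∈ E ⊔ zpowers t := fun g => by
    refine ⟨fun hg => ?_, ?_⟩
    · obtain ⟨e, he, d, hd, k⟩ := h.cent g hg
      rw [mem_bot.1 hd, mul_one] at k
      rcases k with rfl | rfl | rfl | rfl
      · exact .inl (mem_sup_left he)
      · exact .inl (mul_mem_sup he (mem_zpowers t))
      · exact .inr (by rw [mul_assoc, ss, mul_one]; exact mem_sup_left he)
      · exact .inr (by rw [mul_assoc, ss, mul_one]; exact mul_mem_sup he (mem_zpowers t))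
    · rintro (k | k)
      · exact ct g k
      · have := ct _ k
        rw [mul_assoc, ← h.ts, ← mul_assoc, ← mul_assoc] at this
        exact mul_right_cancel this
  have c4 : 4 ≤ ♯(E ⊔ zpowers t : Subgroup G) := by
    rw [card_sup_of_inf_eq_bot (tc.trans (cent_le_norm E)) (inf_eq_bot_of_coprime' (by
      rw [Nat.card_zpowers, h.t2]; exact Nat.coprime_two_right.2 h.oddE)), Nat.card_zpowers, h.t2]
    have := (one_lt_card_iff_ne_bot E).2 h.neE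
    omega
  obtain ⟨F, _, _, hF, e⟩ := BW.main (K := E ⊔ zpowers t) (t := t) (s := s)
    ⟨h.t2, h.conj, mem_sup_right (mem_zpowers t), fun x hx y hy => mem_cent_iff.1 (cK hy) x hx, uq,
      c4, ss, fun k => h.ne (uq s k h.s2).symm, iv, ce, fun x hx x1 g hg => by
      rcases (mK x).1 hx with k | ⟨e, he, rfl⟩
      · obtain ⟨u, u1, u2, u3⟩ := ti x k x1 g hg
        rcases (ce u).1 u2 with k2 | k2
        · rw [uq u k2 (u3 ▸ (qo_oc g t).trans h.t2)] at u3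
          exact mul_inv_eq_iff_eq_mul.1 u3
        · refine absurd (qo_sq (oE x k) ?_) x1
          have e1 := mem_cent_iff.1 (cK hx) _ k2
          have e2 := mul_inv_eq_iff_eq_mul.1 (h.sE x k)
          rw [mul_assoc, e2, ← mul_assoc, ← mul_assoc, ← u1, mul_left_inj, mul_right_inj] at e1
          exact mul_eq_one_iff_eq_inv.2 e1.symm
      · obtain ⟨j, hj⟩ := oE e he
        have e1 : (e * t) ^ orderOf e = t := by
          rw [Commute.mul_pow (h.tE e he).symm, pow_orderOf_eq_one, one_mul, hj, pow_succ, pow_mul,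
            sq, tt, one_pow, one_mul]
        rw [← e1]
        exact (Commute.pow_right hg _).eq⟩
  exact ⟨F, _, _, Nat.odd_iff.2 (by omega), by omega, e⟩

theorem qo_v4 (hP : PCA G) (hs : SZ G) (ho : Odd ♯(center G)) {S : Subgroup G} (hS : Syl 2 S ⊤)
    (cS : S ≤ 𝐂(S)) {t s ρ : G} (t2 : orderOf t = 2) (tS : t ∈ S) (hρ : ρ ∈ 𝐍(S))
    (es : ρ * t * ρ⁻¹ = s) (ts : t ≠ s) (four : ∀ v ∈ S, v = 1 ∨ v = t ∨ v = s ∨ v = t * s)
    (pn : PNil 2 𝐂[t]) (na : ¬ 𝐂[t] ≤ 𝐂(𝐂[t])) (h8 : ¬ 8 ∣ Nat.card (G ⧸ center G))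
    (cj2 : ∀ u : G ⧸ center G, orderOf u = 2 → IsConj (π t) u) : L2o (G ⧸ center G) := by
  have := hs.1
  have s2 : orderOf s = 2 := es ▸ (qo_oc ρ t).trans t2
  have sS : s ∈ S := es ▸ conj_mem_of_mem_normalizer hρ tS
  have co : ∀ {x : G}, orderOf x = 2 → Nat.Coprime (orderOf x) ♯(center G) := fun h =>
    h ▸ Nat.coprime_two_left.2 ho
  have tZ : t ∉ center G := fun k => ho.not_two_dvd_nat (t2 ▸ orderOf_dvd_card' k)
  have ρt : ¬ ρ * t = t * ρ := fun k => ts (es ▸ (mul_inv_eq_iff_eq_mul.2 k).symm)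
  have SH : S ≤ 𝐂[t] := le_cent1_iff.2 (cS tS)
  have sH := SH sS
  have hK := core_nrm {2}ᶜ 𝐂[t]
  have oK := core_piG {2}ᶜ 𝐂[t]
  have mK : ∀ x ∈ 𝐂[t], Odd (orderOf x) → x ∈ core {2}ᶜ 𝐂[t] := fun x hx o =>
    Hall.mem_of_nrm pn hK.norm hx ((piNum_compl_singleton Nat.prime_two).2 o.not_two_dvd_nat)
  have dec : ∀ g ∈ 𝐂[t], ∃ k ∈ core {2}ᶜ 𝐂[t], ∃ v ∈ S, k * v = g := fun g hg => by
    rw [← Hall.sup_eq pn (N := S) (by rw [compl_compl]; exact Syl.hall (hS.of_le SH le_top))] at hg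
    exact (mem_sup_of_le_normalizer' (SH.trans hK.norm)).1 hg
  generalize core {2}ᶜ 𝐂[t] = K at hK oK mK dec
  have cts : ∀ x, x ∈ 𝐂[t] → x ∈ 𝐂[s] → x ∈ 𝐂(S) := fun x a b => mem_cent_iff.2 fun v hv => by
    rw [mem_cent1_iff] at a b
    rcases four v hv with rfl | rfl | rfl | rfl
    · simp
    · exact a.symm
    · exact b.symm
    · rw [mul_assoc, ← b, ← mul_assoc, ← a, mul_assoc]
  have mD : ∀ x, x ∈ K ⊓ 𝐂[s] ↔ x ∈ 𝐂(S) ∧ Odd (orderOf x) := fun x =>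
    ⟨fun h => ⟨cts x (hK.le h.1) h.2, qo_odd oK h.1⟩, fun h =>
      ⟨mK x (mem_cent1_iff.2 (mem_cent_iff.1 h.1 t tS).symm) h.2,
        mem_cent1_iff.2 (mem_cent_iff.1 h.1 s sS).symm⟩⟩
  have nD : 𝐍(S) ≤ 𝐍((K ⊓ 𝐂[s] : Subgroup G)) := fun g hg => mem_normalizer_of_conj_mem
    fun x hx => (mD _).2 ⟨conj_mem_of_mem_normalizer (H1.normalizer_le_normalizer_centralizer S hg)
      ((mD x).1 hx).1, (qo_oc g x).symm ▸ ((mD x).1 hx).2⟩
  have kp : ∀ X : Subgroup G, ¬ X ≤ center G → X ≤ 𝐂(X) → 𝐍(S) ≤ 𝐍(X) →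
      𝐍(X) ⊓ 𝐂[t] ≤ 𝐂((𝐍(X) ⊓ 𝐂[t] : Subgroup G)) := fun X a b c =>
    (hP _ (qo_prop hs a b)).r_ab (c (le_normalizer tS)) fun k => ρt (mem_cent_iff.1 k ρ (c hρ))
  have cW := kp S (fun k => tZ (k tS)) cS le_rfl
  have DW : K ⊓ 𝐂[s] ≤ 𝐍(S) ⊓ 𝐂[t] := fun x hx => ⟨cent_le_norm S ((mD x).1 hx).1, hK.le hx.1⟩
  have cD : K ⊓ 𝐂[s] ≤ 𝐂((K ⊓ 𝐂[s] : Subgroup G)) := DW.trans (cW.trans (cent_anti DW))
  have ZK : center G ≤ K := fun z hz => mK z (mem_cent1_iff.2 (mem_center_iff.1 hz t).symm)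
    (ho.of_dvd_nat (orderOf_dvd_card' hz))
  have ZC : ∀ X : Subgroup G, center G ≤ 𝐂(X) := fun X z hz =>
    mem_cent_iff.2 fun a _ => mem_center_iff.1 hz a
  have ZC1 : ∀ x : G, center G ≤ 𝐂[x] := fun x z hz => mem_cent1_iff.2 (mem_center_iff.1 hz x).symm
  have ZD : center G ≤ K ⊓ 𝐂[s] := le_inf ZK (ZC1 s)
  have ZZ : center G ≤ K ⊓ 𝐂(𝐂[t]) := le_inf ZK (ZC _)
  have pc : ∀ x : G, x ∉ center G → 𝐂[x] ≠ ⊤ := fun x hx e =>
    hx (mem_center_iff.2 fun g => mem_cent1_iff.1 (e ▸ mem_top g))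
  have hz : ∀ x ∈ 𝐂(𝐂[t]), x ∉ center G → 𝐂[x] ≤ 𝐂[t] := fun x hx xZ =>
    le_cent1_iff.2 ((hP _ (pc x xZ)).r_cent (le_cent1_iff.2 hx (mem_cent1_self t))
      (le_cent1_iff.2 hx) (le_cent1_iff.1 le_rfl) na)
  have Z01 : K ⊓ 𝐂(𝐂[t]) ≤ K ⊓ 𝐂[s] := inf_le_inf_left _ fun x hx =>
    mem_cent1_iff.2 (mem_cent_iff.1 hx s sH).symm
  have nK : ¬ K ≤ 𝐂[s] := fun k => na (by
    have : 𝐂[t] ≤ 𝐍(S) ⊓ 𝐂[t] := fun g hg => by
      obtain ⟨x, hx, v, hv, rfl⟩ := dec g hg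
      exact mul_mem (DW ⟨hx, k hx⟩) ⟨le_normalizer hv, SH hv⟩
    exact this.trans (cW.trans (cent_anti this)))
  have f2 : ∀ z ∈ K ⊓ 𝐂(𝐂[t]), ρ * z * ρ⁻¹ ∈ K ⊓ 𝐂(𝐂[t]) → z ∈ center G := fun z a b => by
    by_contra zZ
    have k1 := hz z a.2 zZ
    refine nK fun x hx => ?_
    have : ρ⁻¹ * x * ρ ∈ 𝐂[z] := mem_cent1_iff.2 (by
      have := mem_cent_iff.1 b.2 x (hK.le hx)
      calc ρ⁻¹ * x * ρ * z = ρ⁻¹ * (x * (ρ * z * ρ⁻¹)) * ρ := by group
        _ = _ := by rw [this]; group)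
    have := mem_cent1_iff.1 (k1 this)
    rw [mem_cent1_iff, ← es]
    calc x * (ρ * t * ρ⁻¹) = ρ * (ρ⁻¹ * x * ρ * t) * ρ⁻¹ := by group
      _ = _ := by rw [this]; group
  have fB : ∀ y ∈ K ⊓ 𝐂[s], y ∉ K ⊓ 𝐂(𝐂[t]) → K ⊓ 𝐂[y] ≤ K ⊓ 𝐂[s] := fun y a b x hx =>
    ⟨hx.1, mem_cent1_iff.2 ((hP _ (pc t tZ)).r_comm (hK.le a.1) (fun k => b ⟨a.1, k⟩) (hK.le hx.1) sH
      (mem_cent1_iff.1 hx.2) (mem_cent1_iff.1 a.2).symm)⟩
  have f3 : ∀ x ∈ K ⊓ 𝐂[s], x ∉ K ⊓ 𝐂(𝐂[t]) → ∀ k ∈ K, k * x * k⁻¹ ∈ K ⊓ 𝐂[s] →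
      k ∈ K ⊓ 𝐂[s] := fun x a b k hk e => by
    have k1 := kp _ (fun h => b (ZZ (h a))) cD nD
    have k2 : k ∈ 𝐍((K ⊓ 𝐂[s] : Subgroup G)) := mem_normalizer_of_conj_mem fun d hd =>
      fB _ e (fun h => b (by
        have := mem_cent_iff.1 h.2 k (hK.le hk)
        rwa [show x = k * x * k⁻¹ from mul_left_cancel (a := k) (by rw [this]; group)]))
        ⟨K.mul_mem (K.mul_mem hk hd.1) (K.inv_mem hk), mem_cent1_iff.2 (by
          rw [conj_mul, conj_mul, mem_cent_iff.1 (cD a) d hd])⟩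
    exact ⟨hk, mem_cent1_iff.2 (mem_cent_iff.1 (k1 ⟨nD (le_normalizer sS), sH⟩) k ⟨k2, hK.le hk⟩)⟩
  have sb := qo_ord ho s2
  have tb := qo_ord ho t2
  obtain ⟨E, EK, e1, e2, e3, e4, e5, e6⟩ := qo_fr (K := K.map π) (D := (K ⊓ 𝐂[s]).map π)
    (Z := (K ⊓ 𝐂(𝐂[t])).map π) (s := π s) (ρ := π ρ) (oK.map π) sb
    (le_normalizer_map π ⟨s, hK.norm sH, rfl⟩)
    (fun x => ⟨by
      rintro ⟨y, hy, rfl⟩
      exact ⟨⟨y, hy.1, rfl⟩, by rw [← map_mul, ← map_mul, mem_cent1_iff.1 hy.2]⟩, by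
      rintro ⟨⟨y, hy, rfl⟩, e⟩
      exact ⟨y, ⟨hy, mem_cent1_iff.2 (qo_comm e (co s2))⟩, rfl⟩⟩)
    (by
      rintro _ ⟨x, hx, rfl⟩
      refine mem_cent_iff.2 ?_
      rintro _ ⟨y, hy, rfl⟩
      rw [← map_mul, ← map_mul, mem_cent_iff.1 (cD hx) y hy])
    (by
      rintro _ ⟨x, hx, rfl⟩
      exact ⟨_, conj_mem_of_mem_normalizer (nD hρ) (Z01 hx), by simp⟩)
    (by
      rintro _ ⟨x, hx, rfl⟩ e
      rw [← map_inv, ← map_mul, ← map_mul, qo_mem ZZ] at e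
      exact qo_one.2 (f2 x hx e))
    (by
      rintro _ ⟨x, hx, rfl⟩
      refine mem_cent_iff.2 ?_
      rintro _ ⟨y, hy, rfl⟩
      rw [← map_mul, ← map_mul, mem_cent_iff.1 hx.2 y (hK.le hy)])
    (by
      rintro _ ⟨x, hx, rfl⟩ b _ ⟨k, hk, rfl⟩ e
      rw [← map_inv, ← map_mul, ← map_mul, qo_mem ZD] at e
      exact ⟨k, f3 x hx (fun h => b ⟨x, h, rfl⟩) k hk e, rfl⟩)
  have tK : ∀ x ∈ K.map π, π t * x = x * π t := by
    rintro _ ⟨x, hx, rfl⟩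
    rw [← map_mul, ← map_mul, mem_cent1_iff.1 (hK.le hx)]
  have oKb : ∀ X ≤ K.map π, Odd ♯X := fun X hX => Nat.odd_iff.2 (by
    have k : PiG {2}ᶜ (K.map π) := oK.map π
    have := piG_compl_singleton.1 (k.of_le hX)
    omega)
  have DK : (K ⊓ 𝐂[s]).map π ≤ K.map π := map_mono inf_le_left
  have bg : BGH E ((K ⊓ 𝐂[s]).map π) (π t) (π s) := by
    refine ⟨tb, sb, by rw [← map_mul, ← map_mul, mem_cent1_iff.1 sH],
      fun e => ts (qo_eq e (t2 ▸ pow_orderOf_eq_one t) (s2 ▸ pow_orderOf_eq_one s)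
        (Nat.coprime_two_left.2 ho)), h8, cj2, oKb E EK, oKb _ DK, fun e => nK fun x hx => ?_, e1,
      ?_, e2, e3, fun e he => tK e (EK he), ?_, fun d hd => tK d (DK hd), e4, fun g hg => ?_, e6⟩
    · obtain ⟨a, ha, d, hd, k⟩ := e5 _ ⟨x, hx, rfl⟩
      rw [e, mem_bot] at ha
      rw [ha, one_mul] at k
      exact ((qo_mem ZD).1 (k ▸ hd)).2
    · rintro _ ⟨x, hx, rfl⟩ _ ⟨y, hy, rfl⟩
      rw [← map_mul, ← map_mul, mem_cent_iff.1 (cD hy) x hx]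
    · rintro _ ⟨x, hx, rfl⟩
      rw [← map_mul, ← map_mul, mem_cent1_iff.1 hx.2]
    · obtain ⟨g, rfl⟩ := QuotientGroup.mk'_surjective _ g
      obtain ⟨k, hk, v, hv, rfl⟩ := dec g (mem_cent1_iff.2 (qo_comm hg (co t2)))
      obtain ⟨a, ha, d, hd, k⟩ := e5 _ ⟨k, hk, rfl⟩
      refine ⟨a, ha, d, hd, ?_⟩
      rw [map_mul, k]
      rcases four v hv with rfl | rfl | rfl | rfl <;> simp [mul_assoc]
  rw [BG bg] at bg
  refine qo_bw bg fun e he e0 g hg => ?_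
  obtain ⟨x, hx, rfl⟩ := EK he
  obtain ⟨g, rfl⟩ := QuotientGroup.mk'_surjective _ g
  have cX : zpowers x ⊔ center G ≤ 𝐂((zpowers x ⊔ center G : Subgroup G)) := by
    rw [cent_sup]
    exact le_inf (sup_le (comm_iff_le_cent.1 inferInstance) (ZC _))
      (cent_symm (ZC _))
  have nB : ∀ y : G, π y * π x * (π y)⁻¹ ∈ zpowers (π x) →
      y ∈ 𝐍((zpowers x ⊔ center G : Subgroup G)) := fun y hy => by
    refine mem_normalizer_of_cj_le ?_
    rw [cj_sup, H1.cj_eq_of_normal y (center G), cj_zpowers]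
    refine sup_le ((zpowers_le (G := G)).2 ((qo_mem le_sup_right).1 ?_)) le_sup_right
    rw [map_mul, map_mul, map_inv]
    exact map_mono le_sup_left (MonoidHom.map_zpowers π x ▸ hy)
  have sx : ¬ s * x = x * s := fun k => e0 (qo_sq ((oKb E EK).of_dvd_nat (orderOf_dvd_card' he)) (by
    have := e3 _ he
    rw [← map_mul, k, map_mul, mul_inv_cancel_right] at this
    exact mul_eq_one_iff_eq_inv.2 this))
  have ca := hP _ (qo_prop hs (fun k => e0 (qo_one.2 (k (mem_sup_left (mem_zpowers x))))) cX)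
  have xt := mem_cent1_iff.1 (hK.le hx)
  have u1 : g * t * g⁻¹ * x = x * (g * t * g⁻¹) := by
    have hz : x⁻¹ * (g⁻¹ * x * g) ∈ center G := qo_one.1 (by
      rw [map_mul, map_mul, map_mul, mul_assoc (π g⁻¹), ← hg, map_inv, map_inv]; group)
    have : g⁻¹ * x * g * t = t * (g⁻¹ * x * g) := by
      rw [show g⁻¹ * x * g = x * (x⁻¹ * (g⁻¹ * x * g)) by group, mul_assoc,
        ← mem_center_iff.1 hz t, ← mul_assoc, xt, mul_assoc]
    calc g * t * g⁻¹ * x = g * (t * (g⁻¹ * x * g)) * g⁻¹ := by group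
      _ = _ := by rw [← this]; group
  have nc : ∀ y : G, y * x = x * y → y ∈ 𝐍((zpowers x ⊔ center G : Subgroup G)) := fun y hy =>
    nB y (by rw [← map_mul, hy, map_mul, mul_inv_cancel_right]; exact mem_zpowers _)
  have u2 := ca.r_comm (nc x rfl) (fun k => sx (mem_cent_iff.1 k s (nB s (by
    rw [e3 _ he]; exact inv_mem (mem_zpowers _))))) (nc _ u1) (nc t xt.symm) u1 xt.symm
  exact ⟨π (g * t * g⁻¹), by rw [← map_mul, ← map_mul, u1], by rw [← map_mul, ← map_mul, u2],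
    by simp⟩

theorem QO (hP : PCA G) (hs : SZ G) (ho : Odd (Nat.card (center G))) :
    L2e (G ⧸ center G) ∨ (L2o (G ⧸ center G) ∧ ¬ 8 ∣ Nat.card (G ⧸ center G)) := by
  have := hs.1
  have co : ∀ {x : G}, orderOf x = 2 → Nat.Coprime (orderOf x) ♯(center G) := fun h =>
    h ▸ Nat.coprime_two_left.2 ho
  have ab : ∀ S : Sylow 2 G, (S : Subgroup G) ≤ 𝐂((S : Subgroup G)) := fun S => by
    by_contra k
    have hna : ∃ a ∈ (S : Subgroup G), ∃ b ∈ (S : Subgroup G), a * b ≠ b * a := by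
      by_contra! k1
      exact k fun x hx => mem_cent_iff.2 fun a ha => k1 a ha x hx
    refine ctr_ne_bot (isNilpotent_of_isPGroup S.isPGroup') (fun e => k (e.le.trans bot_le))
      (eq_bot_iff.2 fun z hz => ?_)
    exact (inf_eq_bot_of_coprime' (coprime_of_isPGroup S.isPGroup'
      (piG_compl_singleton.2 ho.not_two_dvd_nat))).le
      ⟨hz.1, Z1 hP hs S hna hz.1 (mem_cent_iff.1 hz.2)⟩
  have eb : ∀ S : Sylow 2 G, ((S.mapSurjective (QuotientGroup.mk'_surjective (center G)) :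
      Sylow 2 _) : Subgroup (G ⧸ center G)) = (S : Subgroup G).map π := fun S => rfl
  have abb : ∀ S : Sylow 2 G, ∀ a ∈ (S : Subgroup G).map π, ∀ b ∈ (S : Subgroup G).map π,
      a * b = b * a := by
    rintro S _ ⟨a, ha, rfl⟩ _ ⟨b, hb, rfl⟩
    rw [← map_mul, ← map_mul, mem_cent_iff.1 (ab S hb) a ha]
  have cS : ∀ S : Sylow 2 G, Nat.Coprime ♯(S : Subgroup G) ♯(center G) := fun S =>
    coprime_of_isPGroup S.isPGroup' (piG_compl_singleton.2 ho.not_two_dvd_nat)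
  have mv : ∀ S : Sylow 2 G, ∀ t ∈ (S : Subgroup G), orderOf t = 2 →
      ∃ g ∈ 𝐍((S : Subgroup G)), t ≠ g * t * g⁻¹ := fun S t ht t2 => by
    obtain ⟨g, hg, e⟩ := qo_mv hs.2 (S.mapSurjective (QuotientGroup.mk'_surjective _)) (abb S)
      (v := π t) ⟨t, ht, rfl⟩ (fun e => by have := qo_ord ho t2; rw [e, orderOf_one] at this; omega)
    obtain ⟨g, rfl⟩ := QuotientGroup.mk'_surjective _ g
    refine ⟨g, mem_normalizer_of_conj_mem fun x hx => ?_, fun k => e (by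
      rw [← map_inv, ← map_mul, ← map_mul, ← k])⟩
    obtain ⟨w, hw, e1⟩ := conj_mem_of_mem_normalizer hg (x := π x) ⟨x, hx, rfl⟩
    rw [← map_inv, ← map_mul, ← map_mul] at e1
    rwa [← qo_eq e1 (pow_card_eq_one'' hw) (by
      rw [conj_pow, pow_card_eq_one'' hx]; simp) (cS S)]
  have pn : ∀ t : G, orderOf t = 2 → PNil 2 𝐂[t] := fun t t2 => by
    obtain ⟨S, hS⟩ := (IsPGroup.iff_card.2 ⟨1, by rw [Nat.card_zpowers, t2]; rfl⟩ :
      IsPGroup 2 (zpowers t)).exists_le_sylow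
    have ht := hS (mem_zpowers t)
    obtain ⟨g, hg, e⟩ := mv S t ht t2
    have SH : (S : Subgroup G) ≤ 𝐂[t] := le_cent1_iff.2 (ab S ht)
    have k := (hP _ (qo_prop hs (fun k => ho.not_two_dvd_nat (t2 ▸ orderOf_dvd_card' (k ht)))
      (ab S))).r_ab (le_normalizer ht) fun k => e (mul_inv_eq_iff_eq_mul.2 (mem_cent_iff.1 k g hg)).symm
    refine Burnside_normal_complement ((H1.sylow_isSylowIn_top S).of_le SH le_top) ?_
    rw [inf_comm]
    exact k.trans (cent_anti (le_inf le_normalizer SH))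
  let S : Sylow 2 G := default
  rcases AB hs.2 (S.mapSurjective (QuotientGroup.mk'_surjective _)) (abb S) (fun u a b hu ha hb oa ob => by
    obtain ⟨t, t2, rfl⟩ := qo_lift ho hu
    obtain ⟨a, rfl⟩ := QuotientGroup.mk'_surjective _ a
    obtain ⟨b, rfl⟩ := QuotientGroup.mk'_surjective _ b
    have k : ∀ x : G, π x * π t = π t * π x → Odd (orderOf (π x)) → x ∈ core {2}ᶜ 𝐂[t] :=
      fun x e o => Hall.mem_of_nrm (pn t t2) (core_nrm _ _).norm (mem_cent1_iff.2 (qo_comm e (co t2)))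
        ((piNum_compl_singleton Nat.prime_two).2 (qo_oddl ho o).not_two_dvd_nat)
    rw [← map_mul]
    exact (qo_odd (core_piG _ _) (mul_mem (k a ha oa) (k b hb ob))).of_dvd_nat
      (orderOf_map_dvd _ _)) with h | ⟨h4, ex, cj2⟩
  · exact .inl h
  have h8 : ¬ 8 ∣ Nat.card (G ⧸ center G) := fun k => by
    have e := (S.mapSurjective (QuotientGroup.mk'_surjective (center G))).not_dvd_index
    rw [← card_mul_index (S.mapSurjective (QuotientGroup.mk'_surjective (center G)) :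
      Subgroup (G ⧸ center G)), h4] at k
    omega
  by_cases hc : ∀ t ∈ (S : Subgroup G), orderOf t = 2 → 𝐂[t] ≤ 𝐂(𝐂[t])
  · refine .inl (BA hs.2 (S.mapSurjective (QuotientGroup.mk'_surjective _)) (fun e => ?_) le_rfl
      ?_ (.inl (abb S)))
    · rcases (normalizer_eq_top_iff.1 e).eq_bot_or_eq_top with k | k
      · rw [k, card_bot] at h4
        omega
      · obtain ⟨a, b, hab⟩ := hs.2
        exact hab (abb S a (k.ge (mem_top a)) b (k.ge (mem_top b)))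
    · rintro _ ⟨t, ht, rfl⟩ o g hg
      obtain ⟨g, rfl⟩ := QuotientGroup.mk'_surjective _ g
      obtain ⟨t', t2, e⟩ := qo_lift ho o
      obtain ⟨n, hn⟩ := S.isPGroup' ⟨t, ht⟩
      obtain rfl := qo_eq e (n := 2 ^ (n + 1)) (by rw [pow_succ', pow_mul, ← t2, pow_orderOf_eq_one,
        one_pow]) (by rw [pow_succ, pow_mul, show t ^ 2 ^ n = 1 from congrArg Subtype.val hn, one_pow])
        ((Nat.coprime_two_left.2 ho).pow_left _)
      refine cent_le_norm _ (mem_cent_iff.2 ?_)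
      rintro _ ⟨y, hy, rfl⟩
      rw [← map_mul, ← map_mul, mem_cent_iff.1 (hc _ ht t2 (mem_cent1_iff.2
        (qo_comm (mem_cent1_iff.1 hg) (co t2)))) y (le_cent1_iff.2 (ab S ht) hy)]
  push Not at hc
  obtain ⟨t, ht, t2, na⟩ := hc
  obtain ⟨ρ, hρ, e⟩ := mv S t ht t2
  have sS := conj_mem_of_mem_normalizer hρ ht
  have inj : ∀ a ∈ (S : Subgroup G), ∀ b ∈ (S : Subgroup G), π a = π b → a = b := fun a ha b hb e =>
    qo_eq e (pow_card_eq_one'' ha) (pow_card_eq_one'' hb) (cS S)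
  have t1 : t ≠ 1 := by
    rintro rfl
    simp at t2
  refine .inr ⟨qo_v4 hP hs ho (H1.sylow_isSylowIn_top S) (ab S) t2 ht hρ rfl e (fun v hv => ?_)
    (pn t t2) na h8 fun u hu => cj2 _ _ (qo_ord ho t2) hu, h8⟩
  rcases qo_four h4 ex (t := π t) (u := π (ρ * t * ρ⁻¹)) ⟨t, ht, rfl⟩ ⟨_, sS, rfl⟩
    (fun k => t1 (inj t ht 1 (one_mem _) (by rw [k, map_one])))
    (fun k => qo_cn ρ t1 (inj _ sS 1 (one_mem _) (by rw [k, map_one])))
    (fun k => e (inj _ ht _ sS k)) (π v) ⟨v, hv, rfl⟩ with k | k | k | k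
  · exact .inl (inj v hv 1 (one_mem _) (by rw [k, map_one]))
  · exact .inr (.inl (inj v hv t ht k))
  · exact .inr (.inr (.inl (inj v hv _ sS k)))
  · exact .inr (.inr (.inr (inj v hv _ (mul_mem ht sS) (k.trans (map_mul _ _ _).symm))))

end Cfsg.Agent.MC
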