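import Cfsg.Agent.MC.RA

/-! Minimal non-CA groups, piece R: a normal quasisimple subgroup. -/

set_option autoImplicit false
set_option linter.unusedSectionVars false

namespace Cfsg.Agent.MC

open Subgroup Cfsg.Agent.FT
open scoped commutatorElement

universe u
variable {G : Type u} [Group G] [Finite G] {L N : Subgroup G}

theorem rb_aux (hP : PCA G) (hs : ¬ Group.IsSolvable G) (hL : L ⊴ ⊤)
    (hm : ∀ X, X ⊴ ⊤ → X < L → X ≤ center G) (hN : N ⊴ L) (h1 : ¬ N ≤ center G) : L ≤ N := by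
  obtain ⟨B, ⟨b0, b1, b2⟩, b3⟩ := wellFounded_lt.has_min
    {B : Subgroup G | B ≤ N ∧ B ⊴ L ∧ ¬ B ≤ center G} ⟨N, le_rfl, hN, h1⟩
  have b4 : ∀ X, X ⊴ L → X < B → X ≤ center G := fun X x1 x2 =>
    by_contra fun e => b3 X ⟨x2.le.trans b0, x1, e⟩ x2
  have zc : ∀ X : Subgroup G, center G ≤ 𝐂(X) := fun X => by rw [← r_ctr]; exact cent_anti le_top
  have b5 : ⁅B, B⁆ = B := by
    by_contra e
    haveI := nrm_top_iff.1 hL.fit
    exact b2 ((le_fit b1 (isNilpotent_of_bar_central (zc B) (isNilpotent_of_comm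
      ((comm_bar_iff (r_nZ B)).2 (b4 _ (b1.commutator b1) ((der_le B).lt_of_ne e)))))).trans
      (RA hP hs _ (isSolvable_of_nil (fit_nil L))))
  refine le_trans (b1.le.eq_or_lt.resolve_right fun e => ?_).ge b0
  obtain ⟨g, hg⟩ : ∃ g, ¬ B ≤ cj g B := by
    by_contra! k
    exact b2 (hm _ ⟨le_top, fun g _ => cj_eq_iff_mem_normalizer.1
      (eq_of_le_of_card_le (k g) (card_cj _ _).le).symm⟩ e)
  have c1 : cj g B ⊴ L := by have := b1.cj g; rwa [hL.cj_eq trivial] at this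
  have c2 : B ⊓ cj g B ≤ center G :=
    b4 _ (b1.inf c1) (inf_le_left.lt_of_ne fun k => hg (inf_eq_left.1 k))
  have c3 : ⁅⁅B, cj g B⁆, B⁆ = ⊥ := le_cent_iff_commutator.1 (((le_inf
    (commutator_le_left' (c1.le.trans b1.norm)) (commutator_le_right' (b1.le.trans c1.norm))).trans
    c2).trans (zc B))
  have c4 : cj g B ≤ 𝐂(B) := by
    rw [le_cent_iff_commutator', ← b5, b5]
    conv_lhs => enter [1]; rw [← b5]
    exact commutator_commutator_eq_bot_of_rotate c3 (by rwa [commutator_comm (cj g B)])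
  have b6 : B ≠ ⊥ := fun k => b2 (k ▸ bot_le)
  obtain ⟨q, _, S, hS, h3⟩ := r_syl b6 b5
  have c5 : B ⊓ 𝐍(S) ⊔ cj g B ≠ ⊤ := fun k => h3 (by
    have := inf_sup_of_le (A := B ⊓ 𝐍(S)) (B := cj g B) (H := B) inf_le_left
      (.inl ((inf_le_left.trans b1.le).trans c1.norm))
    rw [k, inf_top_eq] at this
    exact this.le.trans (sup_le inf_le_right ((c2.trans (zc S)).trans (cent_le_norm S))))
  have c6 : cj g B ≤ 𝐂(cj g B) := fun x hx => cent_anti le_sup_right ((hP _ c5).r_cent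
    (mem_sup_right hx) le_sup_left (cent_anti inf_le_left (c4 hx)) (r_nab hS b5 h3))
  rw [← cj_centralizer, cj_le_cj_iff, le_cent_iff_commutator, b5] at c6
  exact b6 c6

theorem RB (hP : PCA G) (hs : ¬ Group.IsSolvable G) :
    ∃ L : Subgroup G, L.Normal ∧ ⁅L, L⁆ = L ∧ SZ L := by
  obtain ⟨L, ⟨h2, h3⟩, h4⟩ := wellFounded_lt.has_min
    {L : Subgroup G | L ⊴ ⊤ ∧ ¬ Group.IsSolvable L} ⟨⊤, Nrm.refl ⊤, r_ns hs⟩
  obtain ⟨L', l1, l2, l3, l4⟩ := r_res h2 h3
  obtain rfl : L' = L := l1.eq_or_lt.resolve_right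
    (h4 L' ⟨l2, fun k => (der_lt k l3).ne l4⟩)
  have hm : ∀ X, X ⊴ ⊤ → X < L' → X ≤ center G := fun X x1 x2 =>
    haveI := nrm_top_iff.1 x1
    RA hP hs X (by_contra fun e => h4 X ⟨x1, e⟩ x2)
  have hn : ∃ a b : L' ⧸ center L', a * b ≠ b * a := by
    by_contra! k
    have : L' ≤ 𝐂(L') := by
      conv_lhs => rw [← l4]
      refine commutator_le.2 fun x hx y hy => mem_cent_iff.2 fun z hz => ?_
      have e : ⁅(⟨x, hx⟩ : L'), ⟨y, hy⟩⁆ ∈ center L' := by
        rw [← QuotientGroup.eq_one_iff, ← QuotientGroup.mk'_apply, map_commutatorElement,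
          commutatorElement_eq_one_iff_mul_comm]
        exact k _ _
      exact congrArg Subtype.val (mem_center_iff.1 e ⟨z, hz⟩)
    exact l3 (by rw [← l4, le_cent_iff_commutator.1 this])
  refine ⟨L', nrm_top_iff.1 h2, l4, ?_, hn⟩
  haveI : Nontrivial (L' ⧸ center L') := let ⟨_, _, k⟩ := hn; ⟨_, _, k⟩
  refine ⟨fun N hN => or_iff_not_imp_left.2 fun e => eq_top_iff.2 fun y _ => ?_⟩
  obtain ⟨x, hx, x1⟩ := exists_ne_one_of_ne_bot e
  obtain ⟨x, rfl⟩ := QuotientGroup.mk_surjective x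
  obtain ⟨y, rfl⟩ := QuotientGroup.mk_surjective y
  obtain ⟨y', hy, e'⟩ := rb_aux hP hs h2 hm
    (nrm_map_subtype (N.comap (QuotientGroup.mk' (center L')))) (fun k => x1
      ((QuotientGroup.eq_one_iff x).2 (mem_center_iff.2 fun g =>
        Subtype.ext (mem_center_iff.1 (k (mem_map_of_mem _ hx)) g)))) y.2
  obtain rfl : y' = y := Subtype.ext e'
  exact hy

end Cfsg.Agent.MC
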