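import Cfsg.Agent.MC.PFb
import Cfsg.Agent.BS.Frob

/-! Automorphisms of prime order of `L₂(q)` whose fixed point group is a Frobenius group. -/

set_option autoImplicit false
set_option linter.unusedSectionVars false

namespace Cfsg.Agent.MC

open Subgroup Cfsg.Agent.FT

universe u

section gen
variable {G : Type u} [Group G] [Finite G] {Y K H : Subgroup G} {α : G ≃* G} {l : ℕ} {a s : G}

theorem c_cnt (hl : l.Prime) (hα : ∀ g, (α ^ l) g = g) (hY : ∀ g, g ∈ Y ↔ α g = g)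
    (hH : ∀ x ∈ H, α x ∈ H) : ♯H ≡ ♯(H ⊓ Y : Subgroup G) [MOD l] := by
  classical
  haveI := Fact.mk hl
  haveI := Fintype.ofFinite H
  let f : Function.End H := fun x => ⟨α x, hH x x.2⟩
  have h1 : ∀ (n : ℕ) (x : H), ((f ^ n) x).1 = (α ^ n) x := fun n => by
    induction n with
    | zero => exact fun _ => rfl
    | succ n ih => exact fun x => by rw [pow_succ, pow_succ]; exact ih (f x)
  have h2 := Equiv.Perm.card_fixedPoints_modEq (f := f) (p := l) (n := 1)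
    (funext fun x => Subtype.ext (by rw [pow_one, h1, hα]; rfl))
  rw [← Nat.card_eq_fintype_card, ← Nat.card_eq_fintype_card] at h2
  convert h2 using 1
  exact Nat.card_congr ⟨fun x => ⟨⟨x.1, x.2.1⟩, Subtype.ext ((hY _).1 x.2.2)⟩,
    fun x => ⟨x.1.1, x.1.2, (hY _).2 (congrArg Subtype.val x.2)⟩, fun _ => rfl, fun _ => rfl⟩

theorem c_two (hl : l.Prime) (hα : ∀ g, (α ^ l) g = g) (hY : ∀ g, g ∈ Y ↔ α g = g)
    (hH : ∀ x ∈ H, α x ∈ H) (a1 : a ∈ Y) (a2 : orderOf a = 2) (a3 : ∀ y ∈ Y, y * a = a * y → y = 1 ∨ y = a)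
    (h1 : a ∈ H) (h2 : H ≤ 𝐂[a]) : ♯H ≡ 2 [MOD l] := by
  have := c_cnt hl hα hY hH
  rwa [show H ⊓ Y = zpowers a from le_antisymm (fun y hy => by
    rcases a3 y hy.2 (mem_cent1_iff.1 (h2 hy.1)) with rfl | rfl
    exacts [one_mem _, mem_zpowers _]) (zpowers_le.2 ⟨h1, a1⟩), Nat.card_zpowers, a2] at this

theorem c_idx (h1 : K ≤ H) (h2 : s ∈ H) (h3 : s ∉ K) (h4 : ∀ g ∈ H, g ∈ K ∨ g * s ∈ K) :
    ♯H = 2 * ♯K := by
  rw [← relIndex_eq_two_iff_exists_notMem_and.2 ⟨s, h2, h3, fun g hg => (h4 g hg).symm⟩,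
    ← Nat.card_congr (subgroupOfEquivOfLe h1).toEquiv, relIndex, index_mul_card]

theorem c_cen (hK : K < Y) (hK1 : K ≠ ⊥) (hn : Y ≤ 𝐍(K)) (hc : ∀ d ∈ K, d ≠ 1 → 𝐂[d] ≤ K) :
    ∃ z, z ≠ 1 ∧ K = 𝐂[z] := by
  obtain ⟨y, hy, hy'⟩ := SetLike.exists_of_lt hK
  haveI := BS.nil_of_fpf (hn hy) (by rintro rfl; exact hy' (one_mem _)) fun x hx h1 =>
    eq_bot_iff.2 fun d hd => by_contra fun h2 => hy' (hc x (hc d hd.1 h2 (mem_cent1_comm.1 hd.2)) h1 (by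
      obtain ⟨n, rfl⟩ := hx
      exact mem_cent1_iff.2 (Commute.self_zpow y n)))
  haveI := (nontrivial_iff_ne_bot K).2 hK1
  obtain ⟨⟨z, hz⟩, h1⟩ := ne_bot_iff_exists_ne_one.1 (Group.IsNilpotent.center_ne_bot (G := K))
  have h2 : (z : G) ≠ 1 := fun e => h1 (Subtype.ext (Subtype.ext e))
  exact ⟨z, h2, le_antisymm (fun g hg => mem_cent1_iff.2
    (congrArg Subtype.val (mem_center_iff.1 hz ⟨g, hg⟩))) (hc _ z.2 h2)⟩

end gen

theorem c_core {F : Type} [Field F] [Fintype F]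
    (hF : CharP F 2 ∧ 4 ≤ Fintype.card F ∨ Odd (Fintype.card F) ∧ 7 ≤ Fintype.card F)
    (α : L2 F ≃* L2 F) (h1 : ∃ g, α g ≠ g) {l : ℕ} (hl : l.Prime)
    (hα : ∀ g, (α ^ l) g = g) {Y K : Subgroup (L2 F)} (hY : ∀ g, g ∈ Y ↔ α g = g) (hK : K < Y)
    (hK1 : K ≠ ⊥) (hn : Y ≤ 𝐍(K)) (hc : ∀ d ∈ K, d ≠ 1 → 𝐂[d] ≤ K) (hD : ∀ D ≤ K, D ≠ ⊥ → 𝐍(D) ≤ Y) :
    l = 2 ∧ ∃ a ∈ Y, orderOf a = 2 ∧ ∀ y ∈ Y, y * a = a * y → y = 1 ∨ y = a := by
  have h4 : 4 ≤ Fintype.card F := hF.elim (·.2) fun h => by omega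
  obtain ⟨z, z1, rfl⟩ := c_cen hK hK1 hn hc
  obtain ⟨p, _, n, hp, hq⟩ := FiniteField.card' F
  haveI := Fact.mk hp
  have hs : ∀ x : L2 F, orderOf x = p → ∃ Q : Sylow p (L2 F), 𝐂[x] = Q := fun x hx => by
    obtain ⟨Q, hQ⟩ := (IsPGroup.of_card (n := 1) (by rw [Nat.card_zpowers, hx, pow_one]) :
      IsPGroup p (zpowers x)).exists_le_sylow
    obtain ⟨θ, -, -, h2, -⟩ := F4 Q
    exact ⟨Q, h2 x (hQ (mem_zpowers x)) (by rintro rfl; exact hp.one_lt.ne (by simpa using hx))⟩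
  have z2 : (orderOf z).Coprime (Fintype.card F) := by
    rw [hq]
    refine (hp.coprime_iff_not_dvd.2 fun h2 => ?_).symm.pow_right _
    have h3 := orderOf_pow_orderOf_div (orderOf_pos z).ne' h2
    obtain ⟨Q, hQ⟩ := hs _ h3
    have h5 : z ^ (orderOf z / p) ≠ 1 := fun e => hp.one_lt.ne (by rw [← h3, e, orderOf_one])
    obtain ⟨g, hg⟩ := h1
    refine hg (F5 h4 Q α (fun g hg => (hY g).1 (hD _ (hQ ▸ hc _ (pow_mem (mem_cent1_iff.2 rfl) _) h5)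
      (fun e => h5 ?_) hg)) g)
    exact mem_bot.1 (e ▸ hQ ▸ mem_cent1_iff.2 rfl)
  have ho : ¬ p = 2 → Odd (Fintype.card F) ∧ 7 ≤ Fintype.card F := fun h2 =>
    hF.resolve_left fun h3 => h2 (CharP.eq F ‹_› h3.1)
  have z3 : z * z ≠ 1 := fun e => by
    have z4 : orderOf z = 2 := orderOf_eq_prime (by rwa [sq]) z1
    obtain ⟨h2, h3⟩ := ho (by
      rintro rfl
      rw [z4, hq] at z2
      exact n.ne_zero (by simpa using z2))
    obtain ⟨A, s, H, -⟩ := F2 h2 h3 z4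
    obtain ⟨y, hy, hy'⟩ := SetLike.exists_of_lt hK
    have h5 : ∀ g ∈ 𝐂[z], g * (y * z * y⁻¹) = y * z * y⁻¹ * g := fun g hg => by
      have := mem_cent1_iff.1 ((mem_normalizer_iff''.1 (hn hy) g).1 hg)
      calc _ = y * (y⁻¹ * g * y * z) * y⁻¹ := by group
        _ = _ := by rw [this]; group
    have h6 : orderOf (y * z * y⁻¹) = 2 := ((MulAut.conj y).orderOf_eq z).trans z4
    rcases (H.cent _).1 (h5 z (mem_cent1_iff.2 rfl)).symm with h7 | h7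
    · exact hy' (mem_cent1_iff.2 (mul_inv_eq_iff_eq_mul.1 (H.uniq _ h7 h6)))
    have h8 : A ≤ zpowers z := fun x hx => by
      have h9 := H.comm _ h7 x hx
      rw [← mul_assoc, h5 x (mem_cent1_iff.2 ((H.cent x).2 (.inl hx))), mul_assoc, mul_assoc _ x,
        mul_right_inj] at h9
      by_cases e1 : x = 1
      · exact e1 ▸ one_mem _
      rw [H.uniq x hx (orderOf_eq_prime ?_ e1)]
      · exact mem_zpowers z
      · rw [sq, mul_eq_one_iff_eq_inv, ← H.inv x hx, h9, mul_inv_cancel_right]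
    have := H.four.trans (card_le_of_le h8)
    rw [Nat.card_zpowers] at this
    omega
  obtain ⟨-, h2, a, a0, a4, a5⟩ := F3 z3 z2
  have a6 : a ∉ 𝐂[z] := fun e => z3 (by
    rw [mul_eq_one_iff_eq_inv, ← a4 z rfl, mem_cent1_iff.1 e, mul_inv_cancel_right])
  have a2 : orderOf a = 2 := orderOf_eq_prime (by rwa [sq]) (by rintro rfl; exact a6 (one_mem _))
  have a1 : a ∈ Y := hD _ le_rfl hK1 (mem_normalizer_fintype fun y hy => by
    rw [a4 y (mem_cent1_iff.1 hy)]; exact inv_mem hy)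
  have a7 : ∀ y ∈ Y, y ∈ 𝐂[z] ∨ y * a ∈ 𝐂[z] := fun y hy =>
    (a5 y ((mem_normalizer_iff.1 (hn hy) z).1 (mem_cent1_iff.2 rfl))).imp mem_cent1_iff.2 mem_cent1_iff.2
  have a8 : ∀ y ∈ 𝐂[z], y * a = a * y → y = 1 := fun y hy e => by_contra fun h3 =>
    a6 (hc y hy h3 (mem_cent1_iff.2 e.symm))
  have a3 : ∀ y ∈ Y, y * a = a * y → y = 1 ∨ y = a := fun y hy e =>
    (a7 y hy).imp (a8 y · e) fun h3 => by
      rw [eq_inv_of_mul_eq_one_left (a8 _ h3 (by rw [← mul_assoc, e])), inv_eq_of_mul_eq_one_left a0]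
  refine ⟨(Nat.prime_dvd_prime_iff_eq hl Nat.prime_two).1 ?_, a, a1, a2, a3⟩
  have b1 : ∀ x, α x ∈ 𝐂[a] ↔ x ∈ 𝐂[a] := fun x => by
    rw [mem_cent1_iff, mem_cent1_iff, ← α.injective.eq_iff (a := x * a), map_mul, map_mul, (hY a).1 a1]
  have b2 := c_two hl hα hY (fun x => (b1 x).2) a1 a2 a3 (mem_cent1_iff.2 rfl) le_rfl
  by_cases p2 : p = 2
  swap
  · obtain ⟨A, s, H, ⟨g, hg⟩, -⟩ := F2 (ho p2).1 (ho p2).2 a2
    have b3 : A ≤ 𝐂[a] := fun x hx => mem_cent1_iff.2 ((H.cent x).2 (.inl hx))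
    have b4 : α g ∈ A := ((H.cent _).1 (mem_cent1_iff.1 ((b1 _).2 (b3 g.2)))).resolve_right fun e => by
      have b5 : orderOf g = ♯A := orderOf_eq_card_of_forall_mem_zpowers hg
      rw [← orderOf_coe, ← α.orderOf_eq] at b5
      have b6 : α g ^ 2 = 1 := by
        have := H.inv _ e
        rw [← mul_assoc, mul_inv_cancel_right, mul_inv_rev, inv_eq_of_mul_eq_one_left H.ss,
          mul_right_inj] at this
        rw [sq, mul_eq_one_iff_eq_inv, ← this]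
      have := H.four.trans (b5.ge.trans (orderOf_le_of_pow_eq_one two_pos b6))
      omega
    have b5 := c_two hl hα hY (H := A) (fun x hx => by
      obtain ⟨m, e⟩ := hg ⟨x, hx⟩
      rw [show x = g ^ m from (congrArg Subtype.val e).symm, map_zpow]
      exact zpow_mem b4 m) a1 a2 a3 H.tK b3
    rw [c_idx b3 (mem_cent1_iff.2 ((H.cent s).2 (.inr (H.ss ▸ one_mem _)))) H.sK
      fun x hx => (H.cent x).1 (mem_cent1_iff.1 hx)] at b2
    exact (Nat.modEq_iff_dvd' (by norm_num)).1 (b2.symm.trans (b5.mul_left 2))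
  subst p2
  obtain ⟨Q, hQ⟩ := hs a a2
  obtain ⟨θ, c1, -, -, -, -, c2⟩ := F4 Q
  have c3 : ♯(𝐂[a]) = Fintype.card F := by
    rw [hQ, ← Nat.card_eq_fintype_card, ← Nat.card_congr (Equiv.Set.univ F)]
    exact Nat.card_congr c1.equiv
  have c4 : Nat.gcd 2 (Fintype.card F - 1) = 1 := by
    have : 2 ∣ Fintype.card F := hq ▸ dvd_pow_self 2 n.ne_zero
    exact Nat.coprime_two_left.2 (Nat.odd_iff.2 (by omega))
  rw [c4, one_mul] at h2
  rw [c3] at b2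
  rcases h2 with h2 | h2
  · have c5 := c_cnt hl hα hY (H := ⊤) fun _ _ => mem_top _
    have c6 := F0_card (F := F)
    rw [top_inf_eq, card_top, c_idx hK.le a1 a6 a7, ← one_mul (Nat.card _), ← c4, c6] at c5
    rw [← h2] at b2 c5
    generalize ♯(𝐂[z]) = k at b2 c5
    have c7 : k ≡ 1 [MOD l] := Nat.ModEq.add_right_cancel' 1 b2
    rw [show (k + 1) ^ 2 - 1 = k * (k + 2) by rw [Nat.sub_eq_iff_eq_add (Nat.one_le_pow' _ _)]; ring] at c5
    have c8 := ((c7.mul_left 2).symm.trans c5.symm).trans (b2.mul (c7.mul (c7.add_right 2)))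
    exact hl.dvd_of_dvd_pow (n := 2) ((Nat.modEq_iff_dvd' (by norm_num)).1 c8)
  exfalso
  rw [← hQ] at c2
  have c5 := isComplement'_of_card_mul_and_disjoint (H := 𝐂[z]) (K := 𝐍(𝐂[a]))
    (by rw [h2, ← c2, index_mul_card]) (disjoint_def.2 fun {k} k1 k2 => a8 k k1 (by
      have c5 := (mem_normalizer_iff.1 k2 a).1 (mem_cent1_iff.2 rfl)
      rcases a3 _ (mul_mem (mul_mem (hK.le k1) a1) (inv_mem (hK.le k1))) (mem_cent1_iff.1 c5) with e | e
      · rw [mul_inv_eq_one, mul_eq_left] at e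
        simp [e]
      · exact mul_inv_eq_iff_eq_mul.1 e))
  have c6 : ∀ g, g⁻¹ * α g ∈ 𝐍(𝐂[a]) := fun g => by
    obtain ⟨⟨k, b⟩, rfl⟩ := c5.2 g
    simp only [map_mul, (hY _).1 (hK.le k.2), mul_inv_rev, mul_assoc, inv_mul_cancel_left]
    refine mul_mem (inv_mem b.2) (mem_normalizer_fintype fun x hx => ?_)
    obtain ⟨x, rfl⟩ := α.surjective x
    rw [← map_inv, ← map_mul, ← map_mul]
    exact (b1 _).2 ((mem_normalizer_iff.1 b.2 x).1 ((b1 _).1 hx))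
  haveI := (F0_simple h4).1
  rcases (normalCore_normal (𝐍(𝐂[a]))).eq_bot_or_eq_top with e | e
  · obtain ⟨g, hg⟩ := h1
    refine hg (inv_mul_eq_one.1 (mem_bot.1 (e ▸ fun b => ?_))).symm
    convert mul_mem (c6 (g * b⁻¹)) (inv_mem (c6 b⁻¹)) using 1
    rw [map_mul]; group
  · rw [eq_top_iff.2 (e.ge.trans (normalCore_le _)), index_top] at c2
    omega

variable {G : Type u} [Group G] [Finite G]

theorem RC2 (h : L2e G ∨ L2o G) (α : G ≃* G) (h1 : ∃ g, α g ≠ g) {l : ℕ} (hl : l.Prime)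
    (hα : ∀ g, (α ^ l) g = g) {Y K : Subgroup G} (hY : ∀ g, g ∈ Y ↔ α g = g) (hK : K < Y) (hK1 : K ≠ ⊥)
    (hn : Y ≤ normalizer (K : Set G)) (hc : ∀ d ∈ K, d ≠ 1 → centralizer ({d} : Set G) ≤ K)
    (hD : ∀ D ≤ K, D ≠ ⊥ → normalizer (D : Set G) ≤ Y) :
    l = 2 ∧ ∃ a ∈ Y, orderOf a = 2 ∧ ∀ y ∈ Y, y * a = a * y → y = 1 ∨ y = a := by
  obtain ⟨F, _, _, hF, ⟨e⟩⟩ : ∃ (F : Type) (_ : Field F) (_ : Fintype F),
      (CharP F 2 ∧ 4 ≤ Fintype.card F ∨ Odd (Fintype.card F) ∧ 7 ≤ Fintype.card F) ∧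
        Nonempty (G ≃* L2 F) := by
    rcases h with ⟨F, i, j, a, b, c⟩ | ⟨F, i, j, a, b, c⟩
    exacts [⟨F, i, j, .inl ⟨a, b⟩, c⟩, ⟨F, i, j, .inr ⟨a, b⟩, c⟩]
  have hi : Function.Injective e.toMonoidHom := e.injective
  obtain ⟨h2, _, ⟨a, a1, rfl⟩, a2, a3⟩ := c_core hF (MulAut.congr e α)
    (h1.elim fun g hg => ⟨e g, by simpa using hg⟩) hl (fun g => by rw [← map_pow]; simp [hα])
    (Y := Y.map e.toMonoidHom) (K := K.map e.toMonoidHom)
    (fun g => by rw [mem_map_equiv, hY, ← e.injective.eq_iff]; simp)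
    ((map_lt_map_iff_of_injective hi).2 hK) (by rwa [Ne, map_eq_bot_iff_of_injective _ hi])
    ((map_mono hn).trans (le_normalizer_map _))
    (by
      rintro _ ⟨d, hd, rfl⟩ d1 g hg
      refine mem_map_equiv.2 (hc d hd (by rintro rfl; simp at d1) (mem_cent1_iff.2 (hi ?_)))
      simpa using mem_cent1_iff.1 hg)
    fun D h2 h3 g hg => mem_map_equiv.2 (hD (D.comap e.toMonoidHom)
      (fun x hx => (mem_map_iff_mem hi).1 (h2 hx))
      (fun h4 => h3 (by rw [← map_comap_eq_self_of_surjective (f := e.toMonoidHom) e.surjective D, h4, Subgroup.map_bot]))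
      (le_normalizer_comap _ (by simpa [mem_comap] using hg)))
  refine ⟨h2, a, a1, e.orderOf_eq a ▸ a2, fun y hy h3 => ?_⟩
  simpa using a3 _ (mem_map_of_mem _ hy) (by rw [← map_mul, h3, map_mul])

end Cfsg.Agent.MC
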