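import Cfsg.Agent.MC.RC1b
import Cfsg.Agent.MC.RC2

/-! Minimal non-CA groups, piece RC1. -/

set_option autoImplicit false
set_option linter.unusedSectionVars false

namespace Cfsg.Agent.MC

open Subgroup Cfsg.Agent.FT

universe u
variable {G : Type u} [Group G] [Finite G]

theorem rc_two {M K : Subgroup G} [M.Normal] (h : L2e M ∨ L2o M) {x : G} (h1 : ¬ M ≤ 𝐂[x]) {l : ℕ}
    (hl : l.Prime) (hx : x ^ l = 1) (hK : K ⊴ M ⊓ 𝐂[x]) (k0 : K ≠ M ⊓ 𝐂[x]) (k1 : K ≠ ⊥)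
    (hc : ∀ d ∈ K, d ≠ 1 → M ⊓ 𝐂[d] ≤ K) (hD : ∀ D ≤ K, D ≠ ⊥ → M ⊓ 𝐍(D) ≤ 𝐂[x]) :
    l = 2 ∧ ∃ a ∈ M ⊓ 𝐂[x], orderOf a = 2 ∧ ∀ y ∈ M ⊓ 𝐂[x], y * a = a * y → y = 1 ∨ y = a := by
  have hY : ∀ g : M, g ∈ (M ⊓ 𝐂[x]).subgroupOf M ↔ MulAut.conjNormal x g = g := fun g => by
    rw [Subtype.ext_iff, MulAut.conjNormal_apply, mul_inv_eq_iff_eq_mul, eq_comm, ← mem_cent1_iff]
    exact ⟨fun e => e.2, fun e => ⟨g.2, e⟩⟩
  have KM : K ≤ M := hK.le.trans inf_le_left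
  obtain ⟨e1, a, a1, a2, a3⟩ := RC2 h (MulAut.conjNormal x) (by
      by_contra! k
      exact h1 fun g hg => ((hY ⟨g, hg⟩).2 (k _)).2) hl
    (fun g => by rw [← map_pow, hx, map_one, MulAut.one_apply]) hY (K := K.subgroupOf M)
    ((subgroupOf_mono M hK.le).lt_of_ne fun e => k0 (hK.le.antisymm fun y hy =>
      show (⟨y, hy.1⟩ : M) ∈ K.subgroupOf M from e.ge hy))
    (fun e => k1 (eq_bot_iff.2 fun y hy => mem_bot.2 (congrArg Subtype.val
      (mem_bot.1 (e.le (show (⟨y, KM hy⟩ : M) ∈ K.subgroupOf M from hy))))))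
    (by rw [← subgroupOf_normalizer_eq KM]; exact subgroupOf_mono M hK.norm)
    (fun d hd d1 y hy => hc d hd (fun e => d1 (Subtype.ext e))
      ⟨y.2, mem_cent1_iff.2 (congrArg Subtype.val (mem_cent1_iff.1 hy))⟩)
    fun D d1 d2 y hy => ⟨y.2, hD (D.map M.subtype) (map_le_iff_le_comap.2 d1)
      (mt (map_eq_bot_iff_of_injective D M.subtype_injective).1 d2)
      ⟨y.2, le_normalizer_map M.subtype (mem_map_of_mem _ hy)⟩⟩
  exact ⟨e1, a, a1, by rw [← a2, Subgroup.orderOf_coe], fun y hy e =>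
    (a3 ⟨y, hy.1⟩ hy (Subtype.ext e)).imp (congrArg Subtype.val) (congrArg Subtype.val)⟩

theorem RC1 (hP : PCA G) {L : Subgroup G} [L.Normal] (h1 : L ≠ ⊤) (h2 : ⁅L, L⁆ = L) (hs : SZ L)
    (h : L2e (L ⧸ center L) ∨ L2o (L ⧸ center L)) : CA (⊤ : Subgroup G) := by
  let π := QuotientGroup.mk' (center G)
  have hπ : ∀ g, π g = 1 ↔ g ∈ center G := fun g => QuotientGroup.eq_one_iff g
  have sj : Function.Surjective π := QuotientGroup.mk'_surjective _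
  have nz : ¬ L ≤ center G := fun e => by
    obtain ⟨a, b, k⟩ := hs.2
    obtain ⟨a, rfl⟩ := QuotientGroup.mk_surjective a
    obtain ⟨b, rfl⟩ := QuotientGroup.mk_surjective b
    exact k (by
      rw [← QuotientGroup.mk_mul, ← QuotientGroup.mk_mul,
        show a * b = b * a from Subtype.ext (mem_center_iff.1 (e b.2) a)])
  have cL := R1 hP (fun e : L = ⊥ => nz (e.le.trans bot_le)) h2
  have kr : center L = (π.subgroupMap L).ker := Subgroup.ext fun g => by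
    rw [MonoidHom.mem_ker, Subtype.ext_iff]
    exact ⟨fun e => (hπ g).2 (cL (mem_cent_iff.2 fun a ha =>
      congrArg Subtype.val (mem_center_iff.1 e ⟨a, ha⟩))),
      fun e => mem_center_iff.2 fun a => Subtype.ext (mem_center_iff.1 ((hπ g).1 e) a)⟩
  have φ : L.map π ≃* L ⧸ center L := ((QuotientGroup.quotientMulEquivOfEq kr).trans
    (QuotientGroup.quotientKerEquivOfSurjective _ (π.subgroupMap_surjective L))).symm
  haveI := hs.1
  haveI : IsSimpleGroup (L.map π) := φ.isSimpleGroup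
  haveI : (L.map π).Normal := Normal.map ‹_› π sj
  rintro x - ⟨y, -, hy⟩ a - b - ha hb
  by_contra ab
  obtain ⟨w, hw, l, lp, wl⟩ : ∃ w ∈ zpowers (π x), ∃ l : ℕ, l.Prime ∧ orderOf w = l := by
    obtain ⟨l, lp, hd⟩ := exists_prime_dvd_card (H := zpowers (π x)) (by
      rw [Ne, zpowers_eq_bot, hπ]; exact fun e => hy (mem_center_iff.1 e y))
    obtain ⟨w, w1, w2⟩ := exists_orderOf_eq_prime lp hd
    exact ⟨w, w1, l, lp, w2⟩
  rw [← MonoidHom.map_zpowers] at hw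
  obtain ⟨w, hw, rfl⟩ := hw
  have wl' : π w ^ l = 1 := by rw [← wl, pow_orderOf_eq_one]
  have r : RS π L w l := ⟨hP, nrm_top_iff.2 ‹_›, h1, h2, hπ, fun N hN =>
    hN.normal.eq_bot_or_eq_top.imp (fun e => by
      rw [← map_subgroupOf_eq_of_le hN.le, e, Subgroup.map_bot])
      fun e => hN.le.antisymm (subgroupOf_eq_top.1 e), nz,
    fun e => lp.ne_one (by rw [← wl, (hπ w).2 e, orderOf_one]),
    fun e => ab (mem_cent_iff.1 (e (cent1_le_cent1_of_mem hw (mem_cent1_iff.2 hb))) a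
      (cent1_le_cent1_of_mem hw (mem_cent1_iff.2 ha))), lp, (hπ _).1 (by rw [map_pow, wl'])⟩
  obtain ⟨K, k1, k2, k3, k4, k5⟩ := r.kernel
  obtain ⟨rfl, a, a1, a2, a3⟩ := rc_two (h.imp
      (fun ⟨F, i1, i2, c1, c2, ⟨e⟩⟩ => ⟨F, i1, i2, c1, c2, ⟨φ.trans e⟩⟩)
      fun ⟨F, i1, i2, c1, c2, ⟨e⟩⟩ => ⟨F, i1, i2, c1, c2, ⟨φ.trans e⟩⟩)
    (fun e => r.nc r.xz fun g hg => r.fix hg (e (mem_map_of_mem π hg))) lp wl' k1 k2 k3 k4 k5
  exact r.two sj a1 a2 a3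

end Cfsg.Agent.MC
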