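import Cfsg.Agent.MC.MU
import Cfsg.Agent.MC.QE
import Cfsg.Agent.MC.QO
import Cfsg.Agent.MC.RB
import Cfsg.Agent.MC.RC1

/-! Minimal non-CA groups: the forward direction. -/

set_option autoImplicit false
set_option linter.unusedSectionVars false

namespace Cfsg.Agent.MC

open Subgroup Cfsg.Agent.FT

universe u

section gen
variable {G : Type*} [Group G] {G' : Type*} [Group G'] {H : Subgroup G}

theorem CA.v_map (h : CA H) (f : G →* G') (hf : Function.Injective f) : CA (H.map f) := by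
  rintro _ ⟨x, hx, rfl⟩ ⟨_, ⟨y, hy, rfl⟩, e⟩ _ ⟨a, ha, rfl⟩ _ ⟨b, hb, rfl⟩ h1 h2
  simp only [← map_mul, Ne, hf.eq_iff] at e h1 h2 ⊢
  exact h x hx ⟨y, hy, e⟩ a ha b hb h1 h2

theorem CA.v_of_map (f : G →* G') (hf : Function.Injective f) (h : CA (H.map f)) : CA H := by
  intro x hx ⟨y, hy, e⟩ a ha b hb h1 h2
  refine hf ?_
  rw [map_mul, map_mul]
  exact h _ (mem_map_of_mem f hx) ⟨_, mem_map_of_mem f hy, by
    rwa [← map_mul, ← map_mul, Ne, hf.eq_iff]⟩ _ (mem_map_of_mem f ha) _ (mem_map_of_mem f hb)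
    (by rw [← map_mul, ← map_mul, h1]) (by rw [← map_mul, ← map_mul, h2])

theorem CA.w_top (e : G ≃* G') (h : CA (⊤ : Subgroup G)) : CA (⊤ : Subgroup G') :=
  map_top_of_surjective (e : G →* G') e.surjective ▸ h.v_map _ e.injective

end gen

variable {G : Type u} [Group G] [Finite G]

theorem PCA.w_sub {G' : Type*} [Group G'] (h : PCA G) (f : G' →* G) (hf : Function.Injective f) :
    PCA G' := fun K hK => CA.v_of_map f hf (h _ fun e => hK (by
  rw [← comap_map_eq_self_of_injective hf K, e, comap_top]))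

theorem w_main (hP : PCA G) (hs : SZ G) (hp : commutator G = ⊤) :
    (L2e (G ⧸ center G) ∨ L2o (G ⧸ center G)) ∧
      (CA (⊤ : Subgroup G) ∨ (L2o G ∧ ¬ 8 ∣ Nat.card G)) := by
  rcases Nat.even_or_odd (Nat.card (center G)) with he | ho
  · exact (QE hP hs hp he).imp id .inl
  have h := QO hP hs ho
  let e : G ⧸ center G ≃* G := (QuotientGroup.quotientMulEquivOfEq (MU hp ho h)).trans
    QuotientGroup.quotientBot
  refine ⟨h.imp id And.left, h.imp ?_ ?_⟩
  · rintro ⟨F, _, _, _, -, ⟨f⟩⟩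
    exact CA.w_top (f.symm.trans e) fun x _ ⟨y, _, k⟩ a _ b _ =>
      F1e fun j => k (by rw [j, mul_one, one_mul])
  · rintro ⟨⟨F, _, _, h1, h2, ⟨f⟩⟩, h3⟩
    exact ⟨⟨F, _, _, h1, h2, ⟨e.symm.trans f⟩⟩, by rwa [← Nat.card_congr e.toEquiv]⟩

theorem FW (hP : PCA G) (hs : ¬ Group.IsSolvable G) (hn : ¬ CA (⊤ : Subgroup G)) :
    L2o G ∧ ¬ 8 ∣ Nat.card G := by
  obtain ⟨L, _, h1, h2⟩ := RB hP hs
  obtain ⟨h3, h4⟩ := w_main (hP.w_sub L.subtype (subtype_injective L)) h2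
    (map_injective (subtype_injective L) (by
      rw [commutator_def, map_commutator, ← MonoidHom.range_eq_map, range_subtype, h1]))
  by_cases h : L = ⊤
  · subst h
    obtain ⟨⟨F, _, _, h5, h6, ⟨f⟩⟩, h7⟩ := h4.resolve_left fun k => hn (k.w_top topEquiv)
    exact ⟨⟨F, _, _, h5, h6, ⟨topEquiv.symm.trans f⟩⟩, by rwa [card_top] at h7⟩
  exact absurd (RC1 hP h h1 h2 h3) hn

end Cfsg.Agent.MC
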