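import Cfsg.Agent.FT.P.PF02

/-! Frobenius' theorem on the existence of the kernel. -/

set_option autoImplicit false
set_option linter.unusedSectionVars false

namespace Cfsg.Agent.MC

open Subgroup Cfsg.Agent.FT

universe u
variable {G : Type u} [Group G] [Finite G] {H Y : Subgroup G}

theorem frob_ext (h : NormedTI (sharp H) Y H) {χ : G → ℂ} (hχ : χ ∈ Irr H) :
    ∃ ψ ∈ Irr Y, ψ 1 = χ 1 ∧ (∀ a ∈ H, ψ a = χ a) ∧
      ∀ y ∈ Y, y ∉ clsup (sharp H) Y → ψ y = χ 1 := by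
  have v : χ - deg χ • triv H ∈ VChar H := sub_mem (irr_vchar hχ) (nsmul_mem (triv_vchar H) _)
  have o : (χ - deg χ • triv H) 1 = 0 := by simp [irr_one hχ]
  have c : χ - deg χ • triv H ∈ CFon H (sharp H) := mem_CFon_sharp.2 ⟨vchar_CF v, o⟩
  have o' : Ind H Y (χ - deg χ • triv H) 1 = 0 := by rw [Ind_one h.le, o, mul_zero]
  have e1 : (Ind H Y (χ - deg χ • triv H) + deg χ • triv Y) 1 = χ 1 := by
    rw [Pi.add_apply, o']; simp [irr_one hχ]
  refine ⟨Ind H Y (χ - deg χ • triv H) + deg χ • triv Y, (dirr_of_dot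
    (add_mem (Ind_vchar h.le v) (nsmul_mem (triv_vchar Y) _)) ?_).irr_of_pos
    (by rw [e1, irr_one hχ]; simp), e1, fun a ha => ?_, fun y hy k => ?_⟩
  · have d1 : dot H (triv H) (triv Y) = 1 := by
      rw [← dot_Res_right, Res_triv h.le, dot_triv_triv]
    have d2 : dot H (triv Y) (triv H) = 1 := dot_symm_one d1
    have d3 : dot H χ (triv Y) = dot H χ (triv H) := by rw [← dot_Res_right, Res_triv h.le]
    have d4 : dot H (triv Y) χ = dot H (triv H) χ := by rw [← dot_Res_left, Res_triv h.le]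
    rw [dot_add_left, dot_add_right, dot_add_right, normedTI_isometry h c c, dot_nsmul_left,
      dot_nsmul_right, dot_nsmul_left, dot_nsmul_right, dot_Ind_left h.le _ (triv_mem_CF Y),
      dot_Ind_right h.le (triv_mem_CF Y)]
    simp only [dot_sub_left, dot_sub_right, dot_nsmul_left, dot_nsmul_right, d1, d2, d3, d4,
      dot_triv_triv, dot_irr_self hχ]
    ring
  · by_cases e : a = 1
    · rw [e, e1]
    · rw [Pi.add_apply, normedTI_Ind_id h c ⟨ha, e⟩]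
      simp [triv_of_mem ha, triv_of_mem (h.le ha)]
  · rw [Pi.add_apply, Ind_mem_supp' Y c.2 y k]
    simp [triv_of_mem hy, irr_one hχ]

/-- Frobenius' theorem -/
theorem frob (h : NormedTI (sharp H) Y H) : ∃ K, K ⊴ Y ∧ K ⊓ H = ⊥ ∧ (K = ⊥ → Y ≤ H) ∧
    ∀ d ∈ K, d ≠ 1 → Y ⊓ 𝐂[d] ≤ K := by
  choose ψ h1 h2 h3 h4 using fun χ : Irr H => frob_ext h χ.2
  have k1 : ∀ y ∈ Y, y ∉ clsup (sharp H) Y → y ∈ Y ⊓ ⨅ χ, cker (ψ χ) := fun y hy e =>
    ⟨hy, mem_iInf.2 fun χ => (mem_cker_iff (irr_char (h1 χ)) hy).2 ((h4 χ y hy e).trans (h2 χ).symm)⟩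
  have k2 : Y ⊓ ⨅ χ, cker (ψ χ) ⊴ Y := ⟨inf_le_left, le_normalizer_of_conj_mem fun g hg a ha =>
    ⟨Y.mul_mem (Y.mul_mem hg ha.1) (Y.inv_mem hg), mem_iInf.2 fun χ =>
      (cker_irr_nrm (h1 χ)).conj_mem hg (mem_iInf.1 ha.2 χ)⟩⟩
  have k3 : ∀ a ∈ Y ⊓ ⨅ χ, cker (ψ χ), a ∈ H → a = 1 := fun a ha ha' => by
    by_contra e
    obtain ⟨χ, c1, c2⟩ := exists_irrK_not_mem_cker (Nrm.bot H) ha' (mt mem_bot.1 e)
    rw [IrrK_bot] at c1
    exact c2 ((mem_cker_iff (irr_char c1) ha').2 ((h3 ⟨χ, c1⟩ a ha').symm.trans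
      ((cker_apply (mem_iInf.1 ha.2 ⟨χ, c1⟩)).trans (h2 ⟨χ, c1⟩))))
  refine ⟨_, k2, eq_bot_iff.2 fun a ha => mem_bot.2 (k3 a ha.1 ha.2), fun e => ?_,
    fun d hd d1 c hc => by_contra fun e => ?_⟩
  · have c1 : sharp Y ⊆ clsup (sharp H) Y := fun y hy => by_contra fun k =>
      hy.2 (mem_bot.1 (e.le (k1 y hy.1 k)))
    have c2 := Set.ncard_le_ncard c1
    have c3 := ncard_sharp Y
    have c4 := card_mul_relIndex h.le
    rw [card_clsup_normedTI h] at c2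
    rw [← ncard_sharp H] at c4
    have c5 := relIndex_pos H Y
    exact relIndex_eq_one.1 (by nlinarith)
  · obtain ⟨a, ha, g, hg, rfl⟩ := mem_clsup.1 (by_contra fun k => e (k1 c hc.1 k))
    have c1 := mul_mem (mul_mem (inv_mem hg) hd.1) hg
    have c2 : g⁻¹ * d * g * a * (g⁻¹ * d * g)⁻¹ = a := by
      have := mem_cent1_iff.1 hc.2
      calc _ = g⁻¹ * (d * (g * a * g⁻¹)) * d⁻¹ * g := by group
        _ = a := by rw [← this]; group
    have := k3 _ (k2.conj_mem' hg hd) (h.ti _ c1 a ha (c2.symm ▸ ha))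
    exact conj_ne_one (g := g⁻¹) d1 (by rwa [inv_inv])

end Cfsg.Agent.MC
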