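import Cfsg.Agent.MC.Def

/-! Interface of the project S4369 (statements only; never import this file in a shipped proof). -/

set_option autoImplicit false
set_option linter.unusedSectionVars false

namespace Cfsg.Agent.MC.I

open Subgroup Cfsg.Agent.MC

universe u
variable {G : Type u} [Group G] [Finite G]

/-! ### piece PF: facts on `L₂(q)` (files MC/PF*.lean) -/
section PF
variable {F : Type} [Field F] [Fintype F]

theorem F0_simple (h : 4 ≤ Fintype.card F) :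
    IsSimpleGroup (L2 F) ∧ ∃ a b : L2 F, a * b ≠ b * a := sorry
theorem F0_card : Nat.gcd 2 (Fintype.card F - 1) * Nat.card (L2 F) =
    Fintype.card F * (Fintype.card F ^ 2 - 1) := sorry
theorem F1 {x a b : L2 F} (h : x * x ≠ 1) (ha : a * x = x * a) (hb : b * x = x * b) :
    a * b = b * a := sorry
theorem F1e [CharP F 2] {x a b : L2 F} (h : x ≠ 1) (ha : a * x = x * a) (hb : b * x = x * b) :
    a * b = b * a := sorry
theorem F2 (ho : Odd (Fintype.card F)) (h7 : 7 ≤ Fintype.card F) {t : L2 F} (ht : orderOf t = 2) :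
    ∃ (K : Subgroup (L2 F)) (s : L2 F), BW.Hyp K t s ∧ IsCyclic K ∧
      (Fintype.card F = 2 * Nat.card K + 1 ∨ Fintype.card F + 1 = 2 * Nat.card K) := sorry
/-- semisimple elements that are not involutions -/
theorem F3 {x : L2 F} (h : x * x ≠ 1) (hc : Nat.Coprime (orderOf x) (Fintype.card F)) :
    IsCyclic (centralizer ({x} : Set (L2 F))) ∧
    (Nat.gcd 2 (Fintype.card F - 1) * Nat.card (centralizer ({x} : Set (L2 F))) + 1 = Fintype.card F ∨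
      Nat.gcd 2 (Fintype.card F - 1) * Nat.card (centralizer ({x} : Set (L2 F))) = Fintype.card F + 1) ∧
    ∃ s : L2 F, s * s = 1 ∧ (∀ y, y * x = x * y → s * y * s⁻¹ = y⁻¹) ∧
      ∀ g : L2 F, g * x * g⁻¹ ∈ centralizer ({x} : Set (L2 F)) → g * x = x * g ∨ g * s * x = x * (g * s) := sorry
/-- both tori exist -/
theorem F3e : (∃ x : L2 F, Nat.gcd 2 (Fintype.card F - 1) * orderOf x + 1 = Fintype.card F) ∧
    ∃ x : L2 F, Nat.gcd 2 (Fintype.card F - 1) * orderOf x = Fintype.card F + 1 := sorry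
/-- Sylow subgroups in the defining characteristic -/
theorem F4 {p : ℕ} [Fact p.Prime] [CharP F p] (Q : Sylow p (L2 F)) :
    ∃ θ : L2 F → F, Set.BijOn θ (Q : Subgroup (L2 F)) Set.univ ∧
      (∀ x ∈ (Q : Subgroup (L2 F)), ∀ y ∈ (Q : Subgroup (L2 F)), θ (x * y) = θ x + θ y) ∧
      (∀ y ∈ (Q : Subgroup (L2 F)), y ≠ 1 → centralizer ({y} : Set (L2 F)) = Q) ∧
      (∀ g ∈ normalizer ((Q : Subgroup (L2 F)) : Set (L2 F)), ∃ a : F, a ≠ 0 ∧
        ∀ y ∈ (Q : Subgroup (L2 F)), θ (g * y * g⁻¹) = a ^ 2 * θ y) ∧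
      (∀ a : F, a ≠ 0 → ∃ g ∈ normalizer ((Q : Subgroup (L2 F)) : Set (L2 F)),
        ∀ y ∈ (Q : Subgroup (L2 F)), θ (g * y * g⁻¹) = a ^ 2 * θ y) ∧
      (normalizer ((Q : Subgroup (L2 F)) : Set (L2 F))).index = Fintype.card F + 1 := sorry
theorem F5 {p : ℕ} [Fact p.Prime] [CharP F p] (h : 4 ≤ Fintype.card F) (Q : Sylow p (L2 F))
    (α : L2 F ≃* L2 F) (hα : ∀ g ∈ normalizer ((Q : Subgroup (L2 F)) : Set (L2 F)), α g = g) (g : L2 F) :
    α g = g := sorry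
/-- subfield subgroups -/
theorem F6 {E : Type} [Field E] [Fintype E] (f : E →+* F) :
    ∃ φ : L2 E →* L2 F, Function.Injective φ := sorry
end PF

/-! ### piece BA (file MC/BA.lean) -/
theorem BA [IsSimpleGroup G] (hna : ∃ a b : G, a * b ≠ b * a) (S : Sylow 2 G) {M : Subgroup G}
    (hM : M ≠ ⊤) (h1 : normalizer ((S : Subgroup G) : Set G) ≤ M)
    (h2 : ∀ t ∈ (S : Subgroup G), orderOf t = 2 → centralizer ({t} : Set G) ≤ M)
    (h3 : (∀ a ∈ (S : Subgroup G), ∀ b ∈ (S : Subgroup G), a * b = b * a) ∨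
      (S : Subgroup G) ≤ closure {t | t ∈ (S : Subgroup G) ∧ orderOf t = 2}) : L2e G := sorry
theorem AB [IsSimpleGroup G] (hna : ∃ a b : G, a * b ≠ b * a) (S : Sylow 2 G)
    (h1 : ∀ a ∈ (S : Subgroup G), ∀ b ∈ (S : Subgroup G), a * b = b * a)
    (h2 : ∀ t a b : G, orderOf t = 2 → a * t = t * a → b * t = t * b → Odd (orderOf a) → Odd (orderOf b) →
      Odd (orderOf (a * b))) :
    L2e G ∨ (Nat.card (S : Subgroup G) = 4 ∧ (∀ a ∈ (S : Subgroup G), a * a = 1) ∧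
      ∀ t u : G, orderOf t = 2 → orderOf u = 2 → IsConj t u) := sorry

/-! ### piece BG (files MC/BG*.lean) -/
theorem BG [IsSimpleGroup G] {E D : Subgroup G} {t s : G} (h : BGH E D t s) : D = ⊥ := sorry

/-! ### piece R (files MC/R*.lean) -/
theorem R1 (hP : PCA G) {L : Subgroup G} [L.Normal] (h1 : L ≠ ⊥) (h2 : ⁅L, L⁆ = L) :
    centralizer (L : Set G) ≤ center G := sorry
theorem CA2 {P : Subgroup G} (h2 : IsPGroup 2 P) (h : CA P) :
    (∀ x ∈ P, ∀ y ∈ P, x * y = y * x) ∨ (∀ x ∈ P, ∀ y ∈ P, x * x * y = y * (x * x)) ∨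
      ∃ A ≤ P, A.relIndex P = 2 ∧ (∀ x ∈ A, ∀ y ∈ A, x * y = y * x) ∧
        (∃ a ∈ A, ∃ y ∈ P, a * a * y ≠ y * (a * a)) ∧
        ∀ s ∈ P, s ∉ A → ∀ y ∈ P, s * s * y = y * (s * s) := sorry
theorem RA (hP : PCA G) (hs : ¬ Group.IsSolvable G) (N : Subgroup G) [N.Normal]
    (hN : Group.IsSolvable N) : N ≤ center G := sorry
theorem RB (hP : PCA G) (hs : ¬ Group.IsSolvable G) :
    ∃ L : Subgroup G, L.Normal ∧ ⁅L, L⁆ = L ∧ SZ L := sorry

/-! ### piece Q (files MC/Z1.lean, MC/QO.lean, MC/QE.lean, MC/MU.lean) -/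
theorem Z1 (hP : PCA G) (hs : SZ G) (P : Sylow 2 G)
    (hna : ∃ a ∈ (P : Subgroup G), ∃ b ∈ (P : Subgroup G), a * b ≠ b * a) {z : G}
    (hz : z ∈ (P : Subgroup G)) (h : ∀ a ∈ (P : Subgroup G), a * z = z * a) : z ∈ center G := sorry
theorem QO (hP : PCA G) (hs : SZ G) (ho : Odd (Nat.card (center G))) :
    L2e (G ⧸ center G) ∨ (L2o (G ⧸ center G) ∧ ¬ 8 ∣ Nat.card (G ⧸ center G)) := sorry
theorem MU (hp : commutator G = ⊤) (ho : Odd (Nat.card (center G)))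
    (h : L2e (G ⧸ center G) ∨ (L2o (G ⧸ center G) ∧ ¬ 8 ∣ Nat.card (G ⧸ center G))) :
    center G = ⊥ := sorry
theorem QE (hP : PCA G) (hs : SZ G) (hp : commutator G = ⊤) (he : Even (Nat.card (center G))) :
    (L2e (G ⧸ center G) ∨ L2o (G ⧸ center G)) ∧ CA (⊤ : Subgroup G) := sorry

/-! ### piece RC (files MC/RC1.lean, MC/RC2.lean) -/
theorem RC2 (h : L2e G ∨ L2o G) (α : G ≃* G) (h1 : ∃ g, α g ≠ g) {l : ℕ} (hl : l.Prime)
    (hα : ∀ g, (α ^ l) g = g) {Y K : Subgroup G} (hY : ∀ g, g ∈ Y ↔ α g = g) (hK : K < Y) (hK1 : K ≠ ⊥)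
    (hn : Y ≤ normalizer (K : Set G)) (hc : ∀ d ∈ K, d ≠ 1 → centralizer ({d} : Set G) ≤ K)
    (hD : ∀ D ≤ K, D ≠ ⊥ → normalizer (D : Set G) ≤ Y) :
    l = 2 ∧ ∃ a ∈ Y, orderOf a = 2 ∧ ∀ y ∈ Y, y * a = a * y → y = 1 ∨ y = a := sorry
theorem RC1 (hP : PCA G) {L : Subgroup G} [L.Normal] (h1 : L ≠ ⊤) (h2 : ⁅L, L⁆ = L) (hs : SZ L)
    (h : L2e (L ⧸ center L) ∨ L2o (L ⧸ center L)) : CA (⊤ : Subgroup G) := sorry

/-! ### piece FIN (file MC/Fin.lean): the forward direction -/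
theorem FW (hP : PCA G) (hs : ¬ Group.IsSolvable G) (hn : ¬ CA (⊤ : Subgroup G)) :
    L2o G ∧ ¬ 8 ∣ Nat.card G := sorry
theorem FIN {F : Type} [Field F] [Fintype F] (ho : Odd (Fintype.card F)) (h7 : 7 ≤ Fintype.card F)
    (h8 : ¬ 8 ∣ Nat.card (L2 F)) (hP : PCA (L2 F)) : Lst (Fintype.card F) := sorry
theorem NCA {F : Type} [Field F] [Fintype F] (ho : Odd (Fintype.card F)) (h7 : 7 ≤ Fintype.card F) :
    ¬ CA (⊤ : Subgroup (L2 F)) := sorry
/-! ### piece CV (file MC/CV.lean): the converse, from `FW` -/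
theorem CV {F : Type} [Field F] [Fintype F] (h : Lst (Fintype.card F)) : PCA (L2 F) := sorry

end Cfsg.Agent.MC.I
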