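import Cfsg.Agent.MC.PFb
import Cfsg.Agent.H1.Transfer

/-! The odd part of the Schur multiplier of `L₂(q)` (see `notes/mc_plan.md`). -/

set_option autoImplicit false
set_option linter.unusedSectionVars false

namespace Cfsg.Agent.MC

open Subgroup Cfsg.Agent.FT Cfsg.Agent.H1
open scoped commutatorElement

universe u
variable {G : Type u} [Group G] [Finite G] {F : Type} [Field F] [Fintype F]

theorem mu_a (ho : Odd (Fintype.card F)) (h7 : 7 ≤ Fintype.card F) (h9 : Fintype.card F ≠ 9) :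
    ∃ a : F, a * (a ^ 2 - 1) * (a ^ 2 + 1) * ((a ^ 2 - 1) ^ 2 - a ^ 2) ≠ 0 := by
  by_cases h : Fintype.card F = 7
  · have e := FiniteField.cast_card_eq_zero F
    rw [h] at e
    exact ⟨2, fun k => one_ne_zero (α := F) (by push_cast at e; linear_combination 5 * k - 107 * e)⟩
  open Polynomial in
  obtain ⟨a, k⟩ := exists_eval_ne_zero_of_natDegree_lt_card
    (X * (X ^ 2 - 1) * (X ^ 2 + 1) * ((X ^ 2 - 1) ^ 2 - X ^ 2) : F[X])
    (Monic.ne_zero (by monicity!)) (by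
      rw [Cardinal.mk_fintype, Nat.cast_lt]
      have := Nat.odd_iff.1 ho
      exact lt_of_le_of_lt (by compute_degree : _ ≤ 9) (by omega))
  exact ⟨a, by simpa using k⟩

theorem mu_b {Z : Type*} [AddCommGroup Z] (h2 : (2 : F) ≠ 0) {a : F}
    (ha : a * (a ^ 2 - 1) * (a ^ 2 + 1) * ((a ^ 2 - 1) ^ 2 - a ^ 2) ≠ 0) (b : F →+ F →+ Z)
    (h : ∀ c : F, c ≠ 0 → ∀ x y, b (c ^ 2 * x) (c ^ 2 * y) = b x y) (x y : F) : b x y = 0 := by
  have k : ∀ c : F, c ≠ 0 → ∀ x y, b x (c⁻¹ ^ 2 * y) = b (c ^ 2 * x) y := fun c hc x y => by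
    rw [← h c hc, ← mul_assoc, ← mul_pow, mul_inv_cancel₀ hc, one_pow, one_mul]
  have a0 : a ≠ 0 := fun e => ha (by rw [e]; ring)
  have a1 : a + 1 ≠ 0 := fun e => ha (by rw [eq_neg_of_add_eq_zero_left e]; ring)
  have a2 : a - 1 ≠ 0 := fun e => ha (by rw [sub_eq_zero.1 e]; ring)
  have E : (a + 1)⁻¹ ^ 2 + (a - 1)⁻¹ ^ 2 - a⁻¹ ^ 2 - a⁻¹ ^ 2 - 1 - 1 ≠ 0 := fun e => ha (by
    field_simp at e
    exact mul_left_cancel₀ h2 (by linear_combination (-(a * (a ^ 2 - 1))) * e))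
  obtain ⟨z, rfl⟩ := mul_left_surjective₀ E y
  simp only [sub_mul, add_mul, map_sub, map_add, one_mul, k _ a0, k _ a1, k _ a2]
  rw [← AddMonoidHom.add_apply, ← AddMonoidHom.sub_apply, ← AddMonoidHom.sub_apply,
    ← AddMonoidHom.sub_apply, ← AddMonoidHom.sub_apply, ← map_add, ← map_sub, ← map_sub, ← map_sub,
    ← map_sub, show (a + 1) ^ 2 * x + (a - 1) ^ 2 * x - a ^ 2 * x - a ^ 2 * x - x - x = 0 by ring,
    map_zero, AddMonoidHom.zero_apply]

theorem mu_p {p : ℕ} [Fact p.Prime] [CharP F p] (ho : Odd (Fintype.card F)) (h7 : 7 ≤ Fintype.card F)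
    (h9 : Fintype.card F ≠ 9) (π : G →* L2 F) (hs : Function.Surjective π) (hk : π.ker = center G)
    (Q : Sylow p (L2 F)) {g h : G} (hg : π g ∈ (Q : Subgroup (L2 F))) (hh : π h ∈ (Q : Subgroup (L2 F))) :
    g * h = h * g := by
  obtain ⟨θ, ⟨-, t1, t2⟩, t3, -, -, t4, -⟩ := F4 Q
  have : ∀ t, ∃ x, π x ∈ (Q : Subgroup (L2 F)) ∧ θ (π x) = t := fun t => by
    obtain ⟨z, z1, z2⟩ := t2 (Set.mem_univ t)
    obtain ⟨x, rfl⟩ := hs z
    exact ⟨x, z1, z2⟩
  choose x x1 x2 using this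
  have c : ∀ g h, π g ∈ (Q : Subgroup (L2 F)) → π h ∈ (Q : Subgroup (L2 F)) → ⁅g, h⁆ ∈ center G :=
    fun g h a b => by
      rw [← hk, MonoidHom.mem_ker, map_commutatorElement, commutatorElement_eq_one_iff_mul_comm]
      exact t1 (mul_mem a b) (mul_mem b a) (by rw [t3 _ a _ b, t3 _ b _ a, add_comm])
  have z : ∀ g, π g ∈ (Q : Subgroup (L2 F)) → ∃ z ∈ center G, x (θ (π g)) = z * g := fun g a =>
    ⟨x (θ (π g)) * g⁻¹, by rw [← hk, MonoidHom.mem_ker, map_mul, map_inv, t1 (x1 _) a (x2 _),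
      mul_inv_cancel], (inv_mul_cancel_right _ _).symm⟩
  have key : ∀ g h, π g ∈ (Q : Subgroup (L2 F)) → π h ∈ (Q : Subgroup (L2 F)) →
      ⁅x (θ (π g)), x (θ (π h))⁆ = ⁅g, h⁆ := fun g h a b => by
    obtain ⟨u, hu, e⟩ := z g a
    obtain ⟨v, hv, f⟩ := z h b
    rw [e, f, commutatorElement_mul_left_eq_conj_mul,
      commutatorElement_eq_one_iff_mul_comm.2 (mem_center_iff.1 hu _).symm, mul_one,
      ← mem_center_iff.1 hu, mul_inv_cancel_right, commutatorElement_mul_right_eq_mul_conj,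
      commutatorElement_eq_one_iff_mul_comm.2 (mem_center_iff.1 hv _), one_mul,
      ← mem_center_iff.1 hv, mul_inv_cancel_right]
  have m : ∀ s t, θ (π (x s * x t)) = s + t := fun s t => by rw [map_mul, t3 _ (x1 s) _ (x1 t), x2, x2]
  have m' : ∀ s t, π (x s * x t) ∈ (Q : Subgroup (L2 F)) := fun s t => map_mul π _ _ ▸ mul_mem (x1 s) (x1 t)
  open scoped IsMulCommutative in
  let b : F →+ F →+ Additive (center G) := AddMonoidHom.mk' (fun s => AddMonoidHom.mk'
    (fun t => Additive.ofMul ⟨⁅x s, x t⁆, c _ _ (x1 s) (x1 t)⟩) fun t t' => Subtype.ext (by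
      have := key _ _ (x1 s) (m' t t')
      rw [x2, m, commutatorElement_mul_right_eq_mul_conj, mul_assoc ⁅x s, x t⁆,
        mem_center_iff.1 (c _ _ (x1 s) (x1 t')), ← mul_assoc, mul_inv_cancel_right] at this
      exact this)) fun s s' => AddMonoidHom.ext fun t => Subtype.ext (by
      have := key _ _ (m' s s') (x1 t)
      rw [x2, m, commutatorElement_mul_left_eq_conj_mul,
        mem_center_iff.1 (c _ _ (x1 s') (x1 t)), mul_inv_cancel_right,
        mem_center_iff.1 (c _ _ (x1 s) (x1 t))] at this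
      exact this)
  obtain ⟨a, ha⟩ := mu_a ho h7 h9
  have h2 : (2 : F) ≠ 0 := Ring.two_ne_zero fun e => by
    have := FiniteField.even_card_of_char_two e
    have := Nat.odd_iff.1 ho
    omega
  open scoped IsMulCommutative in
  have k := mu_b h2 ha b (fun d hc s t => Subtype.ext (by
    obtain ⟨n, n1, n2⟩ := t4 d hc
    obtain ⟨n, rfl⟩ := hs n
    have k : ∀ s, π (n * x s * n⁻¹) ∈ (Q : Subgroup (L2 F)) ∧ θ (π (n * x s * n⁻¹)) = d ^ 2 * s :=
      fun s => by
        rw [map_mul, map_mul, map_inv]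
        exact ⟨(mem_normalizer_iff.1 n1 _).1 (x1 s), by rw [n2 _ (x1 s), x2]⟩
    have := key _ _ (k s).1 (k t).1
    rw [(k s).2, (k t).2, ← conjugate_commutatorElement, mem_center_iff.1 (c _ _ (x1 s) (x1 t)),
      mul_inv_cancel_right] at this
    exact this)) (θ (π g)) (θ (π h))
  exact commutatorElement_eq_one_iff_mul_comm.1 ((key g h hg hh).symm.trans (congrArg Subtype.val k))

theorem MU (hp : commutator G = ⊤) (ho : Odd (Nat.card (center G)))
    (h : L2e (G ⧸ center G) ∨ (L2o (G ⧸ center G) ∧ ¬ 8 ∣ Nat.card (G ⧸ center G))) :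
    center G = ⊥ := by
  by_contra k
  obtain ⟨r, hr, hd⟩ := exists_prime_dvd_card k
  haveI := Fact.mk hr
  have r2 : r ≠ 2 := fun e => ho.not_two_dvd_nat (e ▸ hd)
  obtain ⟨F, _, _, ⟨e⟩, hF⟩ : ∃ (F : Type) (_ : Field F) (_ : Fintype F),
      Nonempty (G ⧸ center G ≃* L2 F) ∧ (CharP F r → Odd (Fintype.card F) ∧ 7 ≤ Fintype.card F ∧
        Fintype.card F ≠ 9) := by
    rcases h with ⟨F, _, _, h1, -, h2⟩ | ⟨⟨F, _, _, h1, h2, ⟨e⟩⟩, h3⟩
    · exact ⟨F, _, inferInstance, h2, fun h3 => absurd (CharP.eq F h3 h1) r2⟩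
    refine ⟨F, _, _, ⟨e⟩, fun _ => ⟨h1, h2, fun h4 => h3 ?_⟩⟩
    have := BW.Z2.card_PSL2 h1
    rw [h4, ← Nat.card_congr e.toEquiv] at this
    omega
  let π : G →* L2 F := e.toMonoidHom.comp (QuotientGroup.mk' _)
  have hs : Function.Surjective π := e.surjective.comp (QuotientGroup.mk'_surjective _)
  have hk : π.ker = center G := by
    rw [← MonoidHom.comap_ker, (MonoidHom.ker_eq_bot_iff _).2 e.injective, MonoidHom.comap_bot,
      QuotientGroup.ker_mk']
  obtain ⟨R⟩ : Nonempty (Sylow r G) := inferInstance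
  have pR := R.isPGroup'.map π
  have ab : IsMulCommutative (R : Subgroup G) := by
    by_cases c : CharP F r
    · obtain ⟨Q, hQ⟩ := pR.exists_le_sylow
      exact ⟨⟨fun a b => Subtype.ext (mu_p (hF c).1 (hF c).2.1 (hF c).2.2 π hs hk Q
        (hQ (mem_map_of_mem _ a.2)) (hQ (mem_map_of_mem _ b.2)))⟩⟩
    haveI : IsCyclic ((R : Subgroup G).map π) := by
      by_cases k : (R : Subgroup G).map π = ⊥
      · rw [k]; infer_instance
      obtain ⟨x, hx, x1⟩ := exists_ne_one_of_ne_bot (ctr_ne_bot (isNilpotent_of_isPGroup pR) k)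
      obtain ⟨n, hn⟩ := (IsPGroup.iff_orderOf.1 pR) ⟨x, hx.1⟩
      rw [orderOf_mk] at hn
      obtain ⟨p, c', m, hp, hm⟩ := FiniteField.card' F
      refine isCyclic_of_le' (le_cent1_iff.2 hx.2) (F3 (fun j => x1 (orderOf_eq_one_iff.1
        (Nat.Coprime.eq_one_of_dvd ?_ (orderOf_dvd_of_pow_eq_one ((sq x).trans j))))) ?_).1
      · exact hn ▸ Nat.Coprime.pow_left n ((Nat.coprime_primes hr Nat.prime_two).2 r2)
      · rw [hn, hm]
        exact Nat.Coprime.pow _ _ ((Nat.coprime_primes hr hp).2 fun j => c (j ▸ c'))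
    exact (π.subgroupMap R).isMulCommutative_of_isCyclic_of_ker_le_center fun x hx =>
      mem_center_iff.2 fun y => Subtype.ext (mem_center_iff.1 (hk.le (congrArg Subtype.val hx)) y)
  have k1 := abelian_hall_inf_commutator_inf_center (R : Subgroup G) ab R.card_coprime_index
  rw [hp, inf_top_eq] at k1
  exact ((sylow_isSylowIn_top R).inf_of_normal le_top le_normalizer_of_normal).eq_bot_iff.1 k1 hd

end Cfsg.Agent.MC
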