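import Cfsg.Agent.MC.QO1
import Cfsg.Agent.MC.Z1
import Cfsg.Agent.BW.Main

/-! Piece QE, first part. -/

set_option autoImplicit false
set_option linter.unusedSectionVars false

namespace Cfsg.Agent.MC

open Subgroup Cfsg.Agent.FT

universe u
variable {G : Type u} [Group G] [Finite G] {P : Subgroup G} {x y n t s g : G}

local notation "π" => QuotientGroup.mk' (center G)

theorem qe_z (e : π n * π x = π x * π n) : ∃ z ∈ center G, n * x * n⁻¹ = x * z :=
  ⟨x⁻¹ * (n * x * n⁻¹), qo_one.1 (by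
    rw [map_mul, map_mul, map_mul, e, map_inv, map_inv]; group), by group⟩

theorem qe_zc {z : G} (hz : z ∈ center G) : n * (x * z) = x * z * n ↔ n * x = x * n := by
  rw [mul_assoc, ← mem_center_iff.1 hz n, ← mul_assoc, ← mul_assoc, mul_left_inj]

theorem qe_cc {x' : G} (e : π x' = π g * π x * (π g)⁻¹) :
    n * x' = x' * n ↔ g⁻¹ * n * g * x = x * (g⁻¹ * n * g) := by
  have hz : (g * x * g⁻¹)⁻¹ * x' ∈ center G := qo_one.1 (by
    rw [map_mul, map_inv, map_mul, map_mul, map_inv, e, inv_mul_cancel])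
  rw [← mul_inv_cancel_left (g * x * g⁻¹) x', qe_zc hz]
  constructor
  · intro h
    calc g⁻¹ * n * g * x = g⁻¹ * (n * (g * x * g⁻¹)) * g := by group
      _ = _ := by rw [h]; group
  · intro h
    calc n * (g * x * g⁻¹) = g * (g⁻¹ * n * g * x) * g⁻¹ := by group
      _ = _ := by rw [h]; group

theorem qe_nc (e : π y * π x = π x * π y) : y ∈ 𝐍(𝐂[x]) :=
  mem_normalizer_of_conj_mem fun c hc => mem_cent1_iff.2 ((qe_cc (g := y) (x := x)
    (by rw [e, mul_inv_cancel_right])).2 (by simpa [mul_assoc] using mem_cent1_iff.1 hc))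

theorem qe_Q (hx : π x * π x = 1) (e : π n * π x = π x * π n) : n * n ∈ 𝐂[x] := by
  obtain ⟨z, hz, e1⟩ := qe_z e
  have h1 : x * x ∈ center G := qo_one.1 (by rw [map_mul, hx])
  have h2 : z * z = 1 := by
    have : x * z * (x * z) = x * x := by
      rw [← e1, conj_mul, mem_center_iff.1 h1 n, mul_inv_cancel_right]
    rw [mul_assoc, ← mul_assoc z, ← mem_center_iff.1 hz x, mul_assoc, ← mul_assoc] at this
    exact mul_left_cancel (this.trans (mul_one _).symm)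
  rw [mem_cent1_iff, ← mul_inv_eq_iff_eq_mul]
  calc n * n * x * (n * n)⁻¹ = n * (n * x * n⁻¹) * n⁻¹ := by group
    _ = n * (x * z) * n⁻¹ := by rw [e1]
    _ = n * x * n⁻¹ * z := by
      rw [mul_assoc (n * x) n⁻¹ z, mem_center_iff.1 hz n⁻¹]; simp only [mul_assoc]
    _ = x := by rw [e1, mul_assoc, h2, mul_one]

theorem qe_pc (hx : x ∉ center G) : 𝐂[x] ≠ ⊤ := fun e =>
  hx (mem_center_iff.2 fun g => mem_cent1_iff.1 (e ▸ mem_top g))

theorem qe_ZC (x : G) : center G ≤ 𝐂[x] := fun _ hz => mem_cent1_iff.2 (mem_center_iff.1 hz x).symm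

theorem qe_N (hP : PCA G) (hs : SZ G) (hx : x ∉ center G) (na : ¬ 𝐂[x] ≤ 𝐂(𝐂[x]))
    (e : π y * π x = π x * π y) : y * x = x * y := by
  have h1 : 𝐍(𝐂[x]) ≠ ⊤ := fun k => by
    have := normalizer_eq_top_iff.1 k
    rcases hs.z_nrm 𝐂[x] with k1 | k1
    · exact hx (k1 (mem_cent1_self x))
    · exact qe_pc hx ((sup_of_le_left (qe_ZC x)).symm.trans k1)
  exact mem_cent_iff.1 ((hP _ h1).r_cent (le_normalizer (mem_cent1_self x)) le_normalizer
    (le_cent1_iff.1 le_rfl) na) y (qe_nc e)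

theorem qe_cm (e : y * x = x * y) : π y * π x = π x * π y := by rw [← map_mul, ← map_mul, e]

theorem qe_dec (hS : Syl 2 P ⊤) (hx : π x * π x = 1) (hc : ∀ y ∈ P, π y * π x = π x * π y) :
    Syl 2 (P ⊓ 𝐂[x]) 𝐂[x] ∧ ∀ n, π n * π x = π x * π n → ∃ k ∈ 𝐂[x], ∃ p ∈ P, k * p = n := by
  have hN : 𝐂[x] ⊴ (𝐂[π x]).comap π := ⟨fun c hc => mem_cent1_iff.2 (qe_cm (mem_cent1_iff.1 hc)),
    fun n hn => qe_nc (mem_cent1_iff.1 hn)⟩
  have hP : P ≤ (𝐂[π x]).comap π := fun y hy => mem_cent1_iff.2 (hc y hy)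
  have h1 := hS.of_le hP le_top
  refine ⟨Syl.inf_of_nrm h1 hN, fun n hn => ?_⟩
  have h2 := Hall.sup_eq_of_relIndex (Syl.hall h1) hN.le ((piG_bar_iff hN.norm).1
    (piG_of_isPGroup (H2.isPGroup_of_forall_pow_eq_one fun a ha => by
      obtain ⟨b, hb, rfl⟩ := (mem_bar' hN.norm).1 ha
      rw [sq, ← coset_mul (hN.norm hb) (hN.norm hb)]
      exact coset_eq_one (qe_Q hx (mem_cent1_iff.1 hb))) rfl))
  rw [sup_comm] at h2
  exact (mem_sup_of_le_normalizer' (hP.trans hN.norm)).1 (h2.ge (mem_cent1_iff.2 hn))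

/-- the centralizer of `x` has index at most two in the preimage of the centralizer -/
def QI (x : G) : Prop := ∀ n m : G, π n * π x = π x * π n → π m * π x = π x * π m →
  n * x ≠ x * n → m * x ≠ x * m → n * m * x = x * (n * m)

theorem QI.conj (h : QI x) {x' : G} (e : π x' = π g * π x * (π g)⁻¹) : QI x' := by
  have k : ∀ n, π n * π x' = π x' * π n → π (g⁻¹ * n * g) * π x = π x * π (g⁻¹ * n * g) :=
    fun n hn => by
    rw [e] at hn
    rw [map_mul, map_mul, map_inv]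
    calc _ = (π g)⁻¹ * (π n * (π g * π x * (π g)⁻¹)) * π g := by group
      _ = _ := by rw [hn]; group
  intro n m h1 h2 h3 h4
  rw [Ne, qe_cc e] at h3 h4
  rw [qe_cc e, show g⁻¹ * (n * m) * g = g⁻¹ * n * g * (g⁻¹ * m * g) by group]
  exact h _ _ (k n h1) (k m h2) h3 h4

theorem qe_I (hS : Syl 2 P ⊤) (hx : π x * π x = 1) (hc : ∀ y ∈ P, π y * π x = π x * π y)
    (hs : s ∈ P) (two : ∀ y ∈ P, y ∈ 𝐂[x] ∨ y * s ∈ 𝐂[x]) : QI x := by
  have ns := qe_nc (hc s hs)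
  have k : ∀ n, π n * π x = π x * π n → n * x ≠ x * n → coset 𝐂[x] n = (coset 𝐂[x] s)⁻¹ :=
    fun n h1 h2 => by
    obtain ⟨k, hk, p, hp, rfl⟩ := (qe_dec hS hx hc).2 n h1
    have np := qe_nc (hc p hp)
    rw [coset_mul (le_normalizer hk) np, coset_eq_one hk, one_mul, eq_inv_iff_mul_eq_one,
      ← coset_mul np ns]
    exact coset_eq_one ((two p hp).resolve_left fun h => h2 (mem_cent1_iff.1 (mul_mem hk h)))
  intro n m h1 h2 h3 h4
  rw [← mem_cent1_iff, ← coset_eq_one_iff (mul_mem (qe_nc h1) (qe_nc h2)),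
    coset_mul (qe_nc h1) (qe_nc h2), k n h1 h3, k m h2 h4, ← mul_inv_rev, ← coset_mul ns ns,
    coset_eq_one (qe_Q hx (hc s hs)), inv_one]

theorem qe_nrm (P : Sylow 2 G) (hg : π g ∈ 𝐍((P : Subgroup G).map π)) :
    g ∈ 𝐍((P : Subgroup G)) := by
  refine mem_normalizer_of_conj_mem fun x hx => ?_
  obtain ⟨w, hw, e1⟩ := conj_mem_of_mem_normalizer hg (x := π x) ⟨x, hx, rfl⟩
  have hz : w⁻¹ * (g * x * g⁻¹) ∈ center G := qo_one.1 (by
    rw [map_mul, map_inv, e1, map_mul, map_mul, map_inv, inv_mul_cancel])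
  refine (zpowers_le (G := G)).1 ((H1.sylow_isSylowIn_top P).le_of_le_normalizer ?_ le_top
    ((zpowers_le (G := G)).2 ?_))
  · rw [← cj_zpowers]
    exact isPGroup_cj g (P.isPGroup'.to_le ((zpowers_le (G := G)).2 hx))
  · rw [← mul_inv_cancel_left w (g * x * g⁻¹)]
    exact mul_mem (le_normalizer hw) (cent_le_norm _ (mem_cent_iff.2 fun a _ =>
      mem_center_iff.1 hz a))

/-- the dihedral configuration -/
structure QU (P : Sylow 2 G) (t s : G) : Prop where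
  pca : PCA G
  sz : SZ G
  tP : t ∈ (P : Subgroup G)
  sP : s ∈ (P : Subgroup G)
  t2 : orderOf (π t) = 2
  st : s ∉ 𝐂[t]
  two : ∀ y ∈ (P : Subgroup G), y ∈ 𝐂[t] ∨ y * s ∈ 𝐂[t]
  cen : ∀ y ∈ (P : Subgroup G), π y * π t = π t * π y
  out : ∀ y ∈ (P : Subgroup G), y ∉ 𝐂[t] → π y * π y = 1
  uniq : ∀ y ∈ (P : Subgroup G), y ∈ 𝐂[t] → orderOf (π y) = 2 → π y = π t
  conj : ∀ u : G ⧸ center G, orderOf u = 2 → IsConj (π t) u
  ab : ∀ x : G, orderOf (π x) = 2 → 𝐂[x] ≤ 𝐂(𝐂[x])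

namespace QU

variable {P : Sylow 2 G} (h : QU P t s)
include h

theorem tt : π t * π t = 1 := by rw [← sq, ← h.t2, pow_orderOf_eq_one]

theorem qi (hx : orderOf (π x) = 2) : QI x := by
  obtain ⟨g, hg⟩ := isConj_iff.1 (h.conj _ hx)
  obtain ⟨g, rfl⟩ := QuotientGroup.mk'_surjective _ g
  exact (qe_I (H1.sylow_isSylowIn_top P) h.tt h.cen h.sP h.two).conj hg.symm

theorem ord (hy : y ∈ (P : Subgroup G)) (h1 : y ∉ 𝐂[t]) : orderOf (π y) = 2 :=
  orderOf_eq_prime (by rw [sq, h.out y hy h1]) fun e =>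
    h1 (mem_cent1_iff.2 (mem_center_iff.1 (qo_one.1 e) t).symm)

theorem gen : (P : Subgroup G).map π ≤
    closure {u | u ∈ (P : Subgroup G).map π ∧ orderOf u = 2} := by
  have k : ∀ y ∈ (P : Subgroup G), y ∉ 𝐂[t] →
      π y ∈ closure {u | u ∈ (P : Subgroup G).map π ∧ orderOf u = 2} := fun y hy h1 =>
    subset_closure ⟨⟨y, hy, rfl⟩, h.ord hy h1⟩
  rintro _ ⟨y, hy, rfl⟩
  by_cases h1 : y ∈ 𝐂[t]
  · rw [← mul_inv_cancel_right y s, map_mul, map_inv]
    exact mul_mem (k _ (mul_mem hy h.sP) fun e => h.st ((mul_mem_cancel_left h1).1 e))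
      (inv_mem (k s h.sP h.st))
  · exact k y hy h1

theorem ba {M : Subgroup (G ⧸ center G)} (hM : M ≠ ⊤) (h1 : 𝐍((P : Subgroup G)).map π ≤ M)
    (h2 : ∀ u ∈ (P : Subgroup G), orderOf (π u) = 2 → (𝐂[u]).map π ≤ M) : L2e (G ⧸ center G) := by
  have := h.sz.1
  refine BA h.sz.2 (P.mapSurjective (QuotientGroup.mk'_surjective _)) hM (fun g hg => ?_) ?_
    (.inr h.gen)
  · obtain ⟨g, rfl⟩ := QuotientGroup.mk'_surjective _ g
    exact h1 ⟨g, qe_nrm P hg, rfl⟩
  rintro _ ⟨u, hu, rfl⟩ o g hg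
  obtain ⟨g, rfl⟩ := QuotientGroup.mk'_surjective _ g
  by_cases k : g * u = u * g
  · exact h2 u hu o ⟨g, mem_cent1_iff.2 k, rfl⟩
  obtain ⟨p, hp, p1, p2⟩ : ∃ p ∈ (P : Subgroup G), π p * π u = π u * π p ∧ p * u ≠ u * p := by
    by_cases ut : u ∈ 𝐂[t]
    · have e := h.uniq u hu ut o
      refine ⟨s, h.sP, by rw [e]; exact h.cen s h.sP, fun k => h.st (mem_cent1_iff.2 ?_)⟩
      simpa using (qe_cc (g := 1) (x := t) (by simpa using e)).1 k
    · exact ⟨t, h.tP, (h.cen u hu).symm, fun k => ut (mem_cent1_iff.2 k.symm)⟩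
  have := h2 u hu o ⟨_, mem_cent1_iff.2 (h.qi o g p (mem_cent1_iff.1 hg) p1 k p2), rfl⟩
  rw [map_mul] at this
  exact (mul_mem_cancel_right (h1 ⟨p, le_normalizer hp, rfl⟩)).1 this

theorem dec (hk : x ∈ 𝐂[t]) : ∃ a ∈ (P : Subgroup G) ⊓ 𝐂[t], ∃ o ∈ core {2}ᶜ 𝐂[t], a * o = x := by
  have c := h.ab t h.t2
  have hn : Group.IsNilpotent 𝐂[t] := by
    have := comm_iff_le_cent.2 c
    letI : CommGroup 𝐂[t] := { mul_comm := fun a b => mul_comm' a b }
    infer_instance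
  rw [← Hall.sup_eq (Syl.hall (qe_dec (H1.sylow_isSylowIn_top P) h.tt h.cen).1)
    (hall_core_of_nil _ hn)] at hk
  exact (mem_sup_of_le_normalizer (inf_le_right.trans (core_nrm _ _).norm)).1 hk

theorem uq {u : G ⧸ center G} (hu : u ∈ (𝐂[t]).map π) (o : orderOf u = 2) : u = π t := by
  obtain ⟨x, hx, rfl⟩ := hu
  obtain ⟨a, ha, b, hb, rfl⟩ := h.dec hx
  have ob : Odd (orderOf (π b)) := (qo_odd (core_piG _ _) hb).of_dvd_nat (orderOf_map_dvd _ _)
  obtain ⟨k, hk⟩ := P.isPGroup' ⟨a, ha.1⟩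
  have e1 : π a ^ 2 ^ (k + 1) = 1 := by
    rw [← map_pow, pow_succ, pow_mul, show a ^ 2 ^ k = 1 from congrArg Subtype.val hk, one_pow,
      map_one]
  have e2 : π (a * b) ^ 2 ^ (k + 1) = 1 := by
    rw [pow_succ', pow_mul, ← o, pow_orderOf_eq_one, one_pow]
  rw [map_mul, Commute.mul_pow (qe_cm (mem_cent_iff.1 (h.ab t h.t2 (core_le _ _ hb)) a ha.2)), e1,
    one_mul] at e2
  have e3 : π b = 1 := orderOf_eq_one_iff.1 (Nat.eq_one_of_dvd_coprimes
    ((Nat.coprime_two_left.2 ob).pow_left _) (orderOf_dvd_of_pow_eq_one e2) dvd_rfl)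
  rw [map_mul, e3, mul_one] at o ⊢
  exact h.uniq a ha.1 ha.2 o

theorem ce {g : G ⧸ center G} :
    g * π t = π t * g ↔ g ∈ (𝐂[t]).map π ∨ g * π s ∈ (𝐂[t]).map π := by
  obtain ⟨g, rfl⟩ := QuotientGroup.mk'_surjective _ g
  rw [← map_mul π g s, qo_mem (qe_ZC t), qo_mem (qe_ZC t), mem_cent1_iff, mem_cent1_iff]
  refine ⟨fun e => ?_, ?_⟩
  · by_cases k : g * t = t * g
    · exact .inl k
    · exact .inr (h.qi h.t2 g s e (h.cen s h.sP) k fun k => h.st (mem_cent1_iff.2 k))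
  · rintro (k | k)
    · exact qe_cm k
    · have := qe_cm k
      rw [map_mul, mul_assoc, h.cen s h.sP, ← mul_assoc, ← mul_assoc] at this
      exact mul_right_cancel this

theorem main : L2e (G ⧸ center G) ∨ L2o (G ⧸ center G) := by
  have := h.sz.1
  have c := h.ab t h.t2
  have nP : ¬ (P : Subgroup G) ≤ 𝐂((P : Subgroup G)) := fun k =>
    h.st (mem_cent1_iff.2 (mem_cent_iff.1 (k h.tP) s h.sP))
  by_cases hy : ∃ y ∈ core {2}ᶜ 𝐂[t], y ∉ center G ∧ y * s = s * y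
  · obtain ⟨y, hy, yZ, ys⟩ := hy
    have yP : y ∈ 𝐂((P : Subgroup G)) := mem_cent_iff.2 fun a ha => by
      rcases h.two a ha with k | k
      · exact mem_cent_iff.1 (c (core_le _ _ hy)) a k
      · have := mem_cent_iff.1 (c (core_le _ _ hy)) _ k
        rw [mul_assoc, ← ys, ← mul_assoc, ← mul_assoc] at this
        exact mul_right_cancel this
    refine .inl (h.ba (M := (𝐂[y]).map π) (fun e => qe_pc yZ (eq_top_iff.2 fun g _ =>
      (qo_mem (qe_ZC y)).1 (e ▸ mem_top _))) (map_mono (le_cent1_iff.2 ?_)) fun u hu o =>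
        map_mono (le_cent1_iff.2 (h.ab u o (mem_cent1_iff.2 (mem_cent_iff.1 yP u hu).symm))))
    refine (h.pca _ fun e => ?_).r_cent (cent_le_norm _ yP) le_normalizer yP nP
    rcases ((normalizer_eq_top_iff.1 e).map π (QuotientGroup.mk'_surjective _)).eq_bot_or_eq_top
      with k | k
    · have e1 := h.t2
      rw [show π t = 1 from mem_bot.1 (k ▸ mem_map_of_mem π h.tP), orderOf_one] at e1
      omega
    · have := isSolvable_of_isPGroup (P.isPGroup'.map π)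
      rw [k] at this
      exact ba_nsol h.sz.2 (Group.isSolvable_of_surjective (f := (⊤ : Subgroup (G ⧸ center G)).subtype)
        fun g => ⟨⟨g, trivial⟩, rfl⟩)
  have s2 := h.ord h.sP h.st
  have ss := h.out s h.sP h.st
  have si : (π s)⁻¹ = π s := inv_eq_of_mul_eq_one_right ss
  have cK : ∀ x ∈ (𝐂[t]).map π, ∀ y ∈ (𝐂[t]).map π, x * y = y * x := by
    rintro _ ⟨x, hx, rfl⟩ _ ⟨y, hy, rfl⟩
    exact qe_cm (mem_cent_iff.1 (c hy) x hx)
  have iv : ∀ x ∈ (𝐂[t]).map π, π s * x * (π s)⁻¹ = x⁻¹ := by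
    rintro _ ⟨x, hx, rfl⟩
    obtain ⟨a, ha, b, hb, rfl⟩ := h.dec hx
    have e1 : π s * π a * (π s)⁻¹ = (π a)⁻¹ := by
      have := h.out _ (mul_mem ha.1 h.sP) fun e => h.st (((𝐂[t]).mul_mem_cancel_left ha.2).1 e)
      rw [map_mul, mul_assoc] at this
      rw [si, mul_assoc]
      exact eq_inv_of_mul_eq_one_right this
    have e2 : π s * π b * (π s)⁻¹ = (π b)⁻¹ := H3.inverts_of_fixedPointFree
      (N := (core {2}ᶜ 𝐂[t]).map π) ss (le_normalizer_map π ⟨s, normalizer_le_normalizer_core _ _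
        (qe_nc (h.cen s h.sP)), rfl⟩) (by
        rintro _ ⟨y, y1, rfl⟩ e
        refine qo_one.2 (by_contra fun yZ => hy ⟨y, y1, yZ, mem_cent1_iff.1 ?_⟩)
        obtain ⟨j, hj⟩ := qo_odd (core_piG _ _) y1
        have := pow_mem (qe_Q ss e.symm) (j + 1)
        rwa [← sq, ← pow_mul, show 2 * (j + 1) = orderOf y + 1 by omega, pow_succ,
          pow_orderOf_eq_one, one_mul] at this) ⟨b, hb, rfl⟩
    rw [map_mul, ← conj_mul, e1, e2, ← mul_inv_rev,
      cK _ ⟨a, ha.2, rfl⟩ _ ⟨b, core_le _ _ hb, rfl⟩]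
  have tK : π t ∈ (𝐂[t]).map π := ⟨t, mem_cent1_self t, rfl⟩
  by_cases c4 : 4 ≤ ♯((𝐂[t]).map π)
  · obtain ⟨F, _, _, hF, e⟩ := BW.main (K := (𝐂[t]).map π) (t := π t) (s := π s)
      ⟨h.t2, h.conj, tK, cK, fun u hu o => h.uq hu o, c4, ss,
        fun k => h.st ((qo_mem (qe_ZC t)).1 k), iv, fun g => h.ce, fun x hx x1 g hg => by
      by_cases x2 : x * x = 1
      · rwa [h.uq hx (orderOf_eq_prime (by rw [sq, x2]) x1)] at hg
      have ivx := iv x hx
      obtain ⟨x, hx, rfl⟩ := hx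
      obtain ⟨g, rfl⟩ := QuotientGroup.mk'_surjective _ g
      have ca : 𝐂[x] ≤ 𝐂(𝐂[x]) := by
        have cX : zpowers x ⊔ center G ≤ 𝐂((zpowers x ⊔ center G : Subgroup G)) := by
          have ZC : ∀ X : Subgroup G, center G ≤ 𝐂(X) := fun X z hz =>
            mem_cent_iff.2 fun a _ => mem_center_iff.1 hz a
          rw [cent_sup]
          exact le_inf (sup_le (comm_iff_le_cent.1 inferInstance) (ZC _)) (cent_symm (ZC _))
        have nB : ∀ y : G, π y * π x * (π y)⁻¹ ∈ zpowers (π x) →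
            y ∈ 𝐍((zpowers x ⊔ center G : Subgroup G)) := fun y hy => by
          refine mem_normalizer_of_cj_le ?_
          rw [cj_sup, H1.cj_eq_of_normal y (center G), cj_zpowers]
          refine sup_le ((zpowers_le (G := G)).2 ((qo_mem le_sup_right).1 ?_)) le_sup_right
          rw [map_mul, map_mul, map_inv]
          exact map_mono le_sup_left (MonoidHom.map_zpowers π x ▸ hy)
        have nc : 𝐂[x] ≤ 𝐍((zpowers x ⊔ center G : Subgroup G)) := fun y hy =>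
          nB y (by rw [qe_cm (mem_cent1_iff.1 hy), mul_inv_cancel_right]; exact mem_zpowers _)
        have := (h.pca _ (qo_prop h.sz (fun k => x1 (qo_one.2 (k (mem_sup_left (mem_zpowers x)))))
          cX)).r_ab (nc (mem_cent1_self x)) fun k => x2 (by
            have := qe_cm (mem_cent_iff.1 k s (nB s (by rw [ivx]; exact inv_mem (mem_zpowers _))))
            rw [this, mul_inv_cancel_right] at ivx
            exact mul_eq_one_iff_eq_inv.2 ivx)
        rwa [inf_of_le_right nc] at this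
      have tx : t ∈ 𝐂[x] := mem_cent1_comm.1 hx
      have u1 := mem_cent_iff.1 (ca tx) _ (conj_mem_of_mem_normalizer (qe_nc hg) tx)
      have u2 := h.uq ⟨_, mem_cent1_iff.2 u1, rfl⟩ (by
        rw [map_mul, map_mul, map_inv, qo_oc, h.t2])
      rw [map_mul, map_mul, map_inv] at u2
      exact mul_inv_eq_iff_eq_mul.1 u2⟩
    exact .inr ⟨F, _, _, Nat.odd_iff.2 (by omega), by omega, e⟩
  have e1 : zpowers (π t) = (𝐂[t]).map π := by
    have := card_dvd_of_le ((zpowers_le (G := G ⧸ center G)).2 tK)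
    have := card_pos' ((𝐂[t]).map π)
    rw [Nat.card_zpowers, h.t2] at *
    exact eq_of_le_of_card_le ((zpowers_le (G := G ⧸ center G)).2 tK)
      (by rw [Nat.card_zpowers, h.t2]; omega)
  have e2 : ∀ u : G, orderOf (π u) = 2 → ∀ y ∈ 𝐂[u], π y ∈ zpowers (π u) := fun u o y hy => by
    obtain ⟨g, hg⟩ := isConj_iff.1 (h.conj _ o)
    obtain ⟨g, rfl⟩ := QuotientGroup.mk'_surjective _ g
    have := e1.ge ⟨_, mem_cent1_iff.2 ((qe_cc hg.symm).1 (mem_cent1_iff.1 hy)), rfl⟩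
    rw [← hg, ← cj_zpowers, mem_cj]
    simpa using this
  refine .inl (h.ba (M := 𝐍((P : Subgroup G).map π)) (fun e => ?_) (le_normalizer_map π)
    fun u hu o => ?_)
  · rcases (normalizer_eq_top_iff.1 e).eq_bot_or_eq_top with k | k
    · have e1 := h.t2
      rw [show π t = 1 from mem_bot.1 (k ▸ mem_map_of_mem π h.tP), orderOf_one] at e1
      omega
    · have := isSolvable_of_isPGroup (P.isPGroup'.map π)
      rw [k] at this
      exact ba_nsol h.sz.2 (Group.isSolvable_of_surjective (f := (⊤ : Subgroup (G ⧸ center G)).subtype)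
        fun g => ⟨⟨g, trivial⟩, rfl⟩)
  · rintro _ ⟨y, hy, rfl⟩
    exact le_normalizer ((zpowers_le (G := G ⧸ center G)).2 (mem_map_of_mem π hu) (e2 u o y hy))

end QU

end Cfsg.Agent.MC
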