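import Cfsg.Agent.MC.R1
import Cfsg.Agent.H2.N8
import Cfsg.Agent.H9.Burnside

/-! Minimal non-CA groups, piece R: solvable normal subgroups are central. -/

set_option autoImplicit false
set_option linter.unusedSectionVars false

namespace Cfsg.Agent.MC

open Subgroup Cfsg.Agent.FT
open scoped commutatorElement

universe u
variable {G : Type u} [Group G] [Finite G] {H K X N M B L S P U : Subgroup G} {x y a b : G}

/-- a coprime element acting nontrivially on a nilpotent subgroup fixes only central elements -/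
theorem CA.r_fix (h : CA H) (hN : N ≤ H) (hn : Group.IsNilpotent N) {f : G} (hf : f ∈ H)
    (h1 : f ∈ 𝐍(N)) (hc : (orderOf f).Coprime ♯N) (h2 : f ∉ 𝐂(N)) : N ⊓ 𝐂[f] ≤ 𝐂(H) := by
  intro a ha
  by_contra h3
  refine h2 (cent_symm (H2.le_centralizer_of_self_centralizing (zpowers_le_normalizer h1)
    (by rwa [Nat.card_zpowers]) (H := N ⊓ 𝐂[f]) inf_le_left ?_
    (by rw [cent_zpowers]; exact inf_le_right)) (mem_zpowers f))
  intro c hc'
  exact mem_inf.mpr ⟨hc'.1, mem_cent1_iff.2 (h.r_comm (hN ha.1) h3 (hN hc'.1) hf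
    (mem_cent_iff.1 hc'.2 a ha).symm (mem_cent1_iff.1 ha.2).symm)⟩

/-- `p` odd: the Sylow `2`-subgroup acts through a cyclic group -/
theorem CA.r_cyc {T : Subgroup G} (h : CA (N ⊔ T)) (hn : Group.IsNilpotent N)
    (hT : IsPGroup 2 T) (h1 : T ≤ 𝐍(N)) (hc : (♯T).Coprime ♯N) :
    IsCyclic (bar (T ⊓ 𝐂(N)) T) := by
  set T1 := T ⊓ 𝐂(N) with hT1
  have n1 : T1 ⊴ T := nrm_inf_centralizer h1
  have n2 : N ≤ 𝐍(T1) := (cent_symm (inf_le_right : T1 ≤ 𝐂(N))).trans (cent_le_norm _)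
  by_cases h0 : T ≤ 𝐂(N)
  · rw [bar_eq_bot (le_inf le_rfl h0)]; infer_instance
  have hfix : ∀ f ∈ T, f ∉ 𝐂(N) → N ⊓ 𝐂[f] ≤ 𝐂(N ⊔ T) := fun f hf h2 =>
    h.r_fix le_sup_left hn (mem_sup_right hf) (h1 hf)
      (hc.coprime_dvd_left (orderOf_dvd_card' hf)) h2
  have key : ∀ E ≤ T, ⁅E, E⁆ ≤ T1 → IsCyclic (bar T1 E) := by
    intro E hE h2
    by_contra h3
    have a1 : bar T1 N ≤ bar T1 (N ⊓ 𝐂(T)) := by
      refine H2.le_of_forall_centralizer_le ((comm_bar_iff (hE.trans n1.norm)).2 h2) h3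
        (bar_le_normalizer _ (hE.trans h1))
        (coprime_bar (hc.coprime_dvd_left (card_dvd_of_le' hE)) _) ?_
      intro a ha ha1
      obtain ⟨e, he, rfl⟩ := (mem_bar' (hE.trans n1.norm)).1 ha
      have he' : e ∉ 𝐂(N) := fun e1 => ha1 (coset_eq_one (mem_inf.mpr ⟨hE he, e1⟩))
      have := bar_inf_cent' (N := T1) (A := zpowers e) (K := N)
        (zpowers_le_normalizer (n1.norm (hE he))) (zpowers_le_normalizer (h1 (hE he))) n2
        (by rw [Nat.card_zpowers]; exact hc.coprime_dvd_left (orderOf_dvd_card' (hE he)))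
        (Or.inl inferInstance)
      rw [bar_zpowers (n1.norm (hE he)), cent_zpowers, cent_zpowers] at this
      rw [← this]
      exact bar_mono _ (le_inf inf_le_left ((hfix e (hE he) he').trans (cent_anti le_sup_right)))
    rw [bar_le_bar_iff n2 (inf_le_left.trans n2)] at a1
    have a2 : N ⊓ ((N ⊓ 𝐂(T)) ⊔ T1) = (N ⊓ 𝐂(T)) ⊔ (N ⊓ T1) := by
      rw [inf_comm, ← inf_sup_of_le (H := N) inf_le_left (Or.inl (inf_le_left.trans n2)),
        inf_comm]
    rw [inf_eq_left.2 a1, inf_comm N T1, inf_eq_bot_of_coprime'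
      (hc.coprime_dvd_left (card_dvd_of_le' n1.le)), sup_bot_eq] at a2
    exact h0 (cent_symm (a2.le.trans inf_le_right))
  haveI := isNilpotent_of_isPGroup hT
  by_cases h2 : T1 ≤ 𝐂(T)
  · by_cases h3 : T ≤ 𝐂(T)
    · exact key T le_rfl (by rw [le_cent_iff_commutator.1 h3]; exact bot_le)
    exfalso
    obtain ⟨b, hb, hb1, hb2⟩ := H2.exists_mem_not_mem_commutator_mem (P := T) (K := T)
      (M := T ⊓ 𝐂(T)) le_rfl le_normalizer fun e => h3 (e.trans inf_le_right)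
    have z1 : T ⊓ 𝐂(T) ≤ T1 := fun z hz => mem_inf.mpr ⟨hz.1, cent_anti le_sup_left
      (h.r_cent (mem_sup_right hz.1) le_sup_right hz.2 h3)⟩
    obtain ⟨g, hg, hg1⟩ : ∃ g ∈ T, g * b ≠ b * g := by
      by_contra h4
      push Not at h4
      exact hb1 (mem_inf.mpr ⟨hb, mem_cent_iff.2 h4⟩)
    have hE : zpowers b ⊔ zpowers g ≤ T := sup_le (zpowers_le.2 hb) (zpowers_le.2 hg)
    have h5 : IsCyclic (bar T1 (zpowers b ⊔ zpowers g)) := by
      refine key _ hE ?_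
      rw [← comm_bar_iff (hE.trans n1.norm), bar_sup (zpowers_le.2 (n1.norm hb))
        (zpowers_le.2 (n1.norm hg)), bar_zpowers (n1.norm hb), bar_zpowers (n1.norm hg),
        comm_iff_le_cent, cent_sup, cent_zpowers, cent_zpowers]
      have : coset T1 b * coset T1 g = coset T1 g * coset T1 b := by
        rw [← commutatorElement_eq_one_iff_mul_comm, ← coset_commutator (n1.norm hb) (n1.norm hg)]
        exact coset_eq_one (z1 (hb2 g hg))
      exact sup_le (zpowers_le.2 (mem_inf.mpr ⟨mem_cent1_self _, mem_cent1_iff.2 this⟩))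
        (zpowers_le.2 (mem_inf.mpr ⟨mem_cent1_iff.2 this.symm, mem_cent1_self _⟩))
    have h6 := comm_iff_le_cent.1 (comm_of_bar_cyclic (h2.trans (cent_anti hE)) h5)
    exact hg1 (mem_cent_iff.1 (h6 (mem_sup_left (mem_zpowers b))) g
      (mem_sup_right (mem_zpowers g)))
  · obtain ⟨b, hb, hb1, hb2⟩ := H2.exists_mem_not_mem_commutator_mem (P := T) (K := T1)
      (M := 𝐂(T)) n1.le n1.norm h2
    refine key T le_rfl (le_trans (?_ : _ ≤ T ⊓ 𝐂[b]) fun c hc' => mem_inf.mpr ⟨hc'.1,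
      mem_cent_iff.2 fun n hn' => h.r_comm (mem_sup_right hb.1)
        (fun e => hb1 (cent_anti le_sup_right e)) (mem_sup_left hn') (mem_sup_right hc'.1)
        (mem_cent_iff.1 hb.2 n hn') (mem_cent1_iff.1 hc'.2)⟩)
    refine le_inf (der_le T) (commutator_le.2 fun x hx y hy => mem_cent1_iff.2 ?_)
    let φ : T →* G := MonoidHom.mk' (fun x => ⁅b, (x : G)⁆) fun x y => by
      rw [coe_mul, show ⁅b, (x : G) * y⁆ = ⁅b, (x : G)⁆ * (x * ⁅b, (y : G)⁆ * (x : G)⁻¹) by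
        simp only [commutatorElement_def]; group, mem_cent_iff.1 (hb2 y y.2) x x.2,
        mul_inv_cancel_right]
    have e : φ ⁅(⟨x, hx⟩ : T), ⟨y, hy⟩⁆ = 1 := by
      rw [map_commutatorElement, commutatorElement_eq_one_iff_mul_comm]
      exact mem_cent_iff.1 (hb2 y hy) _ (der_le T (commutator_mem_commutator (n1.le hb) hx))
    exact (commutatorElement_eq_one_iff_mul_comm.1 e).symm

theorem r_dih (ha : a * a = 1) (hb : b * b = 1) :
    Group.IsSolvable (zpowers a ⊔ zpowers b : Subgroup G) := by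
  refine isSolvable_of_le (K := zpowers (a * b) ⊔ zpowers a) (sup_le le_sup_right (zpowers_le.2 ?_))
    (isSolvable_sup inferInstance inferInstance (zpowers_le_normalizer
      (mem_normalizer_of_cj_le ?_)))
  · simpa using mul_mem (inv_mem (mem_sup_right (mem_zpowers a)))
      (mem_sup_left (T := zpowers a) (mem_zpowers (a * b)))
  · rw [cj_zpowers, zpowers_le, show a * (a * b) * a⁻¹ = (a * b)⁻¹ by
      rw [← mul_assoc, ha, one_mul, mul_inv_rev, inv_eq_of_mul_eq_one_left hb]]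
    exact inv_mem (mem_zpowers _)

theorem r_res (hN : N ⊴ ⊤) (hs : ¬ Group.IsSolvable N) :
    ∃ L ≤ N, L ⊴ ⊤ ∧ L ≠ ⊥ ∧ ⁅L, L⁆ = L := by
  obtain ⟨L, ⟨h1, h2, h3⟩, h4⟩ := wellFounded_lt.has_min
    {L : Subgroup G | L ≤ N ∧ L ⊴ ⊤ ∧ ¬ Group.IsSolvable L} ⟨N, le_rfl, hN, hs⟩
  refine ⟨L, h1, h2, fun e => h3 (e ▸ inferInstance), by_contra fun e => ?_⟩
  refine h4 ⁅L, L⁆ ⟨(der_le L).trans h1, h2.commutator h2, fun k => h3 ?_⟩ ((der_le L).lt_of_ne e)
  exact isSolvable_of_bar (der_nrm L).norm k (isSolvable_of_nil (isNilpotent_of_comm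
    ((comm_bar_iff (der_nrm L).norm).2 le_rfl)))

theorem r_nZ (X : Subgroup G) : X ≤ 𝐍(center G) := le_normalizer_of_normal

theorem r_memC : coset (center G) y ∈ 𝐂(bar (center G) U) ↔ ∀ u ∈ U, ⁅y, u⁆ ∈ center G := by
  have n : ∀ x : G, x ∈ 𝐍(center G) := fun x => r_nZ ⊤ trivial
  rw [mem_cent_iff]
  refine ⟨fun h u hu => ?_, fun h w hw => ?_⟩
  · rw [← coset_eq_one_iff (n _), coset_commutator (n _) (n _), commutatorElement_eq_one_iff_mul_comm]
    exact (h _ (coset_mem_bar _ hu)).symm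
  · obtain ⟨u, hu, rfl⟩ := (mem_bar' (r_nZ U)).1 hw
    rw [eq_comm, ← commutatorElement_eq_one_iff_mul_comm, ← coset_commutator (n _) (n _)]
    exact coset_eq_one (h u hu)

/-- the configuration of a minimal non-central solvable normal subgroup -/
structure RAH (L U : Subgroup G) : Prop where
  pca : PCA G
  ns : ∀ H : Subgroup G, Group.IsSolvable H → H ≠ ⊤
  perf : ⁅L, L⁆ = L
  cL : 𝐂(L) ≤ center G
  nU : U ⊴ ⊤
  nc : ¬ U ≤ center G
  min : ∀ X, X ⊴ ⊤ → X < U → X ≤ center G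

namespace RAH

variable (h : RAH L U)
include h

theorem nsC : ¬ Group.IsSolvable (bar 𝐂(U) ⊤) := fun k =>
  h.nc ((cent_symm (r_perf h.perf (le_normalizer_centralizer (le_top.trans h.nU.norm))
    (isSolvable_of_le (bar_mono _ le_top) k))).trans h.cL)

theorem nW : bar (center G) ⊤ ≤ 𝐍(𝐂(bar (center G) U)) :=
  le_normalizer_centralizer (bar_le_normalizer _ h.nU.norm)

theorem nsW : ¬ Group.IsSolvable (bar 𝐂(bar (center G) U) (bar (center G) ⊤)) := fun k => by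
  have h1 := (bar_le_cent_iff (r_nZ L) (r_nZ U)).1 (r_perf (L := bar (center G) L)
    (by rw [← bar_commutator (r_nZ L) (r_nZ L), h.perf]) ((bar_mono _ le_top).trans h.nW)
    (isSolvable_of_le (bar_mono _ (bar_mono _ le_top)) k))
  have h2 : ⁅⁅L, U⁆, L⁆ = ⊥ :=
    le_cent_iff_commutator.1 (h1.trans (by rw [← r_ctr]; exact cent_anti le_top))
  refine h.nc (le_trans ?_ h.cL)
  rw [le_cent_iff_commutator', ← h.perf]
  exact commutator_commutator_eq_bot_of_rotate h2 (by rwa [commutator_comm U])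

theorem odd {r : ℕ} [Fact r.Prime] (hU : IsPGroup r U) (r2 : r ≠ 2) : False := by
  obtain ⟨T, hT⟩ := exists_syl 2 (⊤ : Subgroup G)
  have n : T ≤ 𝐍(U) := le_top.trans h.nU.norm
  have h1 := (h.pca _ (h.ns _ (isSolvable_sup (isSolvable_of_isPGroup hU)
    (isSolvable_of_isPGroup hT.isPGroup) n))).r_cyc (isNilpotent_of_isPGroup hU) hT.isPGroup n
    (coprime_of_isPGroup_ne hT.isPGroup hU r2.symm)
  exact h.nsC (r_sol_pNil (cyclic_pdiv_normal_complement
    (Syl.bar hT (le_normalizer_centralizer h.nU.norm))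
    (isCyclic_bar_mono (nrm_inf_centralizer n).norm (le_normalizer_centralizer n)
      (inf_le_right.trans inf_le_right) h1) fun r hr _ => hr.two_le))

theorem sq (hU : IsPGroup 2 U) {u : G} (hu : u ∈ U) : u * u ∈ center G := by
  rw [← pow_two]
  exact h.min _ ⟨le_top, le_normalizer_phi h.nU.norm⟩ (phi_lt fun e => h.nc (e ▸ bot_le))
    (pow_mem_phi hU hu)

theorem jj (ab : U ≤ 𝐂(U)) (h1 : y ∉ 𝐂(U)) (h2 : y * y ∈ 𝐂(U)) : U ⊓ 𝐂[y] ≤ center G := by
  have n := le_normalizer_centralizer h.nU.norm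
  refine h.min _ ⟨le_top, fun g _ => ?_⟩ (inf_le_left.lt_of_ne fun e =>
    h1 (le_cent1_iff.1 (inf_eq_left.1 e)))
  rw [← cj_eq_iff_mem_normalizer, eq_comm]
  refine eq_of_le_of_card_le ?_ (card_cj _ _).le
  rw [cj_inf, h.nU.cj_eq (mem_top g), cj_cent1]
  refine le_inf inf_le_left fun u hu => ?_
  have h3 : 𝐂(U) ⊔ (zpowers y ⊔ zpowers (g * y * g⁻¹)) ≠ ⊤ := fun e => h.nsC (by
    rw [← e, bar_self_sup (le_top.trans n), bar_sup (le_top.trans n) (le_top.trans n),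
      bar_zpowers (n trivial), bar_zpowers (n trivial)]
    refine r_dih ?_ ?_
    · rw [← coset_mul (n trivial) (n trivial)]; exact coset_eq_one h2
    · rw [← coset_mul (n trivial) (n trivial), conj_mul]
      exact coset_eq_one (conj_mem_of_mem_normalizer (n trivial) h2))
  have h4 := (h.pca _ h3).r_cent (B := U ⊔ zpowers y) (mem_sup_left (ab hu.1))
    (sup_le_sup ab le_sup_left) (by rw [cent_sup, cent_zpowers]; exact ⟨ab hu.1, hu.2⟩)
    fun e => h1 (cent_anti le_sup_left (e (mem_sup_right (mem_zpowers y))))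
  exact cent_le_cent1 (mem_sup_right (mem_sup_right (mem_zpowers _))) h4

theorem ab2 (hU : IsPGroup 2 U) (ab : U ≤ 𝐂(U)) : False := by
  obtain ⟨w, hw, w2⟩ := exists_orderOf_eq_prime Nat.prime_two
    (by_contra fun e => h.nsW (r_sol_odd e))
  obtain ⟨v, hv, rfl⟩ := (mem_bar' h.nW).1 hw
  have v1 : v ∉ 𝐂(bar (center G) U) := fun e => by rw [coset_eq_one e, orderOf_one] at w2; omega
  have v2 : v * v ∈ 𝐂(bar (center G) U) := by
    rw [← coset_eq_one_iff (h.nW (mul_mem hv hv)), coset_mul (h.nW hv) (h.nW hv), ← pow_two, ← w2,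
      pow_orderOf_eq_one]
  obtain ⟨y, -, rfl⟩ := (mem_bar' (r_nZ ⊤)).1 hv
  rw [← coset_mul (r_nZ ⊤ trivial) (r_nZ ⊤ trivial), r_memC] at v2
  rw [r_memC] at v1
  push Not at v1
  obtain ⟨u, hu, v1⟩ := v1
  have m1 : ∀ g, ∀ u ∈ U, ⁅g, u⁆ ∈ U := fun g u hu =>
    U.mul_mem (h.nU.conj_mem (mem_top g) hu) (U.inv_mem hu)
  have m2 : ∀ g, ∀ u ∈ U, ⁅g, u⁆ * ⁅g, u⁆ = 1 := fun g u hu => by
    have c1 := mem_cent_iff.1 (ab (h.nU.conj_mem (mem_top g) hu)) _ (inv_mem hu)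
    have c2 := mem_center_iff.1 (h.sq hU hu) g
    calc ⁅g, u⁆ * ⁅g, u⁆ = g * u * g⁻¹ * (u⁻¹ * (g * u * g⁻¹)) * u⁻¹ := by
          simp only [commutatorElement_def]; group
      _ = g * (u * u) * g⁻¹ * (u * u)⁻¹ := by rw [c1]; group
      _ = 1 := by rw [c2]; group
  by_cases e : y * y ∈ 𝐂(U)
  · refine v1 (h.jj ab (fun k => v1 ?_) e ⟨m1 y u hu, mem_cent1_iff.2 ?_⟩)
    · rw [commutatorElement_eq_one_iff_mul_comm.2 (mem_cent_iff.1 k u hu).symm]; exact one_mem _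
    · have c1 := mem_cent_iff.1 e u hu
      have c2 := eq_inv_of_mul_eq_one_left (m2 y u hu)
      calc ⁅y, u⁆ * y = ⁅y, u⁆⁻¹ * y := by rw [← c2]
        _ = u * (y * y) * y⁻¹ * u⁻¹ := by simp only [commutatorElement_def]; group
        _ = _ := by rw [c1]; simp only [commutatorElement_def]; group
  · refine v1 (h.jj ab e (mem_cent_iff.2 fun w hw => ?_) ⟨m1 y u hu, mem_cent1_iff.2 ?_⟩)
    · have c1 := mem_center_iff.1 (v2 w hw) (y * y)
      rw [eq_comm, ← commutatorElement_eq_one_iff_mul_comm, ← m2 (y * y) w hw]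
      generalize y * y = g at c1
      calc ⁅g * g, w⁆ = g * ⁅g, w⁆ * g⁻¹ * ⁅g, w⁆ := by simp only [commutatorElement_def]; group
        _ = _ := by rw [c1]; group
    · have c1 := mem_center_iff.1 (v2 u hu)
      have c2 : y * y * u = ⁅y * y, u⁆ * u * (y * y) := by simp only [commutatorElement_def]; group
      have c3 : y * y * u⁻¹ = u⁻¹ * ⁅y * y, u⁆⁻¹ * (y * y) := by
        simp [commutatorElement_def, mul_assoc]
      generalize ⁅y * y, u⁆ = c at c1 c2 c3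
      symm
      calc y * y * ⁅y, u⁆ = y * (y * y * u) * y⁻¹ * u⁻¹ := by
            simp only [commutatorElement_def]; group
        _ = y * c * u * y⁻¹ * (y * y * u⁻¹) := by rw [c2]; group
        _ = y * c * u * y⁻¹ * u⁻¹ * c⁻¹ * (y * y) := by rw [c3]; group
        _ = c * ⁅y, u⁆ * c⁻¹ * (y * y) := by rw [c1 y]; simp only [commutatorElement_def]; group
        _ = _ := by rw [← c1]; group

theorem nab2 (hU : IsPGroup 2 U) (ab : ¬ U ≤ 𝐂(U)) : False := by
  have zU : U ⊓ 𝐂(U) ≤ center G := h.min _ ⟨le_top, le_normalizer_ctr h.nU.norm⟩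
    (inf_le_left.lt_of_ne fun e => ab (inf_eq_left.1 e))
  have zc : center G ≤ 𝐂(U) := by rw [← r_ctr]; exact cent_anti le_top
  obtain ⟨P, hP, h1⟩ := exists_syl_ge hU le_top
  rcases CA2 hP.isPGroup (h.pca P (h.ns P (isSolvable_of_isPGroup hP.isPGroup))) with
    k | k | ⟨A, a1, a2, a3, -⟩
  · exact ab fun x hx => mem_cent_iff.2 fun y hy => k y (h1 hy) x (h1 hx)
  · have h2 : bar (center G) P ≤ 𝐂(bar (center G) U) := by
      rw [bar_le_cent_iff (r_nZ P) (r_nZ U), commutator_le]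
      intro x hx u hu
      have k' : ∀ x ∈ P, x * x ∈ 𝐂(P) := fun x hx => mem_cent_iff.2 fun y hy => (k x hx y hy).symm
      refine zU ⟨U.mul_mem (h.nU.conj_mem (mem_top x) hu) (U.inv_mem hu), cent_anti h1 ?_⟩
      have c1 := mem_cent_iff.1 (inv_mem (k' x hx)) _ (inv_mem (h1 hu))
      rw [show ⁅x, u⁆ = x * u * (x * u) * (u⁻¹ * (x * x)⁻¹) * u⁻¹ by
        simp only [commutatorElement_def]; group, c1, mul_assoc _ _ u⁻¹, mul_assoc _ _ u⁻¹,
        ← mul_inv_rev]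
      exact mul_mem (k' _ (mul_mem hx (h1 hu))) (mul_mem (inv_mem (k' x hx)) (inv_mem (k' u (h1 hu))))
    have h3 := Syl.bar (Syl.bar hP (r_nZ ⊤)) h.nW
    rw [bar_eq_bot h2] at h3
    exact h.nsW (r_sol_odd (h3.eq_bot_iff.1 rfl))
  have a4 : A ⊓ U ≤ 𝐂(A ⊓ U) := fun x hx => mem_cent_iff.2 fun y hy => a3 y hy.1 x hx.1
  have a5 : (A ⊓ U).relIndex U = 2 := by
    rw [inf_relIndex_right]
    have n : P ≤ 𝐍(A) := (normal_subgroupOf_iff_le_normalizer a1).1 (normal_of_index_eq_two a2)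
    refine ((Nat.dvd_prime Nat.prime_two).1 (a2 ▸ relIndex_dvd_of_nrm n h1)).resolve_left fun e => ?_
    rw [inf_eq_right.2 (relIndex_eq_one.1 e)] at a4
    exact ab a4
  have cyc : ¬ (center G).relIndex U ∣ 2 := fun e => by
    rw [← card_bar (r_nZ U)] at e
    exact ab (comm_iff_le_cent.1 (comm_of_bar_cyclic zc (isCyclic_of_card_dvd_prime e)))
  obtain ⟨g, hg⟩ : ∃ g, ¬ cj g (A ⊓ U) ≤ A ⊓ U := by
    by_contra! e
    exact cyc (a5 ▸ relIndex_dvd_of_le_left U (h.min _ ⟨le_top, fun g _ =>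
      mem_normalizer_of_cj_le (e g)⟩ (inf_le_right.lt_of_ne fun e => ab (e ▸ a4))))
  have b1 : cj g (A ⊓ U) ≤ U := (cj_mono g inf_le_right).trans (h.nU.cj_eq trivial).le
  have b2 : (cj g (A ⊓ U)).relIndex U = 2 := by
    rw [← a5, ← relIndex_cj g (A ⊓ U) U, h.nU.cj_eq trivial]
  have b3 : U ≤ A ⊓ U ⊔ cj g (A ⊓ U) := by
    have := relIndex_mul_relIndex _ _ _ (le_sup_left : A ⊓ U ≤ A ⊓ U ⊔ cj g (A ⊓ U))
      (sup_le inf_le_right b1)
    rw [a5] at this
    rcases (Nat.dvd_prime Nat.prime_two).1 (Dvd.intro _ this) with e | e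
    · exact absurd (le_sup_right.trans (relIndex_eq_one.1 e)) hg
    · rw [e] at this; exact relIndex_eq_one.1 (by omega)
  have b4 : A ⊓ U ⊓ cj g (A ⊓ U) ≤ center G := by
    refine le_trans (le_inf (inf_le_right.trans b1) (le_trans ?_ (cent_anti b3))) zU
    rw [cent_sup]
    exact inf_le_inf a4 (by rw [← cj_centralizer]; exact cj_mono g a4)
  have b5 : (center G).relIndex U ≤ 4 := by
    have := relIndex_inf_le (H := A ⊓ U) (K := cj g (A ⊓ U)) (L := U)
    rw [a5, b2] at this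
    exact (Nat.le_of_dvd (relIndex_pos _ _) (relIndex_dvd_of_le_left U b4)).trans this
  obtain ⟨m, hm⟩ := IsPGroup.iff_card.1 (isPGroup_bar hU (center G))
  have b6 : ♯(bar (center G) U) = 4 := by
    rw [← card_bar (r_nZ U), hm] at b5 cyc
    rw [hm]
    rcases m with _ | _ | _ | m
    · simp at cyc
    · simp at cyc
    · rfl
    · have := Nat.one_le_two_pow (n := m)
      rw [pow_succ, pow_succ, pow_succ] at b5; omega
  refine h.nsW (H9.burnside_pq (p := 2) (q := 3) (a := 1) (b := 1) Nat.prime_two Nat.prime_three ?_)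
  rw [card_bar h.nW]
  refine (H2.relIndex_centralizer_dvd (bar_le_normalizer _ h.nU.norm)).trans
    (H2.card_mulAut_dvd_six b6 fun v => Subtype.ext ?_)
  obtain ⟨u, hu, e⟩ := (mem_bar' (r_nZ U)).1 v.2
  rw [coe_pow, ← e, ← coset_pow (r_nZ U hu), pow_two]
  exact coset_eq_one (h.sq hU hu)

end RAH

theorem r_ns (hs : ¬ Group.IsSolvable G) : ¬ Group.IsSolvable (⊤ : Subgroup G) := fun k =>
  hs (Group.isSolvable_of_surjective (f := (⊤ : Subgroup G).subtype) fun x => ⟨⟨x, trivial⟩, rfl⟩)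

theorem RA (hP : PCA G) (hs : ¬ Group.IsSolvable G) (N : Subgroup G) [N.Normal]
    (hN : Group.IsSolvable N) : N ≤ center G := by
  by_contra h0
  obtain ⟨L, -, l1, l2, l3⟩ := r_res (Nrm.refl ⊤) (r_ns hs)
  haveI := nrm_top_iff.1 l1
  obtain ⟨U, ⟨u1, u2, u3⟩, u4⟩ := wellFounded_lt.has_min
    {U : Subgroup G | U ⊴ ⊤ ∧ Group.IsSolvable U ∧ ¬ U ≤ center G} ⟨N, nrm_top_iff.2 ‹_›, hN, h0⟩
  have h : RAH L U := ⟨hP, fun H k e => r_ns hs (e ▸ k), l3, R1 hP l2 l3, u1, u3, fun X x1 x2 =>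
    by_contra fun e => u4 X ⟨x1, isSolvable_of_le x2.le u2, e⟩ x2⟩
  have zc : center G ≤ 𝐂(U) := by rw [← r_ctr]; exact cent_anti le_top
  have h1 : Group.IsNilpotent U := isNilpotent_of_bar_central zc (isNilpotent_of_comm
    ((comm_bar_iff (r_nZ U)).2 (h.min _ (u1.commutator u1) (der_lt u2 fun e => u3 (e ▸ bot_le)))))
  obtain ⟨r, hr, h2⟩ : ∃ r, ∃ _ : Fact r.Prime, ¬ core {r} U ≤ center G := by
    by_contra! e
    exact u3 (le_of_forall_syl fun q hq _ => ⟨_, syl_core_of_nil h1, e q hq⟩)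
  have h3 : IsPGroup r U := by
    rw [← (core_le {r} U).eq_or_lt.resolve_right fun e => h2 (h.min _ (u1.core _) e)]
    exact core_isPGroup U
  by_cases r2 : r = 2
  · subst r2
    by_cases ab : U ≤ 𝐂(U)
    exacts [h.ab2 h3 ab, h.nab2 h3 ab]
  · exact h.odd h3 r2

end Cfsg.Agent.MC
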