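import Cfsg.Agent.MC.R1
import Cfsg.Agent.MC.Frob
import Cfsg.Agent.BS.Frob

/-! Minimal non-CA groups, piece RC1: the fixed point subgroup `L ⊓ C(x)`. -/

set_option autoImplicit false
set_option linter.unusedSectionVars false

namespace Cfsg.Agent.MC

open Subgroup Cfsg.Agent.FT
open scoped commutatorElement

universe u
variable {G Q : Type u} [Group G] [Finite G] [Group Q] [Finite Q]

theorem rc_ti {H Y : Subgroup G} (h1 : H ≤ Y) (h0 : H ≠ ⊥)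
    (h : ∀ D ≤ H, D ≠ ⊥ → Y ⊓ 𝐍(D) ≤ H) : NormedTI (sharp H) Y H := by
  refine ⟨sharp_nonempty.2 h0, h1, fun g hg a ha => conj_mem_sharp (le_normalizer hg) ha,
    fun g hg a ha k => ?_⟩
  obtain ⟨p, hp, hd⟩ := exists_prime_dvd_card (ne_bot_of_mem
    (show g * a * g⁻¹ ∈ H ⊓ cj g H from ⟨k.1, conj_mem_cj ha.1⟩) k.2)
  have := Fact.mk hp
  obtain ⟨S, hS⟩ := exists_syl p (H ⊓ cj g H)
  have s0 := hS.ne_bot hd
  have s1 : cj g⁻¹ S ≤ H := by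
    rw [cj_le_iff_le_cj_inv, inv_inv]; exact hS.le.trans inf_le_right
  have s2 := h S (hS.le.trans inf_le_left) s0
  have s3 : Y ⊓ 𝐍(S) ≤ cj g H := by
    have := cj_mono g (h _ s1 (mt cj_eq_bot_iff.1 s0))
    rwa [cj_inf, cj_normalizer, cj_cj_inv, cj_eq_of_mem hg] at this
  have s4 := (hS.of_normalizer_le (inf_le_left.trans h1) (le_inf s2 s3)).of_le
    (hS.le.trans inf_le_left) h1
  obtain ⟨y, hy, e⟩ := s4.exists_cj_le (isPGroup_cj g⁻¹ hS.isPGroup) s1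
  rw [← cj_mul] at e
  have := s2 ⟨Y.mul_mem (h1 hy) (Y.inv_mem hg), mem_normalizer_of_cj_le e⟩
  exact (H.inv_mem_iff).1 ((H.mul_mem_cancel_left hy).1 this)

/-- the situation of a counterexample to `RC1` -/
structure RS (π : G →* Q) (L : Subgroup G) (x : G) (l : ℕ) : Prop where
  pca : PCA G
  nrm : L ⊴ ⊤
  ne : L ≠ ⊤
  perf : ⁅L, L⁆ = L
  ker : ∀ g, π g = 1 ↔ g ∈ center G
  simp : ∀ N, N ⊴ L.map π → N = ⊥ ∨ N = L.map π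
  nz : ¬ L ≤ center G
  xz : x ∉ center G
  xn : ¬ 𝐂[x] ≤ 𝐂((𝐂[x] : Subgroup G))
  lp : l.Prime
  xl : x ^ l ∈ center G

variable {π : G →* Q} {L N M B D : Subgroup G} {x a d g : G} {l : ℕ} {E : Subgroup Q}

theorem rc_z (X : Subgroup G) : center G ≤ 𝐂(X) := by rw [← r_ctr]; exact cent_anti le_top
theorem rc_z1 (y : G) : center G ≤ 𝐂[y] := by rw [← cent_zpowers]; exact rc_z _

namespace RS

theorem nL (h : RS π L x l) (X : Subgroup G) : X ≤ 𝐍(L) := le_top.trans h.nrm.norm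

theorem cL (h : RS π L x l) : 𝐂(L) ≤ center G :=
  haveI := nrm_top_iff.1 h.nrm
  R1 h.pca (fun e => h.nz (e ▸ bot_le)) h.perf

theorem kerZ (h : RS π L x l) : π.ker = center G := Subgroup.ext h.ker

theorem mb (h : RS π L x l) : N.map π = ⊥ ↔ N ≤ center G := by
  rw [Subgroup.map_eq_bot_iff, h.kerZ]

theorem of_map (h : RS π L x l) (h1 : center G ≤ N) (hg : π g ∈ N.map π) : g ∈ N := by
  have : g ∈ comap π (map π N) := hg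
  rwa [comap_map_eq, h.kerZ, sup_eq_left.2 h1] at this

theorem simp' (h : RS π L x l) (hN : N ⊴ L) : N ≤ center G ∨ L ≤ N := by
  refine (h.simp _ (hN.map π)).imp h.mb.1 fun e => ?_
  have h1 : L ≤ N ⊔ center G := fun g hg =>
    h.of_map le_sup_right (map_mono le_sup_left (e.ge (mem_map_of_mem π hg)))
  rw [← h.perf]
  refine commutator_le.2 fun a ha b hb => ?_
  have n := (rc_z N).trans (cent_le_norm N)
  obtain ⟨a, a1, z, z1, rfl⟩ := (mem_sup_of_le_normalizer' n).1 (h1 ha)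
  obtain ⟨b, b1, w, w1, rfl⟩ := (mem_sup_of_le_normalizer' n).1 (h1 hb)
  have : ⁅a * z, b * w⁆ = a * b * a⁻¹ * b⁻¹ :=
    calc _ = a * (z * (b * w)) * z⁻¹ * (w * a)⁻¹ * b⁻¹ := by rw [commutatorElement_def]; group
      _ = _ := by rw [← mem_center_iff.1 z1 (b * w), ← mem_center_iff.1 w1 a]; group
  rw [this]
  exact N.mul_mem (N.mul_mem (N.mul_mem a1 b1) (N.inv_mem a1)) (N.inv_mem b1)

theorem nc (h : RS π L x l) (ha : a ∉ center G) : ¬ L ≤ 𝐂[a] := fun e => ha (h.cL (le_cent1_iff.1 e))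

theorem ab (h : RS π L x l) (ha : a ∈ L) (ha' : a ∉ center G) : L ⊓ 𝐂[a] ≤ 𝐂(L ⊓ 𝐂[a]) :=
  (h.pca L h.ne).r_ab ha fun e => ha' (h.cL e)

theorem star (h : RS π L x l) (hB : B ≤ L) (hM : M ≤ 𝐍(B)) (hx : x ∈ M) (h1 : ¬ L ≤ B)
    (h2 : D ≤ B ⊔ M) (h3 : D ≤ 𝐂[x]) (h4 : ¬ D ≤ 𝐂(D)) : B ≤ 𝐂[x] := by
  by_cases e : B ⊔ M = ⊤
  · exact ((h.simp' ⟨hB, le_top.trans (e.ge.trans (sup_le le_normalizer hM))⟩).resolve_right
      h1).trans (rc_z1 x)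
  · exact le_sup_left.trans (le_cent1_iff.2 ((h.pca _ e).r_cent (mem_sup_right hx) h2
      (le_cent1_iff.1 h3) h4))

theorem inv (h : RS π L x l) (hB : B ≤ L) (hM : 𝐂[x] ≤ 𝐍(B)) (h1 : ¬ L ≤ B) : B ≤ 𝐂[x] :=
  h.star hB hM (mem_cent1_self x) h1 le_sup_right le_rfl h.xn

theorem fix (h : RS π L x l) (hg : g ∈ L) (h1 : π g ∈ 𝐂[π x]) : g ∈ 𝐂[x] := by
  have k : 𝐂[x] ≤ comap π 𝐂[π x] := fun y hy => mem_comap.2 (mem_cent1_iff.2 (by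
    rw [← map_mul, mem_cent1_iff.1 hy, map_mul]))
  refine h.inv (B := L ⊓ comap π 𝐂[π x]) inf_le_left
    (le_normalizer_inf (h.nL _) (k.trans le_normalizer)) (fun e => h.nc h.xz ?_) ⟨hg, h1⟩
  have c1 : ⁅L, zpowers x⁆ ≤ center G := by
    rw [← h.mb, map_commutator, ← le_cent_iff_commutator, MonoidHom.map_zpowers, cent_zpowers,
      map_le_iff_le_comap]
    exact e.trans inf_le_right
  have c2 : ⁅⁅L, zpowers x⁆, L⁆ = ⊥ := le_cent_iff_commutator.1 (c1.trans (rc_z L))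
  rw [← cent_zpowers, le_cent_iff_commutator, ← h.perf]
  exact commutator_commutator_eq_bot_of_rotate c2 (by rwa [commutator_comm (zpowers x)])

theorem mapY (h : RS π L x l) : (L ⊓ 𝐂[x]).map π = L.map π ⊓ 𝐂[π x] := by
  refine le_antisymm (le_inf (map_mono inf_le_left) ?_) ?_
  · rintro _ ⟨y, hy, rfl⟩
    exact mem_cent1_iff.2 (by rw [← map_mul, mem_cent1_iff.1 hy.2, map_mul])
  · rintro _ ⟨⟨y, hy, rfl⟩, k⟩
    exact mem_map_of_mem π ⟨hy, h.fix hy k⟩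

theorem perfQ (h : RS π L x l) : ⁅L.map π, L.map π⁆ = L.map π := by rw [← map_commutator, h.perf]

theorem nsol (h : RS π L x l) : ¬ Group.IsSolvable (L.map π) := fun e =>
  (der_lt e (mt h.mb.1 h.nz)).ne h.perfQ

theorem nQ (h : RS π L x l) : π x ∈ 𝐍(L.map π) :=
  le_normalizer_map π (mem_map_of_mem π (h.nL ⊤ trivial))

theorem ox (h : RS π L x l) : orderOf (π x) = l :=
  haveI := Fact.mk h.lp
  orderOf_eq_prime (by rw [← map_pow, h.ker]; exact h.xl) (mt (h.ker x).1 h.xz)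

/-- the fixed point subgroup is not abelian -/
theorem nab (h : RS π L x l) : ¬ L ⊓ 𝐂[x] ≤ 𝐂(L ⊓ 𝐂[x]) := fun e => by
  by_cases e1 : L ⊓ 𝐂[x] ≤ center G
  · refine h.nsol (isSolvable_of_nil (BS.nil_of_fpf h.nQ (mt (h.ker x).1 h.xz)
      (semiReg_of_card_prime (by rw [Nat.card_zpowers, h.ox]; exact h.lp) ?_)))
    rw [cent_zpowers, ← h.mapY, h.mb]; exact e1
  have k1 : L ⊓ 𝐍(L ⊓ 𝐂[x]) ≤ 𝐂[x] := h.inv inf_le_left (le_normalizer_inf (h.nL _)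
    ((le_normalizer_inf (h.nL _) le_normalizer).trans le_normalizer)) fun k =>
    (h.simp' ⟨inf_le_left, k.trans inf_le_right⟩).elim e1 fun k => h.nc h.xz (k.trans inf_le_right)
  refine e1 (le_of_forall_syl fun q _ _ => ?_)
  obtain ⟨R, hR⟩ := exists_syl q (L ⊓ 𝐂[x])
  refine ⟨R, hR, fun y hy => by_contra fun y1 => ?_⟩
  have k2 : L ⊓ 𝐂[x] ≤ L ⊓ 𝐂[y] := le_inf inf_le_left (e.trans (cent_le_cent1 (hR.le hy)))
  have k3 : L ⊓ 𝐂(R) = L ⊓ 𝐂[x] := le_antisymm (le_inf inf_le_left (le_trans (le_inf inf_le_left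
    ((inf_le_inf_left L (cent_le_cent1 hy)).trans ((h.ab (hR.le hy).1 y1).trans
      ((cent_anti k2).trans (cent_le_norm _))))) k1))
    (le_inf inf_le_left (e.trans (cent_anti hR.le)))
  have k4 : L ⊓ 𝐍(R) ≤ L ⊓ 𝐂[x] := le_inf inf_le_left (le_trans (le_inf inf_le_left (k3 ▸
    le_normalizer_inf (h.nL _) (inf_le_right.trans (H1.normalizer_le_normalizer_centralizer R)))) k1)
  rw [r_burn (hR.of_normalizer_le inf_le_left k4) (k4.trans (e.trans (cent_anti hR.le))) h.perf,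
    mem_bot] at hy
  exact y1 (hy ▸ one_mem _)

theorem lift (h : RS π L x l) (hg : π g ∈ 𝐍(E)) : g ∈ 𝐍(L ⊓ comap π E) :=
  le_normalizer_inf (h.nL _) (le_normalizer_comap π) (mem_comap.2 hg)

theorem nA (h : RS π L x l) (ha : a ∈ L) (ha' : a ∉ center G) (hD : D ≤ L ⊓ 𝐂[a]) (hd : d ∈ D)
    (hd' : d ∉ center G) : 𝐍(D) ≤ 𝐍(L ⊓ 𝐂[a]) := by
  have k : L ⊓ 𝐂(D) = L ⊓ 𝐂[a] := le_antisymm (le_inf inf_le_left
    ((inf_le_inf_left L (cent_le_cent1 hd)).trans ((h.ab (hD hd).1 hd').trans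
      (cent_le_cent1 ⟨ha, mem_cent1_comm.1 (hD hd).2⟩))))
    (le_inf inf_le_left ((h.ab ha ha').trans (cent_anti hD)))
  exact k ▸ le_normalizer_inf (h.nL _) (H1.normalizer_le_normalizer_centralizer D)

theorem nx (h : RS π L x l) (hD : x ∈ 𝐍(D)) : zpowers x ≤ 𝐍(L ⊓ 𝐍(D)) :=
  le_normalizer_inf (h.nL _) ((zpowers_le.2 hD).trans le_normalizer)

/-- an element that is not good is bad -/
theorem bad (h : RS π L x l) (ha : a ∈ L ⊓ 𝐂[x]) (ha' : a ∉ center G)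
    (hb : ¬ L ⊓ 𝐍(L ⊓ 𝐂[a]) ≤ 𝐂[x]) : L ⊓ 𝐍(L ⊓ 𝐂[a]) ⊓ 𝐂[x] ≤ 𝐂[a] := by
  refine le_trans (by_contra fun e => hb (h.star inf_le_left (h.nx (le_normalizer_inf (h.nL _)
    le_normalizer (mem_cent1_comm.1 ha.2))) (mem_zpowers x) (fun k => ?_)
    (inf_le_left.trans le_sup_left) inf_le_right e))
    (cent_le_cent1 ⟨⟨ha.1, le_normalizer ⟨ha.1, mem_cent1_self a⟩⟩, ha.2⟩)
  exact (h.simp' ⟨inf_le_left, k.trans inf_le_right⟩).elim (fun k => ha' (k ⟨ha.1, mem_cent1_self a⟩))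
    fun k => h.nc ha' (k.trans inf_le_right)

theorem good (h : RS π L x l) (hE : E ≤ L.map π ⊓ 𝐂[π x]) (hd : d ∈ L) (h1 : π d ∈ E)
    (hd' : d ∉ center G) (hg : L ⊓ 𝐍(L ⊓ 𝐂[d]) ≤ 𝐂[x]) : L.map π ⊓ 𝐍(E) ≤ L.map π ⊓ 𝐂[π x] := by
  rintro _ ⟨⟨g, g1, rfl⟩, g2⟩
  rw [← h.mapY]
  have k1 : L ⊓ comap π E ≤ 𝐂[x] := fun y hy => h.fix hy.1 (hE hy.2).2
  have k2 : d ∈ L ⊓ comap π E := ⟨hd, h1⟩
  refine mem_map_of_mem π ⟨g1, ?_⟩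
  by_cases e : L ⊓ comap π E ≤ 𝐂(L ⊓ comap π E)
  · exact hg ⟨g1, h.nA hd hd' (le_inf inf_le_left (e.trans (cent_le_cent1 k2))) k2 hd' (h.lift g2)⟩
  · refine h.star inf_le_left (h.nx (cent_le_norm _ (le_cent1_iff.1 k1))) (mem_zpowers x)
      (fun k => ?_) ((le_inf inf_le_left le_normalizer).trans le_sup_left) k1 e ⟨g1, h.lift g2⟩
    exact (h.simp' ⟨inf_le_left, k.trans inf_le_right⟩).elim (fun k => hd' (k k2))
      fun k => h.nc h.xz (k.trans k1)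

theorem ex (h : RS π L x l) (hE : E ≤ M.map π) (h0 : E ≠ ⊥) : ∃ d ∈ M, π d ∈ E ∧ d ∉ center G := by
  obtain ⟨_, h1, h2⟩ := exists_ne_one_of_ne_bot h0
  obtain ⟨d, hd, rfl⟩ := hE h1
  exact ⟨d, hd, h1, mt (h.ker d).2 h2⟩

theorem badN (h : RS π L x l) (ha : a ∈ L ⊓ 𝐂[x]) (ha' : a ∉ center G)
    (hb : ¬ L ⊓ 𝐍(L ⊓ 𝐂[a]) ≤ 𝐂[x]) (E : Subgroup Q) (hE : E ≤ (L ⊓ 𝐂[x] ⊓ 𝐂[a]).map π) (h0 : E ≠ ⊥) :
    L.map π ⊓ 𝐂[π x] ⊓ 𝐍(E) ≤ (L ⊓ 𝐂[x] ⊓ 𝐂[a]).map π := by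
  rintro _ ⟨⟨⟨g, g1, rfl⟩, g2⟩, g3⟩
  obtain ⟨d, d1, d2, d3⟩ := h.ex hE h0
  have g4 := h.fix g1 g2
  refine mem_map_of_mem π ⟨⟨g1, g4⟩, h.bad ha ha' hb ⟨⟨g1, h.nA ha.1 ha' (le_inf inf_le_left
    fun y hy => h.of_map (rc_z1 a) (map_mono inf_le_right (hE hy.2))) ⟨d1.1.1, d2⟩ d3 (h.lift g3)⟩, g4⟩⟩

theorem badL (h : RS π L x l) : (L ⊓ 𝐂[x] ⊓ 𝐂[a]).map π ≤ L.map π ⊓ 𝐂[π x] :=
  h.mapY ▸ map_mono inf_le_left

theorem bad0 (h : RS π L x l) (ha : a ∈ L ⊓ 𝐂[x]) (ha' : a ∉ center G) :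
    (L ⊓ 𝐂[x] ⊓ 𝐂[a]).map π ≠ ⊥ := fun e => ha' (h.mb.1 e ⟨ha, mem_cent1_self a⟩)

theorem exbad (h : RS π L x l) :
    ∃ a ∈ L ⊓ 𝐂[x], a ∉ center G ∧ ¬ L ⊓ 𝐍(L ⊓ 𝐂[a]) ≤ 𝐂[x] := by
  by_contra! k
  have y0 : L.map π ⊓ 𝐂[π x] ≠ ⊥ := fun e => h.nab ((h.mb.1 (h.mapY.trans e)).trans (rc_z _))
  obtain ⟨K, k1, k2, k3, -⟩ := frob (rc_ti inf_le_left y0 fun E e1 e2 =>
    let ⟨d, d1, d2, d3⟩ := h.ex (e1.trans h.mapY.ge) e2
    h.good e1 d1.1 d2 d3 (k d d1 d3))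
  rcases h.simp K k1 with e | e
  · exact h.nc h.xz fun g hg => h.fix hg (k3 e (mem_map_of_mem π hg)).2
  · rw [e, ← inf_assoc, inf_idem] at k2
    exact y0 k2

/-- the Frobenius kernel of the fixed point subgroup -/
theorem kernel (h : RS π L x l) : ∃ K, K ⊴ L.map π ⊓ 𝐂[π x] ∧ K ≠ L.map π ⊓ 𝐂[π x] ∧ K ≠ ⊥ ∧
    (∀ d ∈ K, d ≠ 1 → L.map π ⊓ 𝐂[d] ≤ K) ∧ ∀ E ≤ K, E ≠ ⊥ → L.map π ⊓ 𝐍(E) ≤ 𝐂[π x] := by
  obtain ⟨a, ha, a1, a2⟩ := h.exbad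
  obtain ⟨K, k1, k2, k3, k4⟩ := frob (rc_ti h.badL (h.bad0 ha a1) (h.badN ha a1 a2))
  have k5 : K ≠ L.map π ⊓ 𝐂[π x] := fun e => h.bad0 ha a1 (by
    rw [e, inf_eq_right.2 h.badL] at k2; exact k2)
  have k6 : ∀ E ≤ K, E ≠ ⊥ → L.map π ⊓ 𝐍(E) ≤ L.map π ⊓ 𝐂[π x] := fun E e1 e2 => by
    obtain ⟨d, d1, d2, d3⟩ := h.ex ((e1.trans k1.le).trans h.mapY.ge) e2
    refine h.good (e1.trans k1.le) d1.1 d2 d3 (by_contra fun b => k5 ?_)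
    obtain ⟨p, hp, hd⟩ := exists_prime_dvd_card (h.bad0 d1 d3)
    have := Fact.mk hp
    obtain ⟨R, hR⟩ := exists_syl p ((L ⊓ 𝐂[x] ⊓ 𝐂[d]).map π)
    have r1 := h.badN d1 d3 b R hR.le (hR.ne_bot hd)
    have r2 : (L ⊓ 𝐂[x] ⊓ 𝐂[d]).map π ≤ K := by
      refine le_trans (le_inf h.badL ?_) (k4 _ (e1 d2) (mt (h.ker d).1 d3))
      rintro _ ⟨y, hy, rfl⟩
      exact mem_cent1_iff.2 (by rw [← map_mul, mem_cent1_iff.1 hy.2, map_mul])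
    rw [← (hR.of_normalizer_le r2 ((inf_le_inf_right _ k1.le).trans r1)).frattini' k1,
      sup_eq_left.2 (r1.trans r2)]
  refine ⟨K, k1, k5, fun e => h.nab ?_, fun d d1 d2 => le_trans (le_inf (le_trans
    (inf_le_inf_left _ ?_) (k6 _ (zpowers_le.2 d1) (mt zpowers_eq_bot.1 d2))) inf_le_right)
    (k4 d d1 d2), fun E e1 e2 => (k6 E e1 e2).trans inf_le_right⟩
  · have : L ⊓ 𝐂[x] ≤ L ⊓ 𝐂[a] := le_inf inf_le_left fun y hy => h.of_map (rc_z1 a)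
      (map_mono inf_le_right (k3 e (h.mapY ▸ mem_map_of_mem π hy)))
    exact this.trans ((h.ab ha.1 a1).trans (cent_anti this))
  · rw [← cent_zpowers]; exact cent_le_norm _

end RS

end Cfsg.Agent.MC
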