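import Cfsg.Agent.MC.RC1a
import Cfsg.Agent.MC.QO1

/-! Minimal non-CA groups, piece RC1: the case of an involutory automorphism. -/

set_option autoImplicit false
set_option linter.unusedSectionVars false

namespace Cfsg.Agent.MC

open Subgroup Cfsg.Agent.FT
open scoped commutatorElement

universe u
variable {G Q : Type u} [Group G] [Finite G] [Group Q] [Finite Q]

theorem rc_mv {M S : Subgroup G} [IsSimpleGroup M] (hn : ¬ M ≤ 𝐂(M)) (hS : Syl 2 S M)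
    (h1 : S ≤ 𝐂(S)) {v : G} (hv : v ∈ S) (v1 : v ≠ 1) : ¬ M ⊓ 𝐍(S) ≤ 𝐂[v] := fun e => by
  obtain ⟨g, hg, k⟩ := qo_mv (G := M) (by
      by_contra! k
      exact hn fun b hb => mem_cent_iff.2 fun a ha => congrArg Subtype.val (k ⟨a, ha⟩ ⟨b, hb⟩))
    hS.toSylow (fun a ha b hb => Subtype.ext (mem_cent_iff.1 (h1 hb) a ha)) (v := ⟨v, hS.le hv⟩) hv
    fun e => v1 (congrArg Subtype.val e)
  rw [hS.coe_toSylow, ← subgroupOf_normalizer_eq hS.le] at hg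
  exact k (Subtype.ext (mul_inv_eq_iff_eq_mul.2 (mem_cent1_iff.1 (e ⟨g.2, hg⟩))))

/-- the Sylow `2`-subgroup -/
theorem rc_syl {M : Subgroup G} (hM : M ⊴ ⊤) (h2 : ⁅M, M⁆ = M) {x a : G} (x2 : orderOf x = 2)
    (ha : a ∈ M ⊓ 𝐂[x]) (a2 : orderOf a = 2)
    (h : ∀ y ∈ M ⊓ 𝐂[x], y * a = a * y → y = 1 ∨ y = a) :
    ∃ P : Subgroup G, IsPGroup 2 P ∧ x ∈ P ∧ a ∈ P ∧ Syl 2 (P ⊓ M) M ∧ ∃ b ∈ P ⊓ M, b ∉ 𝐂[x] ∧
      (b * b = a ∨ b * x * (b * x) = a) := by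
  have xx : x * x = 1 := by rw [← pow_two, ← x2, pow_orderOf_eq_one]
  have aa : a * a = 1 := by rw [← pow_two, ← a2, pow_orderOf_eq_one]
  have a1 : a ≠ 1 := fun e => by rw [e, orderOf_one] at a2; omega
  have p : ∀ {y : G}, y * y = 1 → IsPGroup 2 (zpowers y) := fun e =>
    H1.isPGroup_zpowers (k := 1) (by rw [pow_one, pow_two, e])
  obtain ⟨P, hP, k1⟩ := exists_syl_ge (isPGroup_sup (p xx) (p aa) (zpowers_le.2 (cent_le_norm _
    (by rw [cent_zpowers]; exact mem_cent1_comm.1 ha.2)))) (le_top (a := zpowers x ⊔ zpowers a))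
  have xP : x ∈ P := k1 (mem_sup_left (mem_zpowers x))
  have aP : a ∈ P := k1 (mem_sup_right (mem_zpowers a))
  have hS := hP.inf_of_nrm hM
  have n : P ⊓ M ⊴ P := hM.inf_left le_top
  have nil := isNilpotent_of_isPGroup hP.isPGroup
  have aS : a ∈ P ⊓ M := ⟨aP, ha.1⟩
  obtain ⟨w, hw, w1⟩ := exists_ne_one_of_ne_bot (inf_ctr_ne_bot nil n (ne_bot_of_mem aS a1))
  obtain rfl : w = a := (h w ⟨hw.1.2, cent_le_cent1 xP hw.2⟩
    (mem_cent_iff.1 hw.2 a aP).symm).resolve_left w1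
  have k2 : ∀ y ∈ P ⊓ M, y ∈ 𝐂[x] → y = 1 ∨ y = w := fun y hy e =>
    h y ⟨hy.2, e⟩ (mem_cent_iff.1 hw.2 y hy.1)
  have k3 : ¬ P ⊓ M ≤ 𝐂[x] := fun e => ne_bot_of_mem aS a1 (r_burn hS (fun g hg =>
    mem_cent_iff.2 fun y hy => by
      rcases k2 y hy (e hy) with rfl | rfl
      · rw [one_mul, mul_one]
      · have c := H1.conj_mem_of_mem_normalizer hg.2 hy
        exact (mul_inv_eq_iff_eq_mul.1 ((k2 _ c (e c)).resolve_left (conj_ne_one w1))).symm) h2)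
  have v1 : P ⊓ M ⊓ 𝐂[x] ⊔ zpowers x ≤ 𝐂[x] := sup_le inf_le_right (zpowers_le.2 (mem_cent1_self x))
  have nx : zpowers x ≤ 𝐍(P ⊓ M) := (zpowers_le.2 xP).trans n.norm
  have k4 := lt_inf_normalizer (isNilpotent_of_le (sup_le inf_le_left (zpowers_le.2 xP)) nil)
    ((sup_le_sup_right inf_le_left _).lt_of_ne fun e => k3 (le_sup_left.trans (e.ge.trans v1)))
  rw [inf_comm (P ⊓ M ⊔ zpowers x), inf_sup_of_le' (le_sup_right.trans le_normalizer) (.inr nx)] at k4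
  obtain ⟨b, hb, b1⟩ : ∃ b ∈ 𝐍(P ⊓ M ⊓ 𝐂[x] ⊔ zpowers x) ⊓ (P ⊓ M), b ∉ 𝐂[x] := by
    by_contra! k
    exact k4.not_ge (sup_le_sup_right (le_inf inf_le_right k) _)
  have xi : x⁻¹ = x := inv_eq_of_mul_eq_one_left xx
  have c1 : b * x * b⁻¹ * x⁻¹ = w := by
    refine (k2 _ ?_ (mul_mem (v1 (H1.conj_mem_of_mem_normalizer hb.1 (mem_sup_right (mem_zpowers x))))
      (inv_mem (mem_cent1_self x)))).resolve_left fun e => b1 (mem_cent1_iff.2 ?_)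
    · rw [mul_assoc, mul_assoc, ← mul_assoc x]
      exact mul_mem hb.2 (n.conj_mem xP (inv_mem hb.2))
    · rwa [mul_inv_eq_one, mul_inv_eq_iff_eq_mul] at e
  have c2 : b * x = w * x * b := by rw [← c1]; group
  have c3 := mem_cent_iff.1 hw.2 b hb.2.1
  refine ⟨P, hP.isPGroup, xP, aP, hS, b, hb.2, b1, ?_⟩
  refine (k2 _ (mul_mem hb.2 hb.2) (mem_cent1_iff.2 ?_)).symm.imp_right fun e => ?_
  · calc b * b * x = b * w * x * b := by rw [mul_assoc, c2]; group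
      _ = w * (b * x) * b := by rw [c3]; group
      _ = w * w * (x * (b * b)) := by rw [c2]; group
      _ = _ := by rw [aa, one_mul]
  · rw [← c1, xi, inv_eq_of_mul_eq_one_left e]; group

variable {π : G →* Q} {L : Subgroup G} {x : G}

theorem RS.two (h : RS π L x 2) (hπ : Function.Surjective π) [IsSimpleGroup (L.map π)] {a : Q}
    (ha : a ∈ L.map π ⊓ 𝐂[π x]) (a2 : orderOf a = 2)
    (h1 : ∀ y ∈ L.map π ⊓ 𝐂[π x], y * a = a * y → y = 1 ∨ y = a) : False := by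
  have hM : L.map π ⊴ ⊤ := by have := h.nrm.map π; rwa [map_top_of_surjective π hπ] at this
  obtain ⟨P, p1, p2, p3, p4, _, ⟨p5, b, hb, rfl⟩, p6, p7⟩ := rc_syl hM h.perfQ h.ox ha a2 h1
  obtain ⟨⟨a, a0, rfl⟩, ha⟩ := ha
  have a1 : π a ≠ 1 := fun e => by rw [e, orderOf_one] at a2; omega
  have a3 := mt (h.ker a).2 a1
  have ax := mem_cent1_comm.1 (h.fix a0 ha)
  have k1 : ∀ y, π y * π y = π a → y ∈ 𝐂[a] := fun y e => by
    have : (y * y)⁻¹ * a ∈ 𝐂[y] := rc_z1 y ((h.ker _).1 (by rw [map_mul, map_inv, map_mul, e, inv_mul_cancel]))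
    exact mem_cent1_comm.1 ((mul_mem_cancel_left
      (inv_mem (mul_mem (mem_cent1_self y) (mem_cent1_self y)))).1 this)
  have ba : b ∈ 𝐂[a] := p7.elim (k1 b) fun e =>
    (mul_mem_cancel_right ax).1 (k1 _ (by rw [map_mul]; exact e))
  have bx : b * x ≠ x * b := fun e => p6 (mem_cent1_iff.2 (by rw [← map_mul, e, map_mul]))
  have k2 : comap π P ≠ ⊤ := fun e => h.nsol (isSolvable_of_isPGroup (isPGroup_of_le (by
    rintro _ ⟨y, -, rfl⟩; exact e.ge (mem_top y)) p1))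
  have k3 : a ∈ 𝐂(comap π P) := by_contra fun e =>
    bx ((h.pca _ k2).r_comm p3 e p5 p2 (mem_cent1_iff.1 ba) (mem_cent1_iff.1 ax))
  have k4 : L ⊓ comap π (P ⊓ L.map π) ≤ L ⊓ 𝐂[a] :=
    inf_le_inf_left _ ((comap_mono inf_le_left).trans (le_cent1_iff.2 k3))
  have k5 : a ∈ L ⊓ comap π (P ⊓ L.map π) := ⟨a0, p3, mem_map_of_mem π a0⟩
  have k6 : 𝐍(L ⊓ comap π (P ⊓ L.map π)) ≤ 𝐂[a] := by
    refine le_cent1_iff.2 ((h.pca _ fun e => ?_).r_cent (le_normalizer k5)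
      (fun y hy => h.lift ((hM.inf_left le_top).norm hy)) k3
      fun e => bx (mem_cent_iff.1 (e p2) b p5))
    exact (h.simp' ⟨inf_le_left, le_top.trans e.ge⟩).elim (fun k => a3 (k k5))
      fun k => h.nc a3 ((k.trans k4).trans inf_le_right)
  refine rc_mv (fun e => h.nsol (isSolvable_of_nil (isNilpotent_of_comm (comm_iff_le_cent.2 e)))) p4
    ?_ (v := π a) k5.2 a1 ?_
  · rintro _ ⟨y1, y, hy, rfl⟩
    refine mem_cent_iff.2 ?_
    rintro _ ⟨w1, w, hw, rfl⟩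
    rw [← map_mul, mem_cent_iff.1 (h.ab a0 a3 (k4 ⟨hy, y1, mem_map_of_mem π hy⟩)) w
      (k4 ⟨hw, w1, mem_map_of_mem π hw⟩), map_mul]
  · rintro _ ⟨⟨g, -, rfl⟩, g2⟩
    exact mem_cent1_iff.2 (by rw [← map_mul, mem_cent1_iff.1 (k6 (h.lift g2)), map_mul])

end Cfsg.Agent.MC
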